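import Groth.Agent.ThetaS.K942.Coord

/-!
# Affine morphisms are Θ-reductive and S-complete

`liftsUniquely_theta`, `liftsUniquely_st`: the lifting criterion of `K943.QuotOpen` for `Θ_R`, `ST_R`;
`isThetaReductive_of_uRep`, `isSComplete_of_uRep`.
-/

set_option autoImplicit false
set_option linter.dupNamespace false
set_option linter.style.haveILetI false
set_option backward.isDefEq.respectTransparency false
set_option backward.isDefEq.respectTransparency.types false

universe v₂ u₂ v₁ u₁ u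

open CategoryTheory MonoidalCategory CartesianMonoidalCategory MonObj GrpObj AlgebraicGeometry
  TopologicalSpace Opposite
open scoped TensorProduct Polynomial

namespace K942.AffMain

open ThetaS K943.LocPair K943.QuotOpen Coord

section crit

variable {K : Precoverage Scheme.{u}} [K.HasIsos] [K.IsStableUnderBaseChange] {S : Scheme.{u}}
  {𝒳 : BasedCategory.{v₁, u₁} (Over S)} {𝒴 : BasedCategory.{v₂, u₂} (Over S)} {f : 𝒳 ⥤ᵇ 𝒴}
  {R : Type u} [CommRing R]

instance flat_Gm : Flat (Gm R).hom := by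
  change Flat (Spec.map (CommRingCat.ofHom (algebraMap R (Lau R))))
  rw [HasRingHomProperty.Spec_iff (P := @Flat)]
  exact RingHom.flat_algebraMap_iff.2 inferInstance

instance affine_Gm : IsAffineHom (Gm R).hom := by
  change IsAffineHom (Spec.map (CommRingCat.ofHom (algebraMap R (Lau R))))
  infer_instance

theorem liftsUniquely_theta (ϖ : R) (h : Spec (CommRingCat.of R) ⟶ S)
    (h𝒳 : Stk.IsStack (QuotSh.J K S) 𝒳) (h𝒴 : Stk.IsPrestack (QuotSh.J K S) 𝒴)
    (H : UniqFlat h (Uline ϖ) f)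
    (H0 : LiftsAt ((Over.map h).map (openMap (𝟙 (Line R)) (Uline ϖ))) f) :
    LiftSq.LiftsUniquely (thetaIncl K R ϖ h) f := by
  have := liftsUniquely_quot (K := K) (aX := lineAction R) h (stable_line ϖ) h𝒳 h𝒴 H H0
  rw [← missesOrigin_eq K ϖ] at this
  exact this

theorem liftsUniquely_st (π : R) (h : Spec (CommRingCat.of R) ⟶ S)
    (h𝒳 : Stk.IsStack (QuotSh.J K S) 𝒳) (h𝒴 : Stk.IsPrestack (QuotSh.J K S) 𝒴)
    (H : UniqFlat h (Ust π) f)
    (H0 : LiftsAt ((Over.map h).map (openMap (𝟙 (STSch R π)) (Ust π))) f) :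
    LiftSq.LiftsUniquely (stIncl K R π h) f := by
  have := liftsUniquely_quot (K := K) (aX := stAction R π) h (stable_st π) h𝒳 h𝒴 H H0
  rw [← missesNode_eq K π] at this
  exact this

end crit

section aff

variable {S : Scheme.{u}} {R : Type u} [CommRing R]
  {𝒳 : BasedCategory.{v₁, u₁} (Over S)} {𝒴 : BasedCategory.{v₂, u₂} (Over S)} {f : 𝒳 ⥤ᵇ 𝒴}

theorem liftsAt_of_isIso [FibCat.IsFibGrpd 𝒳.p] 
    (hf : URep.URep (MorphismProperty.inverseImage @IsAffineHom (Over.forget S)) f)
    {V T : Over S} (i : V ⟶ T) [IsAffine T.left] [IsIso i.left.appTop] : LiftsAt i f :=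
  fun y xv c h => AffLift.liftsAt hf (Hartogs.ext_affine i) y xv c h

theorem uniqAt_of_isIso [FibCat.IsFibGrpd 𝒳.p]
    (hf : URep.URep (MorphismProperty.inverseImage @IsAffineHom (Over.forget S)) f)
    {V T : Over S} (i : V ⟶ T) [IsAffine T.left] [IsIso i.left.appTop] : UniqAt i f :=
  fun xv x x' t t' ψ h1 h2 h3 h4 => AffLift.uniqAt hf (Hartogs.ext_affine i) xv x x' t t' ψ h1 h2 h3 h4

theorem isPrestack {K : Precoverage Scheme.{u}} (h : Stk.IsStack (QuotSh.J K S) 𝒴) :
    Stk.IsPrestack (QuotSh.J K S) 𝒴 :=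
  ⟨h.1, fun _ R hR => K943.CoverExt.prestackFor_of_stackFor (h.2 R hR)⟩

theorem isThetaReductive_of_uRep (h𝒳 : Stk.IsStack (QuotSh.J Scheme.fppfPrecoverage S) 𝒳)
    (h𝒴 : Stk.IsPrestack (QuotSh.J Scheme.fppfPrecoverage S) 𝒴)
    (hf : URep.URep (MorphismProperty.inverseImage @IsAffineHom (Over.forget S)) f) :
    IsThetaReductive Scheme.fppfPrecoverage f := by
  intro R _ _ _ ϖ hϖ h
  have := h𝒳.1
  refine liftsUniquely_theta ϖ h h𝒳 h𝒴 ?_ ?_
  · intro Y y hy hY
    haveI : IsAffine ((Over.map h).obj Y).left := hY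
    haveI : IsIso ((Over.map h).map (openMap y (Uline ϖ))).left.appTop := isIso_line hϖ.ne_zero y
    exact uniqAt_of_isIso hf _
  · haveI : IsAffine ((Over.map h).obj (Line R)).left := isAffine_line
    haveI : Flat (𝟙 (Line R) : Line R ⟶ Line R).left := by change Flat (𝟙 (Line R).left); infer_instance
    haveI : IsIso ((Over.map h).map (openMap (𝟙 (Line R)) (Uline ϖ))).left.appTop :=
      isIso_line hϖ.ne_zero (𝟙 (Line R))
    exact liftsAt_of_isIso hf _

theorem isSComplete_of_uRep (h𝒳 : Stk.IsStack (QuotSh.J Scheme.fppfPrecoverage S) 𝒳)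
    (h𝒴 : Stk.IsPrestack (QuotSh.J Scheme.fppfPrecoverage S) 𝒴)
    (hf : URep.URep (MorphismProperty.inverseImage @IsAffineHom (Over.forget S)) f) :
    IsSComplete Scheme.fppfPrecoverage f := by
  intro R _ _ _ π hπ h
  have := h𝒳.1
  refine liftsUniquely_st π h h𝒳 h𝒴 ?_ ?_
  · intro Y y hy hY
    haveI : IsAffine ((Over.map h).obj Y).left := hY
    haveI : IsIso ((Over.map h).map (openMap y (Ust π))).left.appTop := isIso_st hπ.ne_zero y
    exact uniqAt_of_isIso hf _
  · haveI : IsAffine ((Over.map h).obj (STSch R π)).left := isAffine_st π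
    haveI : Flat (𝟙 (STSch R π) : STSch R π ⟶ STSch R π).left := by
      change Flat (𝟙 (STSch R π).left); infer_instance
    haveI : IsIso ((Over.map h).map (openMap (𝟙 (STSch R π)) (Ust π))).left.appTop :=
      isIso_st hπ.ne_zero (𝟙 (STSch R π))
    exact liftsAt_of_isIso hf _

end aff

end K942.AffMain
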