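import Groth.Agent.ThetaS.K942.RegPair
import Mathlib.RingTheory.DiscreteValuationRing.Basic
import Mathlib.RingTheory.Polynomial.Basic
import Mathlib.RingTheory.Localization.FractionRing

/-!
# The regular pairs `(x, ϖ)` of `R[x]` and `(s, t)` of `R[s, t]/(st − π)`

`Good a b`: a regular pair of a Noetherian domain `A` with `A/a` a principal ideal domain.
-/

set_option autoImplicit false
set_option linter.dupNamespace false
set_option linter.style.haveILetI false
set_option backward.isDefEq.respectTransparency false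
set_option backward.isDefEq.respectTransparency.types false

universe u

open scoped Polynomial

namespace K942.Good

open RegPair ThetaS

/-- A regular pair of a Noetherian domain `A` with `A/a` a principal ideal domain. -/
structure Good {A : Type u} [CommRing A] (a b : A) : Prop where
  dom : IsDomain A
  noeth : IsNoetherianRing A
  domq : IsDomain (A ⧸ Ideal.span {a})
  pirq : IsPrincipalIdealRing (A ⧸ Ideal.span {a})
  reg : RegPair a b

variable {A B : Type u} [CommRing A] [CommRing B]

theorem quot_of_ker (φ : A →+* B) (hφ : Function.Surjective φ) [IsDomain B] [IsPrincipalIdealRing B]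
    {a : A} (h : RingHom.ker φ = Ideal.span {a}) :
    IsDomain (A ⧸ Ideal.span {a}) ∧ IsPrincipalIdealRing (A ⧸ Ideal.span {a}) := by
  rw [← h]
  have h1 : (RingHom.ker φ).IsPrime := RingHom.ker_isPrime φ
  let e := RingHom.quotientKerEquivOfSurjective hφ
  refine ⟨Ideal.Quotient.isDomain _, ?_⟩
  exact IsPrincipalIdealRing.of_surjective (e.symm : B →+* A ⧸ RingHom.ker φ) e.symm.surjective

theorem Good.map (e : A ≃+* B) {a b : A} (h : Good a b) : Good (e a) (e b) := by
  have hI : Ideal.span {e a} = (Ideal.span {a}).map (e : A →+* B) := by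
    rw [Ideal.map_span, Set.image_singleton]; rfl
  let q := Ideal.quotientEquiv (Ideal.span {a}) (Ideal.span {e a}) e hI
  have := h.dom
  have := h.noeth
  have := h.domq
  have := h.pirq
  refine ⟨e.symm.injective.isDomain (e.symm : B →+* A), ?_, q.symm.injective.isDomain q.symm.toRingHom, ?_, ?_⟩
  · exact isNoetherianRing_of_surjective A B (e : A →+* B) e.surjective
  · exact IsPrincipalIdealRing.of_surjective q.toRingHom q.surjective
  · refine ⟨fun x hx => ?_, fun x y hxy => ?_⟩
    · have h1 := h.reg.nzd (e.symm x) (by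
        rw [← e.symm_apply_apply a, ← map_mul, hx, map_zero])
      rw [← e.apply_symm_apply x, h1, map_zero]
    · obtain ⟨z, hz⟩ := h.reg.reg (e.symm x) (e.symm y) (by
        apply e.injective
        rw [map_mul, map_mul, e.apply_symm_apply, e.apply_symm_apply, hxy])
      exact ⟨e z, by rw [← map_mul, ← hz, e.apply_symm_apply]⟩

section line

variable {R : Type u} [CommRing R] [IsDomain R] [IsDiscreteValuationRing R]

theorem good_line {ϖ : R} (h : ϖ ≠ 0) : Good (Polynomial.X : R[X]) (Polynomial.C ϖ) := by
  have h1 : RingHom.ker (Polynomial.evalRingHom (0 : R)) = Ideal.span {(Polynomial.X : R[X])} := by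
    ext p
    rw [RingHom.mem_ker, Ideal.mem_span_singleton, Polynomial.X_dvd_iff, Polynomial.coe_evalRingHom,
      Polynomial.coeff_zero_eq_eval_zero]
  obtain ⟨h2, h3⟩ := quot_of_ker (Polynomial.evalRingHom (0 : R))
    (fun r => ⟨Polynomial.C r, by simp⟩) h1
  exact ⟨inferInstance, inferInstance, h2, h3, RegPair.X_C h⟩

end line

section st

variable {R : Type u} [CommRing R]

theorem exists_pow_s (π : R) (x : STRing R π) :
    ∃ (n : ℕ) (p : R[X]), sFn R π ^ n * x = Polynomial.aeval (sFn R π) p := by
  obtain ⟨f, rfl⟩ := Ideal.Quotient.mk_surjective x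
  induction f using MvPolynomial.induction_on with
  | C r =>
    refine ⟨0, Polynomial.C r, ?_⟩
    rw [pow_zero, one_mul, Polynomial.aeval_C]
    rfl
  | add f g hf hg =>
    obtain ⟨n, p, hp⟩ := hf
    obtain ⟨m, q, hq⟩ := hg
    refine ⟨n + m, Polynomial.X ^ m * p + Polynomial.X ^ n * q, ?_⟩
    rw [map_add, map_add, map_mul, map_mul, map_pow, map_pow, Polynomial.aeval_X, ← hp, ← hq]
    ring
  | mul_X f i hf =>
    obtain ⟨n, p, hp⟩ := hf
    fin_cases i
    · refine ⟨n, p * Polynomial.X, ?_⟩
      rw [map_mul, map_mul, ← hp, Polynomial.aeval_X]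
      change sFn R π ^ n * (_ * sFn R π) = _
      ring
    · refine ⟨n + 1, p * Polynomial.C π, ?_⟩
      rw [map_mul, map_mul, ← hp, Polynomial.aeval_C]
      change sFn R π ^ (n + 1) * (_ * tFn R π) = _
      rw [← sFn_mul_tFn]
      ring

variable [IsDomain R]

/-- The embedding into the rational functions. -/
noncomputable def toFrac (π : R) : STRing R π →ₐ[R] FractionRing R[X] :=
  stPt (algebraMap R[X] (FractionRing R[X]) Polynomial.X)
    (algebraMap R[X] (FractionRing R[X]) (Polynomial.C π) / algebraMap R[X] (FractionRing R[X]) Polynomial.X) (by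
      rw [mul_div_cancel₀]
      · rw [← Polynomial.algebraMap_eq, ← IsScalarTower.algebraMap_apply]
      · rw [ne_eq, IsFractionRing.to_map_eq_zero_iff]
        exact Polynomial.X_ne_zero)

theorem toFrac_injective {π : R} (h : π ≠ 0) : Function.Injective (toFrac π) := by
  rw [injective_iff_map_eq_zero]
  intro x hx
  obtain ⟨n, p, hp⟩ := exists_pow_s π x
  have h1 : toFrac π (Polynomial.aeval (sFn R π) p) = 0 := by rw [← hp, map_mul, hx, mul_zero]
  have h2 : (toFrac π).comp (Polynomial.aeval (sFn R π)) =
      (IsScalarTower.toAlgHom R R[X] (FractionRing R[X])) := by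
    apply Polynomial.algHom_ext
    rw [AlgHom.comp_apply, Polynomial.aeval_X, toFrac, stPt_sFn]
    rfl
  have h3 : algebraMap R[X] (FractionRing R[X]) p = 0 := by
    rw [← h1]
    exact (congrArg (fun k => k p) h2).symm
  rw [IsFractionRing.to_map_eq_zero_iff] at h3
  rw [h3, map_zero] at hp
  exact (RegPair.s_t h).pow_left n x hp

theorem isDomain_st {π : R} (h : π ≠ 0) : IsDomain (STRing R π) :=
  (toFrac_injective h).isDomain (toFrac π).toRingHom

/-- The quotient by `s`. -/
noncomputable def modS (π : R) : STRing R π →ₐ[R] (R ⧸ Ideal.span {π})[X] :=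
  stPt 0 Polynomial.X (by
    rw [zero_mul, IsScalarTower.algebraMap_apply R (R ⧸ Ideal.span {π}) (R ⧸ Ideal.span {π})[X],
      Ideal.Quotient.algebraMap_eq, Ideal.Quotient.eq_zero_iff_mem.2 (Ideal.mem_span_singleton_self π),
      map_zero])

omit [IsDomain R] in
theorem exists_mod_s (π : R) (x : STRing R π) :
    ∃ (p : R[X]) (y : STRing R π), x = Polynomial.aeval (tFn R π) p + sFn R π * y := by
  obtain ⟨f, rfl⟩ := Ideal.Quotient.mk_surjective x
  induction f using MvPolynomial.induction_on with
  | C r =>
    refine ⟨Polynomial.C r, 0, ?_⟩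
    rw [mul_zero, add_zero, Polynomial.aeval_C]
    rfl
  | add f g hf hg =>
    obtain ⟨p, y, hp⟩ := hf
    obtain ⟨q, z, hq⟩ := hg
    refine ⟨p + q, y + z, ?_⟩
    rw [map_add, map_add, hp, hq]
    ring
  | mul_X f i hf =>
    obtain ⟨p, y, hp⟩ := hf
    fin_cases i
    · refine ⟨0, Polynomial.aeval (tFn R π) p + sFn R π * y, ?_⟩
      rw [map_mul, hp, map_zero, zero_add]
      change _ * sFn R π = _
      ring
    · refine ⟨p * Polynomial.X, y * tFn R π, ?_⟩
      rw [map_mul, hp, map_mul, Polynomial.aeval_X]
      change _ * tFn R π = _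
      ring

omit [IsDomain R] in
theorem ker_modS (π : R) : RingHom.ker (modS π).toRingHom = Ideal.span {sFn R π} := by
  ext x
  rw [RingHom.mem_ker, Ideal.mem_span_singleton]
  constructor
  · intro hx
    have hx' : modS π x = 0 := hx
    obtain ⟨p, y, rfl⟩ := exists_mod_s π x
    rw [map_add, map_mul, modS, stPt_sFn, zero_mul, add_zero, ← modS, ← Polynomial.aeval_algHom_apply] at hx'
    rw [modS, stPt_tFn] at hx'
    have h1 : Polynomial.map (Ideal.Quotient.mk (Ideal.span {π})) p = 0 := by
      rw [← hx', Polynomial.aeval_X_left_eq_map]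
      rfl
    have h2 : Polynomial.C π ∣ p := by
      rw [Polynomial.C_dvd_iff_dvd_coeff]
      intro i
      have := congrArg (fun q => q.coeff i) h1
      simp only [Polynomial.coeff_map, Polynomial.coeff_zero] at this
      rwa [Ideal.Quotient.eq_zero_iff_mem, Ideal.mem_span_singleton] at this
    obtain ⟨q, rfl⟩ := h2
    refine ⟨tFn R π * Polynomial.aeval (tFn R π) q + y, ?_⟩
    rw [map_mul, Polynomial.aeval_C, ← sFn_mul_tFn]
    ring
  · rintro ⟨y, rfl⟩
    change modS π (sFn R π * y) = 0
    rw [map_mul, modS, stPt_sFn, zero_mul]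

theorem good_st [IsDiscreteValuationRing R] {π : R} (h : Irreducible π) :
    Good (sFn R π) (tFn R π) := by
  haveI : (Ideal.span {π}).IsMaximal := by
    rw [← h.maximalIdeal_eq]
    infer_instance
  letI : Field (R ⧸ Ideal.span {π}) := Ideal.Quotient.field _
  obtain ⟨h2, h3⟩ := quot_of_ker (modS π).toRingHom (fun p => by
    obtain ⟨q, rfl⟩ := Polynomial.map_surjective _ Ideal.Quotient.mk_surjective p
    refine ⟨Polynomial.aeval (tFn R π) q, ?_⟩
    change modS π (Polynomial.aeval (tFn R π) q) = _
    rw [← Polynomial.aeval_algHom_apply, modS, stPt_tFn, Polynomial.aeval_X_left_eq_map]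
    rfl) (ker_modS π)
  haveI := isDomain_st h.ne_zero
  exact ⟨inferInstance, inferInstance, h2, h3, RegPair.s_t h.ne_zero⟩

end st

end K942.Good
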