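import Groth.Agent.ThetaS.K942.TorsBasis
import Groth.Agent.ThetaS.K942.Good
import Groth.Agent.IsoNat.K863.Pair

/-!
# Extension of `GL_n`-torsors over a regular closed point of a surface
-/

set_option autoImplicit false
set_option linter.dupNamespace false
set_option linter.style.haveILetI false
set_option backward.isDefEq.respectTransparency false
set_option backward.isDefEq.respectTransparency.types false

universe u

open CategoryTheory CategoryTheory.Limits MonoidalCategory CartesianMonoidalCategory MonObj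
  AlgebraicGeometry Opposite

namespace K942.GLExt

open EqAlg EqGeom RegPair TorsGeom TorsBasis K943.QuotAtlas K943.LocPair K943.QuotOpen Good ThetaS

variable {S : Scheme.{u}} {n : ℕ}

/-- Faithful matrix representations whose invertible matrices are points. -/
structure IsGL {G : Over S} [GrpObj G] (ρ : MatRep G n) : Prop where
  inj : ∀ {W : Over S} {w w' : W ⟶ G}, ρ.mat w = ρ.mat w' → w = w'
  surj : ∀ {W : Over S} (M : Matrix (Fin n) (Fin n) Γ(W.left, ⊤)), IsUnit M.det →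
    ∃ w : W ⟶ G, ρ.mat w = M

theorem isGL_glRep : IsGL (glRep (S := S) n) :=
  ⟨fun h => GLPts.mat_injective h, fun M hM => GLPts.exists_mat M hM⟩

variable {G : Over S} [GrpObj G] {ρ : MatRep G n} {X : Over S} {aX : AlgGrp.Action G X}

theorem isUnit_pb {P Z : Over S} (z : Z ⟶ P) (d : Γ(P.left, ⊤))
    (h : z.left ⁻¹ᵁ P.left.basicOpen d = ⊤) : IsUnit (pb z d) := by
  have h1 := Coord.preimage_basicOpen_top z.left d
  rw [h] at h1
  have h2 := Hartogs.isUnit_res (X := Z.left) (z.left.appTop d) (le_refl ⊤) h1.le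
  have h3 : (homOfLE (le_refl (⊤ : Z.left.Opens))) = 𝟙 _ := rfl
  rw [h3, op_id, Z.left.presheaf.map_id, CommRingCat.id_apply] at h2
  exact h2

theorem map_sm {P Z : Over S} {a : AlgGrp.Action G P} {E : Matrix (Fin n) (Fin n) Γ(P.left, ⊤)}
    (hE : E.map (pb a.act) = ρ.mat (fst G P) * E.map (pb (snd G P))) (g : Z ⟶ G) (p : Z ⟶ P) :
    E.map (pb (sm a g p)) = ρ.mat g * E.map (pb p) := by
  have h1 : (E.map (pb a.act)).map (pb (lift g p)) =
    (ρ.mat (fst G P) * E.map (pb (snd G P))).map (pb (lift g p)) := by rw [hE]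
  have h2 : ∀ {A B : Over S} (f : A ⟶ B) (h : B ⟶ P), (E.map (pb h)).map (pb f) = E.map (pb (f ≫ h)) := by
    intro A B f h
    ext j k
    exact (pb_comp f h _).symm
  rw [h2, Matrix.map_mul, h2, lift_snd, ← ρ.comp, lift_fst] at h1
  exact h1

/-- Where the determinant of a basis of equivariant vectors is invertible, the torsor is trivial. -/
theorem exists_hom_triv (hρ : IsGL ρ) {aX : AlgGrp.Action G (𝟙_ (Over S))}
    {x x' : AlgSt.QuotObj Scheme.fppfPrecoverage G aX} (α : x' ⟶ x)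
    {E : Matrix (Fin n) (Fin n) Γ(x.P.left, ⊤)}
    (hE : E.map (pb x.act.act) = ρ.mat (fst G x.P) * E.map (pb (snd G x.P)))
    (hd : IsUnit (pb α.top E.det)) {Y : Over S} (y : Y ⟶ 𝟙_ (Over S)) (f : x'.base ⟶ Y) :
    ∃ β : x' ⟶ uObj Scheme.fppfPrecoverage aX Y y, β.base = f := by
  obtain ⟨ε, hε⟩ := hρ.surj (E.map (pb α.top)) (by
    have : (E.map (pb α.top)).det = pb α.top E.det := by rw [RingHom.map_det]; rfl
    rw [this]; exact hd)
  have hε2 : ∀ {Z : Over S} (p : Z ⟶ x'.P), ρ.mat (p ≫ ε) = E.map (pb (p ≫ α.top)) := by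
    intro Z p
    rw [ρ.comp, hε]
    ext j k
    exact (pb_comp p α.top _).symm
  have heqv : x'.act.act ≫ lift ε (x'.π ≫ f) = (G ◁ lift ε (x'.π ≫ f)) ≫ (AlgSt.leftMul G Y).act := by
    apply eqv_of_sm
    intro T g p
    rw [sm_leftMul, comp_lift, comp_lift, lift_fst, lift_snd]
    have e1 : sm x'.act g p ≫ ε = g * (p ≫ ε) := by
      apply hρ.inj
      rw [hε2, sm_eqv α.eqv, map_sm hE, ρ.mul, hε2]
    have e2 : sm x'.act g p ≫ x'.π ≫ f = p ≫ x'.π ≫ f := by
      rw [← Category.assoc, K943.QuotAtlas.sm_π, Category.assoc]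
    rw [e1, e2]
  refine ⟨{ base := f
            top := lift ε (x'.π ≫ f)
            eqv := heqv
            cart := K824.BalProd.cart_of_eqv (K := Scheme.fppfPrecoverage) x'.cart
              (uObj Scheme.fppfPrecoverage aX Y y).cart x'.loc heqv (lift_snd _ _)
            wφ := Subsingleton.elim _ _ }, rfl⟩

theorem liftsAt_self {C : Type*} [Category* C] {𝒳 : BasedCategory C} {V T : C} (i : V ⟶ T)
    (H : ∀ xv : 𝒳.obj, 𝒳.p.obj xv = V → ∃ (x : 𝒳.obj) (t : xv ⟶ x), 𝒳.p.IsHomLift i t) :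
    LiftsAt i (FibCat.toSelf 𝒳) := by
  intro y xv c hc'
  have hc : (𝟭 C).IsHomLift i c := hc'
  have e0 : 𝒳.p.obj xv = V := IsHomLift.domain_eq (𝟭 C) i c
  obtain ⟨x, t, ht⟩ := H xv e0
  have e1 : 𝒳.p.obj x = T := IsHomLift.codomain_eq 𝒳.p i t
  have e2 : y = T := IsHomLift.codomain_eq (𝟭 C) i c
  have hβ : (𝟭 C).IsHomLift (𝟙 T) (eqToHom (e1.trans e2.symm)) := by
    have : ∀ {a c T : C} (h1 : a = T) (h2 : c = T), (𝟭 C).IsHomLift (𝟙 T) (eqToHom (h1.trans h2.symm)) := by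
      rintro a b T rfl rfl
      exact IsHomLift.map (𝟭 C) (𝟙 _)
    exact this e1 e2
  refine ⟨x, t, eqToHom (e1.trans e2.symm), ht, hβ, ?_⟩
  refine K943.SelfLift.hom_eq i _ _ ?_ hc
  have h2 : (𝟭 C).IsHomLift i ((FibCat.toSelf 𝒳).map t) :=
    BasedFunctor.preserves_isHomLift (FibCat.toSelf 𝒳) _ _
  have h5 : (𝟭 C).IsHomLift (i ≫ 𝟙 T) ((FibCat.toSelf 𝒳).map t ≫ eqToHom (e1.trans e2.symm)) :=
    inferInstance
  rwa [Category.comp_id] at h5

theorem cover_of_sub_one {Z : Scheme.{u}} {a h : Γ(Z, ⊤)} (hh : h - 1 ∈ Ideal.span {a}) (t : Z) :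
    t ∈ Z.basicOpen h ∨ t ∈ Z.basicOpen a := by
  obtain ⟨c, hc⟩ := Ideal.mem_span_singleton'.1 hh
  have h1 : (1 : Γ(Z, ⊤)) = h + (-c) * a := by linear_combination hc
  have h2 : t ∈ Z.basicOpen (1 : Γ(Z, ⊤)) := by
    rw [Z.basicOpen_of_isUnit isUnit_one]; trivial
  rw [h1] at h2
  rcases Z.basicOpen_add_le _ _ h2 with h3 | h3
  · exact Or.inl h3
  · right
    rw [Z.basicOpen_mul] at h3
    exact h3.2

theorem exists_ext (hρ : IsGL ρ) [IsAffineHom G.hom] [Flat G.hom] {aX : AlgGrp.Action G (𝟙_ (Over S))}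
    (x : AlgSt.QuotObj Scheme.fppfPrecoverage G aX) {T : Over S} (i : x.base ⟶ T)
    [IsOpenImmersion i.left] [IsAffine T.left] {a b : Γ(T.left, ⊤)}
    (hi : i.left.opensRange = T.left.basicOpen a ⊔ T.left.basicOpen b) (hg : Good a b) :
    ∃ (z : AlgSt.QuotObj Scheme.fppfPrecoverage G aX) (ζ : x ⟶ z),
      (AlgSt.QuotSt Scheme.fppfPrecoverage G aX).p.IsHomLift i ζ := by
  haveI := hg.dom
  haveI := hg.noeth
  haveI := hg.domq
  haveI := hg.pirq
  obtain ⟨E, h, hh, hE, hdet⟩ := exists_basis ρ x i hi hg.reg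
  obtain ⟨Vh, p₁, p₂, hpb⟩ : ∃ (Vh : Over S) (p₁ : Vh ⟶ x.base) (p₂ : Vh ⟶ Dc T h),
      IsPullback p₁ p₂ i (jc T h) := ⟨_, _, _, IsPullback.of_hasPullback _ _⟩
  have hpair : K863.Pair.IsOpenPair i (jc T h) p₁ p₂ := by
    refine ⟨inferInstance, ?_, fun t => ?_, hpb⟩
    · change IsOpenImmersion (T.left.basicOpen h).ι
      infer_instance
    · rcases cover_of_sub_one hh t with ht | ht
      · right
        change t ∈ Set.range (T.left.basicOpen h).ι
        rw [Scheme.Opens.range_ι]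
        exact ht
      · left
        have : t ∈ i.left.opensRange := by
          rw [hi]; exact Or.inl ht
        exact this
  have hst := K750.QuotEff.isStack_quotSt (K := Scheme.fppfPrecoverage)
    Scheme.fppfPrecoverage_le_fpqcPrecoverage aX
  haveI := hst.1
  obtain ⟨x₁₂, α, hα⟩ := FibCat.IsFibGrpd.exists_lift
    (p := (AlgSt.QuotSt Scheme.fppfPrecoverage G aX).p) (x := x) p₁
  have e1 : x₁₂.base = Vh :=
    IsHomLift.domain_eq (AlgSt.QuotSt Scheme.fppfPrecoverage G aX).p p₁ α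
  subst e1
  have e2 : p₁ = α.base :=
    IsHomLift.eq_of_isHomLift (AlgSt.QuotSt Scheme.fppfPrecoverage G aX).p p₁ α
  have hd : IsUnit (pb α.top E.det) := by
    apply isUnit_pb
    have e3 : α.top ≫ x.π ≫ i = x₁₂.π ≫ p₂ ≫ jc T h := by
      rw [← Category.assoc, α.cart.w, Category.assoc, ← hpb.w, e2]
    have e4 : α.top.left ⁻¹ᵁ ((x.π ≫ i).left ⁻¹ᵁ T.left.basicOpen h) = ⊤ := by
      have e5 : α.top.left ⁻¹ᵁ ((x.π ≫ i).left ⁻¹ᵁ T.left.basicOpen h) =
        (α.top ≫ x.π ≫ i).left ⁻¹ᵁ T.left.basicOpen h := rfl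
      have e6 : (x₁₂.π ≫ p₂ ≫ jc T h).left ⁻¹ᵁ T.left.basicOpen h =
        (x₁₂.π ≫ p₂).left ⁻¹ᵁ ((T.left.basicOpen h).ι ⁻¹ᵁ T.left.basicOpen h) := rfl
      rw [e5, e3, e6, Scheme.Opens.ι_preimage_self]
      rfl
    rw [eq_top_iff, ← e4]
    intro z hz
    exact hdet hz
  obtain ⟨β, hβ⟩ := exists_hom_triv hρ α hE hd (toUnit (Dc T h)) p₂
  have hβ' : (AlgSt.QuotSt Scheme.fppfPrecoverage G aX).p.IsHomLift p₂ β := by
    subst hβ
    exact IsHomLift.map _ β
  obtain ⟨z, ζ₁, -, hζ, -, -⟩ := K863.Pair.exists_obj hst hpair hα hβ'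
  exact ⟨z, ζ₁, hζ⟩

theorem liftsAt (hρ : IsGL ρ) [IsAffineHom G.hom] [Flat G.hom] {aX : AlgGrp.Action G (𝟙_ (Over S))}
    {V T : Over S} (i : V ⟶ T) [IsOpenImmersion i.left] [IsAffine T.left] {a b : Γ(T.left, ⊤)}
    (hi : i.left.opensRange = T.left.basicOpen a ⊔ T.left.basicOpen b) (hg : Good a b) :
    LiftsAt i (FibCat.toSelf (AlgSt.QuotSt Scheme.fppfPrecoverage G aX)) := by
  apply liftsAt_self
  intro xv hxv
  have hxv' : xv.base = V := hxv
  subst hxv'
  exact exists_ext hρ xv i hi hg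

section coords

variable {R : Type u} [CommRing R] [IsDomain R] [IsDiscreteValuationRing R]

theorem good_lineFn {ϖ : R} (hϖ : ϖ ≠ 0) :
    Good (lineFn (R := R) Polynomial.X) (lineFn (Polynomial.C ϖ)) :=
  (good_line hϖ).map (Scheme.ΓSpecIso (CommRingCat.of (Polynomial R))).symm.commRingCatIsoToRingEquiv

theorem good_stFn {π : R} (hπ : Irreducible π) :
    Good (stFn (sFn R π)) (stFn (tFn R π)) :=
  (good_st hπ).map (Scheme.ΓSpecIso (CommRingCat.of (STRing R π))).symm.commRingCatIsoToRingEquiv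

end coords

theorem isThetaComplete (hρ : IsGL ρ) [IsAffineHom G.hom] [Flat G.hom]
    {aX : AlgGrp.Action G (𝟙_ (Over S))} :
    IsThetaComplete Scheme.fppfPrecoverage (AlgSt.QuotSt Scheme.fppfPrecoverage G aX) := by
  haveI : IsAffineHom (𝟙_ (Over S)).hom := by
    change IsAffineHom (𝟙 S); infer_instance
  apply isThetaComplete_quot
  intro R _ _ _ ϖ hϖ h
  haveI : IsOpenImmersion ((Over.map h).map (openMap (𝟙 (Line R)) (Coord.Uline ϖ))).left := by
    change IsOpenImmersion ((𝟙 (Line R) : Line R ⟶ Line R).left ⁻¹ᵁ Coord.Uline ϖ).ι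
    infer_instance
  haveI : IsAffine ((Over.map h).obj (Line R)).left := Coord.isAffine_line
  refine liftsAt hρ _ (a := lineFn (R := R) Polynomial.X) (b := lineFn (Polynomial.C ϖ)) ?_
    (good_lineFn hϖ.ne_zero)
  exact Scheme.Opens.opensRange_ι _

theorem isSCompleteOver (hρ : IsGL ρ) [IsAffineHom G.hom] [Flat G.hom]
    {aX : AlgGrp.Action G (𝟙_ (Over S))} :
    IsSCompleteOver Scheme.fppfPrecoverage (AlgSt.QuotSt Scheme.fppfPrecoverage G aX) := by
  haveI : IsAffineHom (𝟙_ (Over S)).hom := by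
    change IsAffineHom (𝟙 S); infer_instance
  apply isSCompleteOver_quot
  intro R _ _ _ π hπ h
  haveI : IsOpenImmersion ((Over.map h).map (openMap (𝟙 (STSch R π)) (Coord.Ust π))).left := by
    change IsOpenImmersion ((𝟙 (STSch R π) : STSch R π ⟶ STSch R π).left ⁻¹ᵁ Coord.Ust π).ι
    infer_instance
  haveI : IsAffine ((Over.map h).obj (STSch R π)).left := Coord.isAffine_st π
  refine liftsAt hρ _ (a := stFn (sFn R π)) (b := stFn (tFn R π)) ?_ (good_stFn hπ)
  exact Scheme.Opens.opensRange_ι _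

end K942.GLExt
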