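import Groth.Agent.ThetaS.K942.GLPts
import Mathlib.RingTheory.Smooth.Flat
import Mathlib.RingTheory.FinitePresentation
import Mathlib.AlgebraicGeometry.Morphisms.Smooth
import Mathlib.AlgebraicGeometry.Morphisms.Flat

/-!
# `GL_n` is smooth and affine over every base
-/

set_option autoImplicit false
set_option linter.style.haveILetI false

universe u

open CategoryTheory MonoidalCategory CartesianMonoidalCategory MonObj AlgebraicGeometry Opposite Limits
open scoped TensorProduct

namespace K942.GLSmooth

open CoordGrp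

theorem algHom_ext' {k B : Type u} [CommRing k] [CommRing B] [Algebra k B] {n : ℕ} {f g : GLn n k →ₐ[k] B}
    (hX : ∀ i j, f (GLn.X i j) = g (GLn.X i j)) : f = g := by
  apply GLn.algHom_ext
  · exact hX
  · have h : (GLn.genMat n k).map f = (GLn.genMat n k).map g := by
      ext i j; exact hX i j
    have hd : f (GLn.det (n := n) (k := k)) = g (GLn.det (n := n) (k := k)) := by
      rw [GLn.det_eq, AlgHom.map_det, AlgHom.map_det]
      exact congrArg Matrix.det h
    have h1 : f (GLn.det (n := n) (k := k)) * f (GLn.Dinv (n := n) (k := k)) = 1 := by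
      rw [← map_mul, GLn.det_mul_Dinv, map_one]
    have h2 : f (GLn.det (n := n) (k := k)) * g (GLn.Dinv (n := n) (k := k)) = 1 := by
      rw [hd, ← map_mul, GLn.det_mul_Dinv, map_one]
    exact left_inv_eq_right_inv (by rw [mul_comm]; exact h1) h2

theorem smooth_GLn (k : Type u) [CommRing k] [IsNoetherianRing k] (n : ℕ) : Algebra.Smooth k (GLn n k) := by
  have h1 : Algebra.FiniteType k (GLb n k) :=
    inferInstanceAs (Algebra.FiniteType k (MvPolynomial (GLPoly.Idx n) k))
  have h2 : Algebra.FiniteType k (GLn n k) :=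
    Algebra.FiniteType.of_surjective (GLn.mk n k) Ideal.Quotient.mk_surjective
  have h3 : Algebra.FormallySmooth k (GLn n k) := by
    refine Algebra.FormallySmooth.of_comp_surjective fun B _ _ I hI f => ?_
    choose m hm using fun (i j : Fin n) => Ideal.Quotient.mkₐ_surjective k I (f (GLn.X i j))
    obtain ⟨d, hd⟩ := Ideal.Quotient.mkₐ_surjective k I (f GLn.Dinv)
    have h4 : Ideal.Quotient.mkₐ k I ((Matrix.of m).det) = f GLn.det := by
      rw [GLn.det_eq, AlgHom.map_det, AlgHom.map_det]
      congr 1
      ext i j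
      exact hm i j
    have h5 : (Matrix.of m).det * d - 1 ∈ I := by
      rw [← Ideal.Quotient.eq_zero_iff_mem, map_sub, map_one]
      change Ideal.Quotient.mkₐ k I _ - 1 = 0
      rw [map_mul, h4, hd, ← map_mul, mul_comm, GLn.Dinv_mul_det, map_one, sub_self]
    have h6 : ((Matrix.of m).det * d - 1) ^ 2 = 0 := by
      have h7 := Ideal.pow_mem_pow h5 2
      rwa [hI, Ideal.mem_bot] at h7
    -- correct the inverse of the determinant
    have h7 : (Matrix.of m).det * (d * (2 - (Matrix.of m).det * d)) = 1 := by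
      linear_combination -h6
    refine ⟨GLn.pt n k (Matrix.of m) _ h7, algHom_ext' fun i j => ?_⟩
    change Ideal.Quotient.mkₐ k I (GLn.pt n k (Matrix.of m) _ h7 (GLn.X i j)) = f (GLn.X i j)
    rw [GLn.pt_X]
    exact hm i j
  have h4 : Algebra.FinitePresentation k (GLn n k) := Algebra.FinitePresentation.of_finiteType.1 h2
  exact ⟨h3, h4⟩

instance : IsNoetherianRing (ULift.{u} ℤ) :=
  isNoetherianRing_of_ringEquiv ℤ ULift.ringEquiv.symm

instance smooth_GLZ (n : ℕ) : Smooth (FrB.GLZ.{u} n).hom := by
  have := smooth_GLn (ULift.{u} ℤ) n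
  change Smooth (Spec.map (CommRingCat.ofHom (algebraMap (ULift.{u} ℤ) (GLn n (ULift.{u} ℤ)))))
  rw [HasRingHomProperty.Spec_iff (P := @Smooth)]
  exact RingHom.smooth_algebraMap.2 this

instance affine_GLZ (n : ℕ) : IsAffineHom (FrB.GLZ.{u} n).hom := by
  change IsAffineHom (Spec.map (CommRingCat.ofHom (algebraMap (ULift.{u} ℤ) (GLn n (ULift.{u} ℤ)))))
  infer_instance

variable (n : ℕ) (S : Scheme.{u})

instance smooth_bc {S' : Scheme.{u}} (f : S' ⟶ S) (G : Over S) [Smooth G.hom] : Smooth (Red.bc f G).hom := by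
  change Smooth (pullback.snd G.hom f)
  infer_instance

instance affine_bc {S' : Scheme.{u}} (f : S' ⟶ S) (G : Over S) [IsAffineHom G.hom] :
    IsAffineHom (Red.bc f G).hom := by
  change IsAffineHom (pullback.snd G.hom f)
  exact MorphismProperty.pullback_snd _ _ inferInstance

instance smooth_GL : Smooth (FrB.GLn n S).hom := smooth_bc _ _ _

instance affine_GL : IsAffineHom (FrB.GLn n S).hom := affine_bc _ _ _

end K942.GLSmooth
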