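import Groth.Agent.ThetaS.K942.GaCov
import Groth.Agent.ThetaS.K943.SelfLift

/-!
# `B G_a` is not S-complete
-/

set_option autoImplicit false
set_option linter.dupNamespace false
set_option linter.style.haveILetI false
set_option backward.isDefEq.respectTransparency false
set_option backward.isDefEq.respectTransparency.types false

universe u

open CategoryTheory CategoryTheory.Limits MonoidalCategory CartesianMonoidalCategory MonObj
  AlgebraicGeometry Opposite

namespace K942.GaNot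

attribute [local instance] K951.Pts.algΓ

section alg

open RegPair

theorem regPair_symm {A : Type*} [CommRing A] [IsDomain A] {s t : A} (h : RegPair s t) (ht : t ≠ 0) (hs : s ≠ 0) :
    RegPair t s := by
  refine ⟨fun x hx => (mul_eq_zero.1 hx).resolve_left ht, fun x y hxy => ?_⟩
  obtain ⟨z, rfl⟩ := h.reg y x hxy.symm
  refine ⟨z, mul_left_cancel₀ hs ?_⟩
  rw [hxy]; ring

theorem exists_comb {A A₁ A₂ A₃ : Type*} [CommRing A] [IsDomain A] [CommRing A₁] [CommRing A₂] [CommRing A₃]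
    [Algebra A A₁] [Algebra A A₂] [Algebra A A₃] {s t : A} (h : RegPair s t) (hs : s ≠ 0) (ht : t ≠ 0)
    [IsLocalization.Away s A₁] [IsLocalization.Away t A₂] [IsLocalization.Away (s * t) A₃]
    (f : A₁ →+* A₃) (hf : ∀ x, f (algebraMap A A₁ x) = algebraMap A A₃ x)
    (g : A₂ →+* A₃) (hg : ∀ x, g (algebraMap A A₂ x) = algebraMap A A₃ x) (a : A₁) (b : A₂) (i : A₃)
    (hi : algebraMap A A₃ (s * t) * i = 1) (hab : f a = i + g b) : ∃ x y, s * x + t * y = 1 := by
  obtain ⟨n, a₀, ha⟩ := IsLocalization.Away.surj s a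
  obtain ⟨m, b₀, hb⟩ := IsLocalization.Away.surj t b
  have hinj : Function.Injective (algebraMap A A₃) := IsLocalization.injective A₃
    (M := Submonoid.powers (s * t)) (powers_le_nonZeroDivisors_of_noZeroDivisors (mul_ne_zero hs ht))
  have ha' : f a * algebraMap A A₃ s ^ n = algebraMap A A₃ a₀ := by
    rw [← hf a₀, ← ha, map_mul, map_pow, hf]
  have hb' : g b * algebraMap A A₃ t ^ m = algebraMap A A₃ b₀ := by
    rw [← hg b₀, ← hb, map_mul, map_pow, hg]
  set N := n + m with hN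
  have key : s * t * (t ^ (N + 1) * (a₀ * s ^ (m + 1)) - s ^ (N + 1) * (b₀ * t ^ (n + 1))) =
      s ^ (N + 1) * t ^ (N + 1) := by
    apply hinj
    simp only [map_mul, map_sub, map_pow] at *
    rw [← ha', ← hb', hab, hN]
    linear_combination (algebraMap A A₃ s ^ (n + m + 1) * algebraMap A A₃ t ^ (n + m + 1)) * hi
  have key2 : t ^ (N + 1) * (a₀ * s ^ (m + 1)) - s ^ (N + 1) * (b₀ * t ^ (n + 1)) = s ^ N * t ^ N := by
    apply mul_left_cancel₀ (mul_ne_zero hs ht)
    rw [key]; ring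
  obtain ⟨z, hz⟩ := h.pow_pow (N + 1) N (t * (a₀ * s ^ (m + 1)) - s ^ N) (b₀ * t ^ (n + 1)) (by
    linear_combination key2)
  obtain ⟨w, hw⟩ := (regPair_symm h ht hs).pow_right N (1 + s * z) (a₀ * s ^ (m + 1)) (by
    linear_combination -hz)
  exact ⟨-z, w, by linear_combination -hw⟩

end alg

section coords

open ThetaS K951.Pts EqGeom GaFun GaCov Polynomial

variable {R : Type u} [CommRing R] [IsDomain R] [IsDiscreteValuationRing R] {π : R}

/-- The function `s`. -/
noncomputable abbrev ss (π : R) : Γ((STSch R π).left, ⊤) := stFn (sFn R π)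

/-- The function `t`. -/
noncomputable abbrev tt (π : R) : Γ((STSch R π).left, ⊤) := stFn (tFn R π)

/-- The functions modulo `s`. -/
noncomputable def mods (π : R) : Γ((STSch R π).left, ⊤) →+* (R ⧸ Ideal.span {π})[X] :=
  (Good.modS π).toRingHom.comp (Scheme.ΓSpecIso (CommRingCat.of (STRing R π))).hom.hom

theorem mods_stFn (x : STRing R π) : mods π (stFn x) = Good.modS π x := by
  change Good.modS π ((Scheme.ΓSpecIso (CommRingCat.of (STRing R π))).hom
    ((Scheme.ΓSpecIso (CommRingCat.of (STRing R π))).inv x)) = _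
  rw [Iso.inv_hom_id_apply]

theorem mods_ss : mods π (ss π) = 0 := by
  rw [mods_stFn, Good.modS, stPt_sFn]

theorem mods_tt : mods π (tt π) = X := by
  rw [mods_stFn, Good.modS, stPt_tFn]

theorem nontrivial_quot (hπ : Irreducible π) : Nontrivial (R ⧸ Ideal.span {π}) := by
  apply Ideal.Quotient.nontrivial_iff.2
  rw [Ne, Ideal.span_singleton_eq_top]
  exact hπ.not_isUnit

theorem ss_ne (hπ : Irreducible π) : ss π ≠ 0 := by
  intro h
  have h1 := (GLExt.good_stFn hπ).reg.nzd 1 (by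
    change ss π * 1 = 0
    rw [h, zero_mul])
  haveI := (GLExt.good_stFn hπ).dom
  exact one_ne_zero h1

theorem tt_ne (hπ : Irreducible π) : tt π ≠ 0 := by
  intro h
  have h1 := mods_tt (π := π)
  rw [h, map_zero] at h1
  haveI := nontrivial_quot hπ
  exact X_ne_zero h1.symm

theorem not_comb (hπ : Irreducible π) : ¬ ∃ x y, ss π * x + tt π * y = 1 := by
  rintro ⟨x, y, h⟩
  haveI := nontrivial_quot hπ
  have h1 := congrArg (fun z => (mods π z).eval 0) h
  simp only [map_add, map_mul, mods_ss, mods_tt, map_one, zero_mul, zero_add, eval_mul, eval_X,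
    eval_one] at h1
  exact zero_ne_one h1

theorem not_pow (hπ : Irreducible π) : ¬ ∃ c n, ss π * c = tt π ^ n := by
  rintro ⟨c, n, h⟩
  haveI := nontrivial_quot hπ
  have h1 := congrArg (mods π) h
  rw [map_mul, mods_ss, zero_mul, map_pow, mods_tt] at h1
  exact (Polynomial.monic_X_pow n).ne_zero h1.symm

theorem ss_mul_tt : ss π * tt π = algebraMap R Γ((STSch R π).left, ⊤) π := by
  change stFn (sFn R π) * stFn (tFn R π) = _
  have h1 : algebraMap R Γ((STSch R π).left, ⊤) π =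
      (Scheme.ΓSpecIso (CommRingCat.of (STRing R π))).inv (algebraMap R (STRing R π) π) := by
    rw [algebraMap_algΓ]
    exact congr($(fnS_comp_map (W := Spec (CommRingCat.of (STRing R π))) (𝟙 _) (algebraMap R (STRing R π))) π)
  rw [h1, ← sFn_mul_tFn, map_mul]

/-- `s` is not invertible on `D(t)`. -/
theorem not_isUnit_ss (hπ : Irreducible π) : ¬ IsUnit (pb (dr (STSch R π) (tt π)) (ss π)) := by
  intro hu
  haveI : IsAffine (STSch R π).left := Coord.isAffine_st π
  letI := (pb (TorsBasis.jc (STSch R π) (tt π))).toAlgebra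
  haveI := TorsBasis.isLoc (T := STSch R π) (tt π)
  haveI := (GLExt.good_stFn hπ).dom
  obtain ⟨a, ha⟩ := isUnit_iff_exists_inv.1 hu
  obtain ⟨n, a₀, h0⟩ := IsLocalization.Away.surj (tt π) a
  have hinj : Function.Injective (algebraMap Γ((STSch R π).left, ⊤) Γ((TorsBasis.Dc (STSch R π) (tt π)).left, ⊤)) :=
    IsLocalization.injective _ (M := Submonoid.powers (tt π))
      (powers_le_nonZeroDivisors_of_noZeroDivisors (tt_ne hπ))
  refine not_pow hπ ⟨a₀, n, hinj ?_⟩
  rw [map_mul, ← h0, map_pow, ← _root_.mul_assoc]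
  have : algebraMap Γ((STSch R π).left, ⊤) Γ((TorsBasis.Dc (STSch R π) (tt π)).left, ⊤) (ss π) * a = 1 := ha
  rw [this, _root_.one_mul]

end coords

section main

open ThetaS K951.Pts EqGeom TrivMor GaTriv TorsGeom K943.QuotAtlas K943.CoverExt GaFun GaCov

variable {S : Scheme.{u}} {R : Type u} [CommRing R] {π : R} {h : Spec (CommRingCat.of R) ⟶ S}
  {G : Over S} [GrpObj G]

/-- A morphism of a torsor with a section to a trivial torsor. -/
theorem exists_to_tv {aX : AlgGrp.Action G (𝟙_ (Over S))} [IsAffineHom G.hom]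
    {x : AlgSt.QuotObj Scheme.fppfPrecoverage G aX} (s : x.base ⟶ x.P) (hs : s ≫ x.π = 𝟙 _)
    {T : Over S} (f : x.base ⟶ T) : ∃ n : x ⟶ tv Scheme.fppfPrecoverage aX T, n.base = f := by
  obtain ⟨n₀, hn₀⟩ := exists_tv s hs
  haveI h1 : (AlgSt.QuotSt Scheme.fppfPrecoverage G aX).p.IsHomLift (𝟙 x.base) n₀ := by
    have h0 := IsHomLift.map (AlgSt.QuotSt Scheme.fppfPrecoverage G aX).p n₀
    change (AlgSt.QuotSt Scheme.fppfPrecoverage G aX).p.IsHomLift n₀.base n₀ at h0
    rw [hn₀] at h0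
    exact h0
  haveI : IsIso n₀ := K943.FibBase.isIso_of_lift_id (AlgSt.QuotSt Scheme.fppfPrecoverage G aX).p
    (T := x.base) n₀
  refine ⟨inv n₀ ≫ tr f 1, ?_⟩
  have h2 : (inv n₀).base = 𝟙 _ := by
    have h3 : (n₀ ≫ inv n₀).base = 𝟙 x.base := by
      rw [IsIso.hom_inv_id]; rfl
    have h4 : n₀.base ≫ (inv n₀).base = 𝟙 x.base := h3
    rw [hn₀] at h4
    exact (Category.id_comp _).symm.trans h4
  change (inv n₀).base ≫ f = f
  rw [h2]
  exact Category.id_comp _

/-- The atlas object of the two-branched stack. -/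
noncomputable abbrev uu (π : R) : (STR Scheme.fppfPrecoverage R π).obj :=
  uObj Scheme.fppfPrecoverage (stAction R π) (STSch R π) (𝟙 _)

theorem exists_cocycle (γ : GaStr G) [IsAffineHom G.hom] [Flat G.hom] {aX : AlgGrp.Action G (𝟙_ (Over S))}
    (hl : LiftSq.LiftsUniquely (stIncl Scheme.fppfPrecoverage R π h)
      (FibCat.toSelf (AlgSt.QuotSt Scheme.fppfPrecoverage G aX))) :
    ∃ Φ : ∀ (b : (sub (stPunc Scheme.fppfPrecoverage R π h) (Pp h)).obj) (_ : b.obj.obj ⟶ uu π),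
      ((Over.map h).obj b.obj.obj.base ⟶ G),
      ∀ {a b : (sub (stPunc Scheme.fppfPrecoverage R π h) (Pp h)).obj} (m : a ⟶ b)
        (n : b.obj.obj ⟶ uu π), Φ a (m.hom.hom ≫ n) =
          cc γ h m.hom.hom * ((Over.map h).map m.hom.hom.base ≫ Φ b n) := by
  have hst := K750.QuotEff.isStack_quotSt (K := Scheme.fppfPrecoverage)
    Scheme.fppfPrecoverage_le_fpqcPrecoverage aX
  haveI := hst.1
  obtain ⟨F, ⟨e⟩⟩ := exists_ext (closedInto (h := h)) (fun b => hst.2 _ (cov_mem h b)) (F0 γ aX)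
  let sq : LiftSq.Sq (stIncl Scheme.fppfPrecoverage R π h)
      (FibCat.toSelf (AlgSt.QuotSt Scheme.fppfPrecoverage G aX)) :=
    { top := F
      bot := FibCat.toSelf _
      iso := eqToIso (K943.SelfLift.functor_eq _ _) }
  obtain ⟨⟨ℓ⟩, -⟩ := hl sq
  -- the value at the atlas
  have hb : (ℓ.fn.obj (uu π)).base = (Over.map h).obj (STSch R π) := ℓ.fn.w_obj (uu π)
  haveI : IsAffine (STSch R π).left := Coord.isAffine_st π
  haveI : IsAffine (ℓ.fn.obj (uu π)).base.left := by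
    rw [hb]
    change IsAffine (STSch R π).left
    infer_instance
  obtain ⟨s, hs⟩ := exists_section γ (ℓ.fn.obj (uu π)).act (ℓ.fn.obj (uu π)).cart (ℓ.fn.obj (uu π)).loc
  obtain ⟨N, -⟩ := exists_to_tv s hs (eqToHom hb)
  let Ψ : ∀ (b : (sub (stPunc Scheme.fppfPrecoverage R π h) (Pp h)).obj) (_ : b.obj.obj ⟶ uu π),
      (F0 γ aX).obj b ⟶ tv Scheme.fppfPrecoverage aX ((Over.map h).obj (STSch R π)) := fun b n =>
    e.inv.toNatTrans.app b ≫ ℓ.isoTop.inv.toNatTrans.app b.obj ≫ ℓ.fn.map n ≫ N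
  have hΨ : ∀ {a b : (sub (stPunc Scheme.fppfPrecoverage R π h) (Pp h)).obj} (m : a ⟶ b)
      (n : b.obj.obj ⟶ uu π), Ψ a (m.hom.hom ≫ n) = (F0 γ aX).map m ≫ Ψ b n := by
    intro a b m n
    have h1 : (F0 γ aX).map m ≫ e.inv.toNatTrans.app b = e.inv.toNatTrans.app a ≫ F.map m.hom :=
      e.inv.toNatTrans.naturality m
    have h2 : F.map m.hom ≫ ℓ.isoTop.inv.toNatTrans.app b.obj =
        ℓ.isoTop.inv.toNatTrans.app a.obj ≫ ℓ.fn.map m.hom.hom :=
      ℓ.isoTop.inv.toNatTrans.naturality m.hom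
    have h3 : ℓ.fn.map (m.hom.hom ≫ n) = ℓ.fn.map m.hom.hom ≫ ℓ.fn.map n := ℓ.fn.toFunctor.map_comp _ _
    change e.inv.toNatTrans.app a ≫ ℓ.isoTop.inv.toNatTrans.app a.obj ≫ ℓ.fn.map (m.hom.hom ≫ n) ≫ N =
      (F0 γ aX).map m ≫ e.inv.toNatTrans.app b ≫ ℓ.isoTop.inv.toNatTrans.app b.obj ≫ ℓ.fn.map n ≫ N
    rw [h3, ← Category.assoc ((F0 γ aX).map m), h1]
    simp only [Category.assoc]
    rw [← Category.assoc (F.map m.hom), h2]
    simp only [Category.assoc]
  refine ⟨fun b n => al (Ψ b n), fun {a b} m n => ?_⟩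
  have h4 : al (Ψ a (m.hom.hom ≫ n)) = al ((F0 γ aX).map m ≫ Ψ b n) := by rw [hΨ]
  refine h4.trans ?_
  have h6 := al_comp (tr (K := Scheme.fppfPrecoverage) (aX := aX) ((Over.map h).map m.hom.hom.base)
    (cc γ h m.hom.hom)) (show tv Scheme.fppfPrecoverage aX _ ⟶ tv Scheme.fppfPrecoverage aX _ from Ψ b n)
  rw [al_tr] at h6
  exact h6

/-- The open subobjects of the atlas object. -/
noncomputable abbrev uf (π : R) (f : Γ((STSch R π).left, ⊤)) : (STR Scheme.fppfPrecoverage R π).obj :=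
  uObj Scheme.fppfPrecoverage (stAction R π) (Dr (STSch R π) f) (dr (STSch R π) f)

/-- The inclusion of the open subobjects. -/
noncomputable abbrev un (π : R) (f : Γ((STSch R π).left, ⊤)) : uf π f ⟶ uu π :=
  uMap (dr (STSch R π) f) (Category.comp_id _)

theorem uf_s {f : Γ((STSch R π).left, ⊤)} (hf : IsUnit (pb (dr (STSch R π) f) (ss π))) :
    IsUnit (sv (uf π f)) := sv_uObj _ hf

theorem uf_t {f : Γ((STSch R π).left, ⊤)} (hf : IsUnit (pb (dr (STSch R π) f) (tt π))) :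
    IsUnit (tvv (uf π f)) := tv_uObj _ hf

theorem misses_of {a : (STR Scheme.fppfPrecoverage R π).obj} (ha : IsUnit (sv a) ∨ IsUnit (tvv a)) :
    MissesNode a := by
  change a.P.left.basicOpen (sv a) ⊔ a.P.left.basicOpen (tvv a) = ⊤
  rcases ha with h | h
  · rw [a.P.left.basicOpen_of_isUnit h, top_sup_eq]
  · rw [a.P.left.basicOpen_of_isUnit h, sup_top_eq]

/-- The objects of the subcategory. -/
abbrev ob (h : Spec (CommRingCat.of R) ⟶ S) (a : (STR Scheme.fppfPrecoverage R π).obj)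
    (ha : IsUnit (sv a) ∨ IsUnit (tvv a)) :
    (sub (stPunc Scheme.fppfPrecoverage R π h) (Pp h)).obj := ⟨⟨a, misses_of ha⟩, ha⟩

/-- The morphisms between opens. -/
noncomputable abbrev jj {f g : Γ((STSch R π).left, ⊤)}
    (hfg : (STSch R π).left.basicOpen f ≤ (STSch R π).left.basicOpen g) :
    Dr (STSch R π) f ⟶ Dr (STSch R π) g :=
  Over.homMk ((STSch R π).left.homOfLE hfg) (by
    change (STSch R π).left.homOfLE hfg ≫ ((STSch R π).left.basicOpen g).ι ≫ _ = _
    rw [← Category.assoc, Scheme.homOfLE_ι]; rfl)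

theorem jj_dr {f g : Γ((STSch R π).left, ⊤)}
    (hfg : (STSch R π).left.basicOpen f ≤ (STSch R π).left.basicOpen g) :
    jj hfg ≫ dr (STSch R π) g = dr (STSch R π) f := by
  apply Over.OverMorphism.ext
  exact Scheme.homOfLE_ι _ hfg

theorem um_un {f g : Γ((STSch R π).left, ⊤)}
    (hfg : (STSch R π).left.basicOpen f ≤ (STSch R π).left.basicOpen g) :
    (uMap (jj hfg) (jj_dr hfg) : uf π f ⟶ uf π g) ≫ un π g = un π f := by
  refine AlgSt.QuotObj.hom_ext (jj_dr hfg) ?_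
  change (Gm R ◁ jj hfg) ≫ (Gm R ◁ dr (STSch R π) g) = Gm R ◁ dr (STSch R π) f
  rw [← whiskerLeft_comp, jj_dr]

theorem not_sv_tt [IsDomain R] [IsDiscreteValuationRing R] (hπ : Irreducible π) :
    ¬ IsUnit (sv (uf π (tt π))) := by
  intro hu
  apply not_isUnit_ss hπ
  have h1 : (uf π (tt π)).φ =
      lift (fst (Gm R) _) (snd (Gm R) _ ≫ dr (STSch R π) (tt π)) ≫ (stAction R π).act := by
    change (Gm R ◁ dr (STSch R π) (tt π)) ≫ (stAction R π).act = _
    congr 1
  have h2 : IsUnit (pb (lift (1 : Dr (STSch R π) (tt π) ⟶ Gm R) (𝟙 _)) (sv (uf π (tt π)))) := hu.map _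
  have h3 : pb (lift (1 : Dr (STSch R π) (tt π) ⟶ Gm R) (𝟙 _)) (sv (uf π (tt π))) =
      fn (B := STRing R π) (lift 1 (dr (STSch R π) (tt π)) ≫ (stAction R π).act) (sFn R π) := by
    rw [sv, h1]
    have := fn_comp (B := STRing R π) (lift (1 : Dr (STSch R π) (tt π) ⟶ Gm R) (𝟙 _))
      (lift (fst (Gm R) _) (snd (Gm R) _ ≫ dr (STSch R π) (tt π)) ≫ (stAction R π).act) (sFn R π)
    refine this.symm.trans ?_
    rw [← Category.assoc, comp_lift, lift_fst, lift_snd_assoc, Category.id_comp]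
  rw [h3, (Coord.fn_stAct _ _).1] at h2
  exact isUnit_of_mul_isUnit_right h2

theorem hle1 (π : R) :
    (STSch R π).left.basicOpen (ss π * tt π) ≤ (STSch R π).left.basicOpen (ss π) := by
  rw [Scheme.basicOpen_mul]; exact inf_le_left

theorem hle2 (π : R) :
    (STSch R π).left.basicOpen (ss π * tt π) ≤ (STSch R π).left.basicOpen (tt π) := by
  rw [Scheme.basicOpen_mul]; exact inf_le_right

theorem hu1 (π : R) : IsUnit (pb (dr (STSch R π) (ss π * tt π)) (ss π)) := by
  have hu := isUnit_dr (STSch R π) (ss π * tt π)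
  rw [map_mul] at hu; exact isUnit_of_mul_isUnit_left hu

theorem no_ab [IsDomain R] [IsDiscreteValuationRing R] (hπ : Irreducible π)
    (a' : Γ((Dr (STSch R π) (ss π)).left, ⊤)) (b' : Γ((Dr (STSch R π) (tt π)).left, ⊤))
    (e : pb (jj (hle1 π)) a' = Ring.inverse (algebraMap R Γ((Dr (STSch R π) (ss π * tt π)).left, ⊤) π) +
      pb (jj (hle2 π)) b') : False := by
  haveI : IsAffine (STSch R π).left := Coord.isAffine_st π
  letI a1 := (pb (TorsBasis.jc (STSch R π) (ss π))).toAlgebra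
  letI a2 := (pb (TorsBasis.jc (STSch R π) (tt π))).toAlgebra
  letI a3 := (pb (TorsBasis.jc (STSch R π) (ss π * tt π))).toAlgebra
  haveI l1 := TorsBasis.isLoc (T := STSch R π) (ss π)
  haveI l2 := TorsBasis.isLoc (T := STSch R π) (tt π)
  haveI l3 := TorsBasis.isLoc (T := STSch R π) (ss π * tt π)
  haveI := (GLExt.good_stFn hπ).dom
  have h1 : ∀ x, pb (jj (hle1 π)) (pb (dr (STSch R π) (ss π)) x) = pb (dr (STSch R π) (ss π * tt π)) x := by
    intro x
    rw [← pb_comp, jj_dr]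
  have h2 : ∀ x, pb (jj (hle2 π)) (pb (dr (STSch R π) (tt π)) x) = pb (dr (STSch R π) (ss π * tt π)) x := by
    intro x
    rw [← pb_comp, jj_dr]
  have h3 : pb (dr (STSch R π) (ss π * tt π)) (ss π * tt π) *
      Ring.inverse (algebraMap R Γ((Dr (STSch R π) (ss π * tt π)).left, ⊤) π) = 1 := by
    have hu := isUnit_dr (STSch R π) (ss π * tt π)
    have h4 : algebraMap R Γ((Dr (STSch R π) (ss π * tt π)).left, ⊤) π =
        pb (dr (STSch R π) (ss π * tt π)) (ss π * tt π) :=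
      (pb_algebraMap (dr (STSch R π) (ss π * tt π)) π).symm.trans
        (congrArg (pb (dr (STSch R π) (ss π * tt π))) ss_mul_tt.symm)
    rw [h4]
    exact Ring.mul_inverse_cancel _ hu
  exact not_comb hπ (exists_comb (A := Γ((STSch R π).left, ⊤)) (GLExt.good_stFn hπ).reg (ss_ne hπ) (tt_ne hπ)
    (A₁ := Γ((Dr (STSch R π) (ss π)).left, ⊤)) (A₂ := Γ((Dr (STSch R π) (tt π)).left, ⊤))
    (A₃ := Γ((Dr (STSch R π) (ss π * tt π)).left, ⊤)) (pb (jj (hle1 π))) h1 (pb (jj (hle2 π)))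
    h2 _ _ _ h3 e)

/-- The cocycle on the inclusions of basic opens. -/
noncomputable def evf {f g : Γ((STSch R π).left, ⊤)}
    (hfg : (STSch R π).left.basicOpen f ≤ (STSch R π).left.basicOpen g) :
    Γ((Dr (STSch R π) f).left, ⊤) :=
  ev (uMap (jj hfg) (jj_dr hfg) : uf π f ⟶ uf π g)

theorem exists_phi (γ : GaStr G) [IsAffineHom G.hom] [Flat G.hom] {aX : AlgGrp.Action G (𝟙_ (Over S))}
    (hl : LiftSq.LiftsUniquely (stIncl Scheme.fppfPrecoverage R π h)
      (FibCat.toSelf (AlgSt.QuotSt Scheme.fppfPrecoverage G aX))) :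
    ∃ φ : ∀ f : Γ((STSch R π).left, ⊤), (IsUnit (sv (uf π f)) ∨ IsUnit (tvv (uf π f))) →
      Γ((Dr (STSch R π) f).left, ⊤),
      ∀ (f g : Γ((STSch R π).left, ⊤)) (hf : IsUnit (sv (uf π f)) ∨ IsUnit (tvv (uf π f)))
        (hg : IsUnit (sv (uf π g)) ∨ IsUnit (tvv (uf π g)))
        (hfg : (STSch R π).left.basicOpen f ≤ (STSch R π).left.basicOpen g),
        φ f hf = evf hfg + pb (jj hfg) (φ g hg) := by
  obtain ⟨Φ, hΦ⟩ := exists_cocycle γ hl
  refine ⟨fun f hf => γ.fn (Φ (ob h (uf π f) hf) (un π f)), fun f g hf hg hfg => ?_⟩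
  let m : ob h (uf π f) hf ⟶ ob h (uf π g) hg :=
    ObjectProperty.homMk (ObjectProperty.homMk (uMap (jj hfg) (jj_dr hfg)))
  have h1 := congrArg γ.fn (hΦ m (un π g))
  have h0 : m.hom.hom ≫ un π g = un π f := um_un hfg
  rw [h0, γ.mul, γ.comp, fn_cc] at h1
  exact h1

theorem not_lifts [IsDomain R] [IsDiscreteValuationRing R] (hπ : Irreducible π) (γ : GaStr G)
    [IsAffineHom G.hom] [Flat G.hom] {aX : AlgGrp.Action G (𝟙_ (Over S))} :
    ¬ LiftSq.LiftsUniquely (stIncl Scheme.fppfPrecoverage R π h)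
      (FibCat.toSelf (AlgSt.QuotSt Scheme.fppfPrecoverage G aX)) := by
  intro hl
  obtain ⟨φ, hφ⟩ := exists_phi γ hl
  have ps : IsUnit (sv (uf π (ss π))) := uf_s (isUnit_dr _ _)
  have pt : IsUnit (tvv (uf π (tt π))) := uf_t (isUnit_dr _ _)
  have pst : IsUnit (sv (uf π (ss π * tt π))) := uf_s (hu1 π)
  have e1 := hφ (ss π * tt π) (ss π) (Or.inl pst) (Or.inl ps) (hle1 π)
  have e2 := hφ (ss π * tt π) (tt π) (Or.inl pst) (Or.inr pt) (hle2 π)
  have e6 : evf (hle1 π) = 0 := if_pos ps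
  have e7 : evf (hle2 π) = Ring.inverse (algebraMap R Γ((Dr (STSch R π) (ss π * tt π)).left, ⊤) π) :=
    (if_neg (not_sv_tt hπ)).trans (if_pos pst)
  rw [e6, _root_.zero_add] at e1
  rw [e7] at e2
  exact no_ab hπ (φ (ss π) (Or.inl ps)) (φ (tt π) (Or.inr pt)) (e1.symm.trans e2)

end main

end K942.GaNot
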