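import Groth.Agent.ThetaS.K942.UnipJR
import Groth.Agent.BddFin.K844.GaPerf
import Mathlib.RingTheory.PowerSeries.Inverse

/-!
# Groups with S-complete classifying stack are reductive
-/

set_option autoImplicit false
set_option linter.dupNamespace false
set_option linter.style.haveILetI false
set_option backward.isDefEq.respectTransparency false
set_option backward.isDefEq.respectTransparency.types false

universe u

open CategoryTheory MonoidalCategory CartesianMonoidalCategory MonObj AlgebraicGeometry Opposite
open TensorProduct WithConv HopfRep Polynomial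
open Groth.Agent.Sga3B.RG Groth.Agent.Sga3B.RG.BrPts Groth.Agent.Books Groth.Agent.Books.AffBridge
open Groth.Agent.Books.AffBridge2 Groth.Agent.Books.AlgPtsGrp
open Groth.Agent.Sga7.H740.GaHom

namespace K942.NotRed

open UnipFn UnipJR

theorem isReductiveOver {k : Type u} [Field k] [IsAlgClosed k]
    {G : Over (Spec (CommRingCat.of k))} [GrpObj G] [hGa : IsAffineHom G.hom] [hGs : Smooth G.hom]
    [hGc : ConnectedSpace G.left]
    (hS : ThetaS.IsSCompleteOver Scheme.fppfPrecoverage (AlgSt.BG Scheme.fppfPrecoverage G)) :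
    Red.IsReductiveOver k G := by
  have : IsAffine G.left := isAffine_of_isAffineHom G.hom
  obtain ⟨B, _, _, e, he⟩ := exists_hopf k G
  have hsm : Smooth (SpecOver k B).hom := by
    have h1 : (SpecOver k B).hom = e.inv.left ≫ G.hom := (Over.w e.inv).symm
    rw [h1]
    infer_instance
  have hft : Algebra.FiniteType k B := (locallyOfFiniteType_specOver_iff k B).1 inferInstance
  have hconn : ConnectedSpace (SpecOver k B).left := by
    have h0 : ConnectedSpace ((Over.forget (Spec (CommRingCat.of k))).obj G) := hGc
    have h1 := (Scheme.homeoOfIso ((Over.forget _).mapIso e))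
    exact h1.surjective.connectedSpace h1.continuous
  have hdom : IsDomain B := (isDomain_iff (K := k) B).1 ⟨hsm, hconn⟩
  have he' : IsMonHom e.symm.hom := inferInstanceAs (IsMonHom e.inv)
  refine BrRed2.isReductiveOver_of_iso e.symm (BrRed2.isReductiveOver_iff.2 ⟨hdom, ?_⟩)
  intro N hn hcl hcn hu
  by_contra hne
  obtain ⟨q, hqs, hq, hqN⟩ := exists_jp hcl hcn hu hne
  obtain ⟨r, P, hP0, hP, hrel⟩ := exists_fn hn hu hq hqN (by
    obtain ⟨b, hb⟩ := hqs X
    refine ⟨1, fun h1 => ?_⟩
    have h2 := jp_apply q 1 b
    have h3 := jp_apply q 0 b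
    rw [jp_zero hq] at h3
    rw [h1, h3, hb] at h2
    simp at h2)
  have hd : P.natDegree ≠ 0 := by
    intro h0
    rw [Polynomial.natDegree_eq_zero] at h0
    obtain ⟨c, rfl⟩ := h0
    rw [Polynomial.eval_C] at hP0
    exact hP (by rw [hP0, map_zero])
  obtain ⟨d, hd'⟩ := Nat.exists_eq_succ_of_ne_zero hd
  have hX : Irreducible (PowerSeries.X : PowerSeries k) := (PowerSeries.X_prime (R := k)).irreducible
  refine GNot2.not_lifts (G := G) (P := PS P) (d := d) hX (toJR e hq hrel)
    (Polynomial.natDegree_map_le.trans hd'.le) ?_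
    (hS (PowerSeries k) PowerSeries.X hX
      (Spec.map (CommRingCat.ofHom (algebraMap k (PowerSeries k)))))
  rw [Polynomial.coeff_map]
  refine IsUnit.map _ (IsUnit.mk0 _ ?_)
  have h1 : P.coeff P.natDegree ≠ 0 := by
    rw [Polynomial.coeff_natDegree, Polynomial.leadingCoeff_ne_zero]
    exact hP
  rw [hd'] at h1
  exact h1

end K942.NotRed
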