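import Groth.Prelude.Def_LiftSq
import Groth.Prelude.Def_FibCat2

/-!
# Formal properties of unique lifting against a functor over `C` (ThetaS, helper942)

* `K942.LiftFormal.liftsUniquely_comp` : composition on the right side
* `K942.LiftFormal.liftsUniquely_fpFst` : base change on the right side
-/

set_option autoImplicit false
set_option backward.isDefEq.respectTransparency false
set_option backward.isDefEq.respectTransparency.types false

universe v₇ u₇ v₆ u₆ v₅ u₅ v₄ u₄ v₃ u₃ v₂ u₂ v u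

open CategoryTheory LiftSq

namespace K942.LiftFormal

variable {C : Type u} [Category.{v} C]
  {𝒜 : BasedCategory.{v₂, u₂} C} {ℬ : BasedCategory.{v₃, u₃} C}
  {𝒳 : BasedCategory.{v₄, u₄} C} {𝒴 : BasedCategory.{v₅, u₅} C}
  {𝒵 : BasedCategory.{v₆, u₆} C}

/-- Two 2-morphisms agree when all their components do. -/
theorem hom_ext_app {F G : 𝒜 ⥤ᵇ ℬ} {α β : F ⟶ G} (h : ∀ a, α.toNatTrans.app a = β.toNatTrans.app a) : α = β := by
  apply BasedNatTrans.homCategory.ext
  ext a
  exact h a

theorem app_congr {F G : 𝒜 ⥤ᵇ ℬ} {α β : F ⟶ G} (h : α = β) (a : 𝒜.obj) :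
    α.toNatTrans.app a = β.toNatTrans.app a := by rw [h]

@[simp] theorem comp_app {F G H : 𝒜 ⥤ᵇ ℬ} (α : F ⟶ G) (β : G ⟶ H) (a : 𝒜.obj) :
    (α ≫ β).toNatTrans.app a = α.toNatTrans.app a ≫ β.toNatTrans.app a := rfl

@[simp] theorem id_app {F : 𝒜 ⥤ᵇ ℬ} (a : 𝒜.obj) :
    (𝟙 F : F ⟶ F).toNatTrans.app a = 𝟙 (F.obj a) := rfl

theorem hom_inv_app {F G : 𝒜 ⥤ᵇ ℬ} (α : F ≅ G) (a : 𝒜.obj) :
    α.hom.toNatTrans.app a ≫ α.inv.toNatTrans.app a = 𝟙 _ := by
  have := app_congr α.hom_inv_id a
  exact this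

theorem inv_hom_app {F G : 𝒜 ⥤ᵇ ℬ} (α : F ≅ G) (a : 𝒜.obj) :
    α.inv.toNatTrans.app a ≫ α.hom.toNatTrans.app a = 𝟙 _ := by
  have := app_congr α.inv_hom_id a
  exact this

/-- Left whiskering of a 2-isomorphism. -/
def wlIso (F : 𝒜 ⥤ᵇ ℬ) {G H : ℬ ⥤ᵇ 𝒳} (α : G ≅ H) : BasedFunctor.comp F G ≅ BasedFunctor.comp F H where
  hom := BasedCategory.whiskerLeft F α.hom
  inv := BasedCategory.whiskerLeft F α.inv
  hom_inv_id := by rw [← whiskerLeft_comp', α.hom_inv_id, whiskerLeft_id']
  inv_hom_id := by rw [← whiskerLeft_comp', α.inv_hom_id, whiskerLeft_id']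

/-- Right whiskering of a 2-isomorphism. -/
def wrIso {F G : 𝒜 ⥤ᵇ ℬ} (α : F ≅ G) (H : ℬ ⥤ᵇ 𝒳) : BasedFunctor.comp F H ≅ BasedFunctor.comp G H where
  hom := BasedCategory.whiskerRight α.hom H
  inv := BasedCategory.whiskerRight α.inv H
  hom_inv_id := by rw [← whiskerRight_comp', α.hom_inv_id, whiskerRight_id']
  inv_hom_id := by rw [← whiskerRight_comp', α.inv_hom_id, whiskerRight_id']

@[simp] theorem wlIso_hom (F : 𝒜 ⥤ᵇ ℬ) {G H : ℬ ⥤ᵇ 𝒳} (α : G ≅ H) :
    (wlIso F α).hom = BasedCategory.whiskerLeft F α.hom := rfl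
@[simp] theorem wrIso_hom {F G : 𝒜 ⥤ᵇ ℬ} (α : F ≅ G) (H : ℬ ⥤ᵇ 𝒳) :
    (wrIso α H).hom = BasedCategory.whiskerRight α.hom H := rfl
@[simp] theorem wlIso_inv (F : 𝒜 ⥤ᵇ ℬ) {G H : ℬ ⥤ᵇ 𝒳} (α : G ≅ H) :
    (wlIso F α).inv = BasedCategory.whiskerLeft F α.inv := rfl
@[simp] theorem wrIso_inv {F G : 𝒜 ⥤ᵇ ℬ} (α : F ≅ G) (H : ℬ ⥤ᵇ 𝒳) :
    (wrIso α H).inv = BasedCategory.whiskerRight α.inv H := rfl

variable {j : 𝒜 ⥤ᵇ ℬ} {f : 𝒳 ⥤ᵇ 𝒴} {g : 𝒴 ⥤ᵇ 𝒵}

theorem lift_w_app {sq : Sq j f} (d : sq.Lift) (a : 𝒜.obj) :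
    d.isoBot.hom.toNatTrans.app (j.obj a) ≫ f.map (d.isoTop.hom.toNatTrans.app a) = sq.iso.hom.toNatTrans.app a :=
  app_congr d.w a

/-- A morphism of dotted arrows componentwise. -/
def mkHom {sq : Sq j f} {d d' : sq.Lift} (θ : d.fn ⟶ d'.fn)
    (h₁ : ∀ a : 𝒜.obj, θ.toNatTrans.app (j.obj a) ≫ d'.isoTop.hom.toNatTrans.app a = d.isoTop.hom.toNatTrans.app a)
    (h₂ : ∀ b : ℬ.obj, d.isoBot.hom.toNatTrans.app b ≫ f.map (θ.toNatTrans.app b) = d'.isoBot.hom.toNatTrans.app b) :
    d ⟶ d' where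
  hom := θ
  w_top := hom_ext_app h₁
  w_bot := hom_ext_app h₂

theorem lift_hom_ext {sq : Sq j f} {d d' : sq.Lift} {θ θ' : d ⟶ d'}
    (h : ∀ b : ℬ.obj, θ.hom.toNatTrans.app b = θ'.hom.toNatTrans.app b) : θ = θ' :=
  Sq.Lift.hom_ext (hom_ext_app h)

/-- The first square of a square over `f ⋙ g`. -/
def sq₁ (sq : Sq j (BasedFunctor.comp f g)) : Sq j g where
  top := BasedFunctor.comp sq.top f
  bot := sq.bot
  iso := sq.iso

/-- a dotted arrow of `sq` gives one of `sq₁` -/
def lift₁ {sq : Sq j (BasedFunctor.comp f g)} (d : sq.Lift) : (sq₁ sq).Lift where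
  fn := BasedFunctor.comp d.fn f
  isoTop := wrIso d.isoTop f
  isoBot := d.isoBot
  w := d.w

theorem liftsUniquely_comp (hf : LiftsUniquely j f) (hg : LiftsUniquely j g) :
    LiftsUniquely j (BasedFunctor.comp f g) := by
  intro sq
  refine ⟨?_, ?_⟩
  · obtain ⟨y⟩ := (hg (sq₁ sq)).1
    let sq₂ : Sq j f := ⟨sq.top, y.fn, y.isoTop⟩
    obtain ⟨x⟩ := (hf sq₂).1
    refine ⟨⟨x.fn, x.isoTop, y.isoBot ≪≫ wrIso x.isoBot g, ?_⟩⟩
    apply hom_ext_app
    intro a
    have hx := lift_w_app x a
    have hy := lift_w_app y a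
    change (y.isoBot.hom.toNatTrans.app (j.obj a) ≫ g.map (x.isoBot.hom.toNatTrans.app (j.obj a))) ≫
      g.map (f.map (x.isoTop.hom.toNatTrans.app a)) = sq.iso.hom.toNatTrans.app a
    rw [Category.assoc, ← g.map_comp, hx]
    exact hy
  · intro d d'
    obtain ⟨⟨θ⟩, hθu⟩ := ((hg (sq₁ sq)).2 (lift₁ d) (lift₁ d')).some
    obtain ⟨⟨θ'⟩, _⟩ := ((hg (sq₁ sq)).2 (lift₁ d') (lift₁ d)).some
    obtain ⟨_, hu1⟩ := ((hg (sq₁ sq)).2 (lift₁ d) (lift₁ d)).some
    obtain ⟨_, hu2⟩ := ((hg (sq₁ sq)).2 (lift₁ d') (lift₁ d')).some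
    have e1 : θ ≫ θ' = 𝟙 _ := (hu1 _).trans (hu1 _).symm
    have e2 : θ' ≫ θ = 𝟙 _ := (hu2 _).trans (hu2 _).symm
    let Θ : BasedFunctor.comp d.fn f ≅ BasedFunctor.comp d'.fn f :=
      ⟨θ.hom, θ'.hom, congrArg Sq.Lift.Hom.hom e1, congrArg Sq.Lift.Hom.hom e2⟩
    let sq₂ : Sq j f := ⟨sq.top, BasedFunctor.comp d'.fn f, wrIso d'.isoTop f⟩
    let D' : sq₂.Lift := ⟨d'.fn, d'.isoTop, Iso.refl _, by
      apply hom_ext_app; intro a
      change 𝟙 _ ≫ f.map (d'.isoTop.hom.toNatTrans.app a) = _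
      rw [Category.id_comp]; rfl⟩
    let D : sq₂.Lift := ⟨d.fn, d.isoTop, Θ.symm, by
      apply hom_ext_app; intro a
      have := app_congr θ'.w_top a
      exact this⟩
    obtain ⟨⟨η⟩, hη⟩ := ((hf sq₂).2 D D').some
    have hηf : ∀ b, f.map (η.hom.toNatTrans.app b) = θ.hom.toNatTrans.app b := by
      intro b
      have h := app_congr η.w_bot b
      have h' : θ'.hom.toNatTrans.app b ≫ f.map (η.hom.toNatTrans.app b) = 𝟙 _ := h
      have h2 : θ.hom.toNatTrans.app b ≫ θ'.hom.toNatTrans.app b = 𝟙 _ := hom_inv_app Θ b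
      calc f.map (η.hom.toNatTrans.app b) = (θ.hom.toNatTrans.app b ≫ θ'.hom.toNatTrans.app b) ≫
            f.map (η.hom.toNatTrans.app b) := by rw [h2]; exact (Category.id_comp _).symm
        _ = _ := by rw [Category.assoc, h']; exact Category.comp_id _
    refine ⟨⟨⟨mkHom η.hom (fun a => app_congr η.w_top a) ?_⟩, ?_⟩⟩
    · intro b
      change d.isoBot.hom.toNatTrans.app b ≫ g.map (f.map (η.hom.toNatTrans.app b)) = _
      rw [hηf]
      exact app_congr θ.w_bot b
    · intro ζ
      apply lift_hom_ext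
      intro b
      -- `ζ` gives a morphism of dotted arrows of `sq₁`
      let ζ₁ : lift₁ d ⟶ lift₁ d' := mkHom (BasedCategory.whiskerRight ζ.hom f)
        (fun a => by
          change f.map (ζ.hom.toNatTrans.app (j.obj a)) ≫ f.map (d'.isoTop.hom.toNatTrans.app a) =
            f.map (d.isoTop.hom.toNatTrans.app a)
          rw [← f.map_comp]; exact congrArg f.map (app_congr ζ.w_top a))
        (fun b => app_congr ζ.w_bot b)
      have hζ₁ : ζ₁ = θ := hθu ζ₁
      have hζf : ∀ b, f.map (ζ.hom.toNatTrans.app b) = θ.hom.toNatTrans.app b := fun b => by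
        rw [← hζ₁]; rfl
      let ζ₂ : D ⟶ D' := mkHom ζ.hom (fun a => app_congr ζ.w_top a) (fun b => by
        change θ'.hom.toNatTrans.app b ≫ f.map (ζ.hom.toNatTrans.app b) = 𝟙 _
        rw [hζf]
        exact inv_hom_app Θ b)
      have : ζ₂ = η := hη ζ₂
      have h3 := congrArg (fun t : D ⟶ D' => t.hom.toNatTrans.app b) this
      exact h3

section BaseChange

open FibCat

variable {𝒴' : BasedCategory.{v₇, u₇} C} (y : 𝒴' ⥤ᵇ 𝒴)

/-- A 2-isomorphism into the 2-fibre product from 2-isomorphisms of the components. -/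
def isoFp {F G : 𝒜 ⥤ᵇ fp y f} (α : BasedFunctor.comp F (fpFst y f) ≅ BasedFunctor.comp G (fpFst y f))
    (β : BasedFunctor.comp F (fpSnd y f) ≅ BasedFunctor.comp G (fpSnd y f))
    (h : ∀ a : 𝒜.obj, y.map (α.hom.toNatTrans.app a) ≫ (G.obj a).obj.iso.hom =
      (F.obj a).obj.iso.hom ≫ f.map (β.hom.toNatTrans.app a)) : F ≅ G :=
  have hinv : ∀ a : 𝒜.obj, y.map (α.inv.toNatTrans.app a) ≫ (F.obj a).obj.iso.hom =
      (G.obj a).obj.iso.hom ≫ f.map (β.inv.toNatTrans.app a) := fun a => by
    have h1 : y.map (α.inv.toNatTrans.app a) ≫ y.map (α.hom.toNatTrans.app a) = 𝟙 _ := by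
      rw [← y.map_comp, inv_hom_app α a]; exact y.map_id _
    have h2 : f.map (β.hom.toNatTrans.app a) ≫ f.map (β.inv.toNatTrans.app a) = 𝟙 _ := by
      rw [← f.map_comp, hom_inv_app β a]; exact f.map_id _
    calc y.map (α.inv.toNatTrans.app a) ≫ (F.obj a).obj.iso.hom
        = y.map (α.inv.toNatTrans.app a) ≫ ((F.obj a).obj.iso.hom ≫
            (f.map (β.hom.toNatTrans.app a) ≫ f.map (β.inv.toNatTrans.app a))) := by
              rw [h2]; congr 1; exact (Category.comp_id _).symm
      _ = (y.map (α.inv.toNatTrans.app a) ≫ y.map (α.hom.toNatTrans.app a)) ≫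
            ((G.obj a).obj.iso.hom ≫ f.map (β.inv.toNatTrans.app a)) := by
              simp only [← Category.assoc]
              rw [Category.assoc (y.map _) _ (f.map _), ← h a]
              simp only [Category.assoc]
      _ = _ := by rw [h1]; exact Category.id_comp _
  { hom :=
      { app := fun a => ObjectProperty.homMk
          { fst := α.hom.toNatTrans.app a
            snd := β.hom.toNatTrans.app a
            w := h a }
        naturality := fun a b φ => by
          apply ObjectProperty.hom_ext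
          apply Limits.CategoricalPullback.hom_ext
          · exact α.hom.toNatTrans.naturality φ
          · exact β.hom.toNatTrans.naturality φ
        isHomLift' := fun a => by
          rw [← BasedFunctor.isHomLift_iff (fpFst y f)]
          exact α.hom.isHomLift' a }
    inv :=
      { app := fun a => ObjectProperty.homMk
          { fst := α.inv.toNatTrans.app a
            snd := β.inv.toNatTrans.app a
            w := hinv a }
        naturality := fun a b φ => by
          apply ObjectProperty.hom_ext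
          apply Limits.CategoricalPullback.hom_ext
          · exact α.inv.toNatTrans.naturality φ
          · exact β.inv.toNatTrans.naturality φ
        isHomLift' := fun a => by
          rw [← BasedFunctor.isHomLift_iff (fpFst y f)]
          exact α.inv.isHomLift' a }
    hom_inv_id := by
      apply hom_ext_app; intro a
      apply ObjectProperty.hom_ext
      apply Limits.CategoricalPullback.hom_ext
      · exact hom_inv_app α a
      · exact hom_inv_app β a
    inv_hom_id := by
      apply hom_ext_app; intro a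
      apply ObjectProperty.hom_ext
      apply Limits.CategoricalPullback.hom_ext
      · exact inv_hom_app α a
      · exact inv_hom_app β a }

/-- The square over `f` induced by a square over its base change. -/
def sqBC (sq : Sq j (fpFst y f)) : Sq j f where
  top := BasedFunctor.comp sq.top (fpSnd y f)
  bot := BasedFunctor.comp sq.bot y
  iso := (wrIso sq.iso y : BasedFunctor.comp j (BasedFunctor.comp sq.bot y) ≅
    BasedFunctor.comp sq.top (BasedFunctor.comp (fpFst y f) y)) ≪≫ wlIso sq.top (fpIso y f)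

theorem sqBC_iso_app (sq : Sq j (fpFst y f)) (a : 𝒜.obj) :
    (sqBC y sq).iso.hom.toNatTrans.app a = y.map (sq.iso.hom.toNatTrans.app a) ≫ (sq.top.obj a).obj.iso.hom := rfl

/-- A dotted arrow of a square over the base change gives one of the induced square. -/
def liftBC {sq : Sq j (fpFst y f)} (d : sq.Lift) : (sqBC y sq).Lift where
  fn := BasedFunctor.comp d.fn (fpSnd y f)
  isoTop := wrIso d.isoTop (fpSnd y f)
  isoBot := (wrIso d.isoBot y : BasedFunctor.comp sq.bot y ≅
    BasedFunctor.comp d.fn (BasedFunctor.comp (fpFst y f) y)) ≪≫ wlIso d.fn (fpIso y f)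
  w := by
    apply hom_ext_app
    intro a
    have h := lift_w_app d a
    have hw := (d.isoTop.hom.toNatTrans.app a).hom.w
    change (y.map (d.isoBot.hom.toNatTrans.app (j.obj a)) ≫ (d.fn.obj (j.obj a)).obj.iso.hom) ≫
      f.map ((d.isoTop.hom.toNatTrans.app a).hom.snd) =
      y.map (sq.iso.hom.toNatTrans.app a) ≫ (sq.top.obj a).obj.iso.hom
    rw [← h, y.map_comp, Category.assoc, Category.assoc]
    congr 1
    exact hw.symm

theorem liftsUniquely_fpFst (hf : LiftsUniquely j f) : LiftsUniquely j (fpFst y f) := by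
  intro sq
  refine ⟨?_, ?_⟩
  · obtain ⟨x⟩ := (hf (sqBC y sq)).1
    refine ⟨⟨fpLift sq.bot x.fn x.isoBot, isoFp y sq.iso x.isoTop ?_, Iso.refl _, ?_⟩⟩
    · intro a
      exact (lift_w_app x a).symm
    · apply hom_ext_app
      intro a
      change 𝟙 _ ≫ sq.iso.hom.toNatTrans.app a = _
      exact Category.id_comp _
  · intro d d'
    obtain ⟨⟨θ⟩, hθu⟩ := ((hf (sqBC y sq)).2 (liftBC y d) (liftBC y d')).some
    have hw : ∀ b : ℬ.obj, (y.map (d.isoBot.hom.toNatTrans.app b) ≫ (d.fn.obj b).obj.iso.hom) ≫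
        f.map (θ.hom.toNatTrans.app b) =
        y.map (d'.isoBot.hom.toNatTrans.app b) ≫ (d'.fn.obj b).obj.iso.hom := fun b => app_congr θ.w_bot b
    have hww : ∀ b : ℬ.obj, y.map ((d.isoBot.symm ≪≫ d'.isoBot).hom.toNatTrans.app b) ≫
        (d'.fn.obj b).obj.iso.hom = (d.fn.obj b).obj.iso.hom ≫ f.map (θ.hom.toNatTrans.app b) := by
      intro b
      change y.map (d.isoBot.inv.toNatTrans.app b ≫ d'.isoBot.hom.toNatTrans.app b) ≫ _ = _
      rw [y.map_comp, Category.assoc, ← hw b, Category.assoc, ← Category.assoc, ← y.map_comp,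
        inv_hom_app d.isoBot b]
      rw [show y.map (𝟙 ((BasedFunctor.comp d.fn (fpFst y f)).obj b)) = 𝟙 _ from y.map_id _]
      exact Category.id_comp _
    let η : d.fn ⟶ d'.fn :=
      { app := fun b => ObjectProperty.homMk
          { fst := (d.isoBot.symm ≪≫ d'.isoBot).hom.toNatTrans.app b
            snd := θ.hom.toNatTrans.app b
            w := hww b }
        naturality := fun a b φ => by
          apply ObjectProperty.hom_ext
          apply Limits.CategoricalPullback.hom_ext
          · exact (d.isoBot.symm ≪≫ d'.isoBot).hom.toNatTrans.naturality φ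
          · exact θ.hom.toNatTrans.naturality φ
        isHomLift' := fun a => by
          rw [← BasedFunctor.isHomLift_iff (fpFst y f)]
          exact (d.isoBot.symm ≪≫ d'.isoBot).hom.isHomLift' a }
    have hη1 : ∀ b, d.isoBot.hom.toNatTrans.app b ≫ (fpFst y f).map (η.toNatTrans.app b) =
        d'.isoBot.hom.toNatTrans.app b := by
      intro b
      change d.isoBot.hom.toNatTrans.app b ≫ (d.isoBot.inv.toNatTrans.app b ≫ d'.isoBot.hom.toNatTrans.app b) = _
      rw [← Category.assoc, hom_inv_app d.isoBot b]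
      exact Category.id_comp _
    refine ⟨⟨⟨mkHom η ?_ hη1⟩, ?_⟩⟩
    · intro a
      apply ObjectProperty.hom_ext
      apply Limits.CategoricalPullback.hom_ext
      · -- first component: both are determined by the compatibility with `sq.iso`
        have h1 := lift_w_app d a
        have h2 := lift_w_app d' a
        change (d.isoBot.inv.toNatTrans.app (j.obj a) ≫ d'.isoBot.hom.toNatTrans.app (j.obj a)) ≫
          (fpFst y f).map (d'.isoTop.hom.toNatTrans.app a) = (fpFst y f).map (d.isoTop.hom.toNatTrans.app a)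
        rw [Category.assoc]
        erw [h2, ← h1]
        rw [← Category.assoc, inv_hom_app d.isoBot (j.obj a)]
        exact Category.id_comp _
      · exact app_congr θ.w_top a
    · intro ζ
      apply lift_hom_ext
      intro b
      apply ObjectProperty.hom_ext
      apply Limits.CategoricalPullback.hom_ext
      · have h1 : d.isoBot.hom.toNatTrans.app b ≫ (fpFst y f).map (ζ.hom.toNatTrans.app b) =
            d'.isoBot.hom.toNatTrans.app b := app_congr ζ.w_bot b
        change (ζ.hom.toNatTrans.app b).hom.fst = d.isoBot.inv.toNatTrans.app b ≫ d'.isoBot.hom.toNatTrans.app b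
        rw [← h1, ← Category.assoc, inv_hom_app d.isoBot b]
        exact (Category.id_comp _).symm
      · let ζ' : liftBC y d ⟶ liftBC y d' := mkHom (BasedCategory.whiskerRight ζ.hom (fpSnd y f))
          (fun a => by
            change (fpSnd y f).map (ζ.hom.toNatTrans.app (j.obj a)) ≫
              (fpSnd y f).map (d'.isoTop.hom.toNatTrans.app a) = (fpSnd y f).map (d.isoTop.hom.toNatTrans.app a)
            rw [← (fpSnd y f).map_comp]
            exact congrArg (fpSnd y f).map (app_congr ζ.w_top a))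
          (fun b => by
            have h1 : d.isoBot.hom.toNatTrans.app b ≫ (fpFst y f).map (ζ.hom.toNatTrans.app b) =
              d'.isoBot.hom.toNatTrans.app b := app_congr ζ.w_bot b
            have hz := (ζ.hom.toNatTrans.app b).hom.w
            change (y.map (d.isoBot.hom.toNatTrans.app b) ≫ (d.fn.obj b).obj.iso.hom) ≫
              f.map ((ζ.hom.toNatTrans.app b).hom.snd) =
              y.map (d'.isoBot.hom.toNatTrans.app b) ≫ (d'.fn.obj b).obj.iso.hom
            rw [Category.assoc]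
            erw [← hz]
            rw [← h1, y.map_comp, Category.assoc]
            rfl)
        have : ζ' = θ := hθu ζ'
        have h3 := congrArg (fun t : liftBC y d ⟶ liftBC y d' => t.hom.toNatTrans.app b) this
        exact h3

end BaseChange

end K942.LiftFormal
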