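import Groth.Agent.ThetaS.K942.URep

/-!
# Lifting along a morphism `i : V ⟶ T` through a representable functor

`LiftsAt f i`, `UniqAt f i`: existence and uniqueness of extensions along `i : V ⟶ T` of objects
of `𝒳` with given image in `𝒴`. They hold if `f` is representable with property `P` and every
section over `V` of `g : W ⟶ T` with `P g` extends uniquely to `T` (`Ext P i`).
-/

set_option autoImplicit false
set_option linter.unusedSectionVars false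
set_option linter.dupNamespace false
set_option backward.isDefEq.respectTransparency false
set_option backward.isDefEq.respectTransparency.types false

universe v₂ u₂ v₁ u₁ v u

open CategoryTheory

namespace K942.AffLift

variable {C : Type u} [Category.{v} C] {𝒳 : BasedCategory.{v₁, u₁} C} {𝒴 : BasedCategory.{v₂, u₂} C}

/-- Objects of `𝒳` over `V` whose image is a restriction of `y` extend to `T`. -/
def LiftsAt (f : 𝒳 ⥤ᵇ 𝒴) {V T : C} (i : V ⟶ T) : Prop :=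
  ∀ (y : 𝒴.obj) (xv : 𝒳.obj) (c : f.obj xv ⟶ y), 𝒴.p.IsHomLift i c →
    ∃ (x : 𝒳.obj) (t : xv ⟶ x) (β : f.obj x ⟶ y),
      𝒳.p.IsHomLift i t ∧ 𝒴.p.IsHomLift (𝟙 T) β ∧ f.map t ≫ β = c

/-- Two extensions are uniquely isomorphic. -/
def UniqAt (f : 𝒳 ⥤ᵇ 𝒴) {V T : C} (i : V ⟶ T) : Prop :=
  ∀ (xv x x2 : 𝒳.obj) (t : xv ⟶ x) (t2 : xv ⟶ x2) (ψ : f.obj x ⟶ f.obj x2),
    𝒳.p.IsHomLift i t → 𝒳.p.IsHomLift i t2 → 𝒴.p.IsHomLift (𝟙 T) ψ → f.map t ≫ ψ = f.map t2 →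
    ∃! φ : x ⟶ x2, 𝒳.p.IsHomLift (𝟙 T) φ ∧ t ≫ φ = t2 ∧ f.map φ = ψ

/-- Sections over `V` of `g : W ⟶ T` with `P g` extend uniquely. -/
def Ext (P : MorphismProperty C) {V T : C} (i : V ⟶ T) : Prop :=
  ∀ (W : C) (g : W ⟶ T) (s : V ⟶ W), P g → s ≫ g = i → ∃! s' : T ⟶ W, i ≫ s' = s ∧ s' ≫ g = 𝟙 T

variable {P : MorphismProperty C} {f : 𝒳 ⥤ᵇ 𝒴} {V T : C} {i : V ⟶ T}

open K862.Fib URep

theorem base_unique {D : Type*} [Category* D] {p : D ⥤ C} {R T : C} {a b : D} (f f' : R ⟶ T) (φ : a ⟶ b)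
    [p.IsHomLift f φ] [p.IsHomLift f' φ] : f = f' := by
  obtain rfl := IsHomLift.domain_eq p f φ
  obtain rfl := IsHomLift.codomain_eq p f φ
  rw [IsHomLift.eq_of_isHomLift p f φ, IsHomLift.eq_of_isHomLift p f' φ]

theorem liftsAt [FibCat.IsFibGrpd 𝒳.p] (hf : URep P f) (hi : Ext P i) : LiftsAt f i := by
  intro y xv c hc
  obtain rfl := IsHomLift.codomain_eq 𝒴.p i c
  have hV := IsHomLift.domain_eq 𝒴.p i c
  rw [f.w_obj] at hV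
  subst hV
  obtain ⟨l, g, c₀, hc₀, hg, hl⟩ := hf y
  obtain ⟨m, hm, -⟩ := hl xv c
  have h1 : 𝒴.p.IsHomLift (𝒳.p.map m) (f.map m) :=
    BasedFunctor.preserves_isHomLift f (𝒳.p.map m) m
  have h2 : 𝒴.p.IsHomLift (𝒳.p.map m ≫ g) c := by rw [← hm]; infer_instance
  have h3 : 𝒳.p.map m ≫ g = i := base_unique (p := 𝒴.p) _ _ c
  obtain ⟨s', ⟨hs1, hs2⟩, -⟩ := hi _ g _ hg h3
  obtain ⟨⟨x, hx⟩, μ, hμ⟩ := exists_pull (p := 𝒳.p) s' (⟨l, rfl⟩ : 𝒳.p.Fiber (𝒳.p.obj l))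
  simp only at μ hμ
  obtain ⟨t, ⟨ht1, ht2⟩, -⟩ := exists_fill (p := 𝒳.p) (k := 𝒳.p.map m) s' i hs1.symm μ m
  have h4 : 𝒴.p.IsHomLift s' (f.map μ) := BasedFunctor.preserves_isHomLift f s' μ
  refine ⟨x, t, f.map μ ≫ c₀, ht1, ?_, ?_⟩
  · rw [← hs2]; infer_instance
  · rw [← Category.assoc, ← f.toFunctor.map_comp, ht2, hm]

theorem uniqAt [FibCat.IsFibGrpd 𝒳.p] (hf : URep P f) (hi : Ext P i) : UniqAt f i := by
  intro xv x x2 t t2 ψ ht ht2 hψ e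
  obtain rfl := IsHomLift.codomain_eq 𝒳.p i t
  obtain rfl := IsHomLift.domain_eq 𝒳.p i t
  have hb2 : 𝒳.p.obj x2 = 𝒳.p.obj x := IsHomLift.codomain_eq 𝒳.p i t2
  obtain ⟨l, g, c₀, hc₀, hg, hl⟩ := hf (f.obj x2)
  have hb3 : 𝒴.p.obj (f.obj x2) = 𝒳.p.obj x := (f.w_obj x2).trans hb2
  obtain ⟨g', hg', hgP⟩ : ∃ g' : 𝒳.p.obj l ⟶ 𝒳.p.obj x, 𝒴.p.IsHomLift g' c₀ ∧ P g' := by
    generalize 𝒳.p.obj x = a at hb3
    subst hb3
    exact ⟨g, hc₀, hg⟩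
  obtain ⟨k, hk, -⟩ := hl x ψ
  obtain ⟨k2, hk2, -⟩ := hl x2 (𝟙 _)
  obtain ⟨s2, hs2⟩ : ∃ s2 : 𝒳.p.obj x ⟶ 𝒳.p.obj l, 𝒳.p.IsHomLift s2 k2 := by
    rw [← hb2]
    exact ⟨𝒳.p.map k2, inferInstance⟩
  have hfk : 𝒴.p.IsHomLift (𝒳.p.map k) (f.map k) :=
    BasedFunctor.preserves_isHomLift f (𝒳.p.map k) k
  have hfk2 : 𝒴.p.IsHomLift s2 (f.map k2) := BasedFunctor.preserves_isHomLift f s2 k2
  have h1 : 𝒳.p.map k ≫ g' = 𝟙 _ := by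
    have : 𝒴.p.IsHomLift (𝒳.p.map k ≫ g') ψ := by rw [← hk]; infer_instance
    exact base_unique (p := 𝒴.p) _ _ ψ
  have h2 : s2 ≫ g' = 𝟙 _ := by
    have : 𝒴.p.IsHomLift (s2 ≫ g') (𝟙 (f.obj x2)) := by rw [← hk2]; infer_instance
    have : 𝒴.p.IsHomLift (𝟙 (𝒳.p.obj x)) (𝟙 (f.obj x2)) := by
      rw [← hb3]; infer_instance
    exact base_unique (p := 𝒴.p) _ _ (𝟙 (f.obj x2))
  have h3 : t ≫ k = t2 ≫ k2 := by
    obtain ⟨n, -, hn⟩ := hl xv (f.map t2)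
    rw [hn (t ≫ k) (by
      beta_reduce
      rw [f.toFunctor.map_comp, Category.assoc, hk, e]),
      hn (t2 ≫ k2) (by
      beta_reduce
      rw [f.toFunctor.map_comp, Category.assoc, hk2, Category.comp_id])]
  have h4 : i ≫ 𝒳.p.map k = i ≫ s2 := by
    have : 𝒳.p.IsHomLift (i ≫ s2) (t ≫ k) := by rw [h3]; infer_instance
    exact base_unique (p := 𝒳.p) _ _ (t ≫ k)
  have h5 : 𝒳.p.map k = s2 := by
    obtain ⟨n, -, hn⟩ := hi _ g' (i ≫ s2) hgP (by rw [Category.assoc, h2, Category.comp_id])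
    rw [hn _ ⟨h4, h1⟩, hn _ ⟨rfl, h2⟩]
  have h6 : 𝒳.p.IsHomLift s2 k := by rw [← h5]; infer_instance
  obtain ⟨φ, ⟨hφ1, hφ2⟩, hφ3⟩ :=
    exists_fill (p := 𝒳.p) s2 (𝟙 _) (Category.id_comp s2).symm k2 k
  refine ⟨φ, ⟨hφ1, ?_, ?_⟩, ?_⟩
  · have h7 : 𝒳.p.IsHomLift i (t ≫ φ) := by
      have : 𝒳.p.IsHomLift (i ≫ 𝟙 _) (t ≫ φ) := inferInstance
      rwa [Category.comp_id] at this
    exact cancel (p := 𝒳.p) s2 i k2 (by rw [Category.assoc, hφ2, h3])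
  · rw [← hk, ← hφ2, f.toFunctor.map_comp, Category.assoc, hk2, Category.comp_id]
  · rintro φ' ⟨hφ'1, -, hφ'2⟩
    refine hφ3 φ' ⟨hφ'1, ?_⟩
    obtain ⟨n, -, hn⟩ := hl x ψ
    rw [hn k hk, hn (φ' ≫ k2) (by
      beta_reduce
      rw [f.toFunctor.map_comp, Category.assoc, hk2, Category.comp_id, hφ'2])]

end K942.AffLift
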