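import Groth.Agent.ThetaS.K942.RegPair
import Groth.Agent.ThetaS.K942.AffLift
import Mathlib.AlgebraicGeometry.Morphisms.QuasiSeparated

/-!
# Functions and sections of affine morphisms on the complement of `V(a, b)`, `(a, b)` a regular pair
-/

set_option autoImplicit false
set_option linter.dupNamespace false

universe u

open CategoryTheory AlgebraicGeometry TopologicalSpace Opposite

namespace K942.Hartogs

open RegPair

section res

variable {X : Scheme.{u}}

theorem res_res {U V W : X.Opens} (h : V ≤ U) (h' : W ≤ V) (s : Γ(X, U)) :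
    X.presheaf.map (homOfLE h').op (X.presheaf.map (homOfLE h).op s) =
      X.presheaf.map (homOfLE (h'.trans h)).op s := by
  rw [← CommRingCat.comp_apply, ← X.presheaf.map_comp]
  rfl

theorem exists_pow_zero (X : Scheme.{u}) [IsAffine X] (f x : Γ(X, ⊤))
    (h : X.presheaf.map (homOfLE (le_top : X.basicOpen f ≤ ⊤)).op x = 0) : ∃ n : ℕ, f ^ n * x = 0 :=
  exists_pow_mul_eq_zero_of_res_basicOpen_eq_zero_of_isCompact X (isAffineOpen_top X).isCompact x f
    (by rwa [TopCat.Presheaf.restrictOpenCommRingCat_apply])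

theorem exists_pow_eq (X : Scheme.{u}) [IsAffine X] (f : Γ(X, ⊤)) (x : Γ(X, X.basicOpen f)) :
    ∃ (n : ℕ) (y : Γ(X, ⊤)), X.presheaf.map (homOfLE (le_top : X.basicOpen f ≤ ⊤)).op y =
      X.presheaf.map (homOfLE (le_top : X.basicOpen f ≤ ⊤)).op f ^ n * x := by
  obtain ⟨n, y, h⟩ := exists_eq_pow_mul_of_isAffineOpen X ⊤ (isAffineOpen_top X) f x
  refine ⟨n, y, ?_⟩
  simpa only [TopCat.Presheaf.restrictOpenCommRingCat_apply] using! h

theorem isUnit_res {U : X.Opens} (f : Γ(X, U)) {V : X.Opens} (h : V ≤ U) (h' : V ≤ X.basicOpen f) :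
    IsUnit (X.presheaf.map (homOfLE h).op f) := by
  rw [← res_res (X.basicOpen_le f) h' f]
  exact (X.toRingedSpace.isUnit_res_basicOpen f).map (X.presheaf.map (homOfLE h').op).hom

theorem bijective_res (X : Scheme.{u}) [IsAffine X] {a b : Γ(X, ⊤)} (h : RegPair a b) {V : X.Opens}
    (hV : V = X.basicOpen a ⊔ X.basicOpen b) :
    Function.Bijective (X.presheaf.map (homOfLE (le_top : V ≤ ⊤)).op) := by
  subst hV
  have ha : X.basicOpen a ≤ X.basicOpen a ⊔ X.basicOpen b := le_sup_left
  have hb : X.basicOpen b ≤ X.basicOpen a ⊔ X.basicOpen b := le_sup_right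
  constructor
  · rw [injective_iff_map_eq_zero]
    intro x hx
    obtain ⟨n, hn⟩ := exists_pow_zero X a x (by rw [← res_res le_top ha, hx, map_zero])
    exact h.pow_left n x hn
  · intro σ
    obtain ⟨n, f, hf⟩ := exists_pow_eq X a (X.presheaf.map (homOfLE ha).op σ)
    obtain ⟨m, g, hg⟩ := exists_pow_eq X b (X.presheaf.map (homOfLE hb).op σ)
    have hab : X.basicOpen (a * b) = X.basicOpen a ⊓ X.basicOpen b := X.basicOpen_mul a b
    have ha' : X.basicOpen (a * b) ≤ X.basicOpen a := hab.le.trans inf_le_left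
    have hb' : X.basicOpen (a * b) ≤ X.basicOpen b := hab.le.trans inf_le_right
    have hf' := congrArg (X.presheaf.map (homOfLE ha').op) hf
    have hg' := congrArg (X.presheaf.map (homOfLE hb').op) hg
    rw [map_mul, map_pow, res_res, res_res, res_res] at hf' hg'
    -- `b ^ m f = a ^ n g` up to a power of `ab`
    have h1 : X.presheaf.map (homOfLE (le_top : X.basicOpen (a * b) ≤ ⊤)).op (b ^ m * f - a ^ n * g) = 0 := by
      rw [map_sub, map_mul, map_mul, map_pow, map_pow, hf', hg']
      ring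
    obtain ⟨k, hk⟩ := exists_pow_zero X (a * b) _ h1
    have h2 : b ^ k * (b ^ m * f - a ^ n * g) = 0 := by
      apply h.pow_left k
      rw [← mul_assoc, ← mul_pow, hk]
    obtain ⟨f', rfl⟩ := h.pow_pow n (m + k) f (b ^ k * g) (by
      rw [pow_add]; linear_combination h2)
    refine ⟨f', X.sheaf.eq_of_locally_eq₂ (homOfLE ha) (homOfLE hb) le_rfl _ _ ?_ ?_⟩
    · change X.presheaf.map (homOfLE ha).op _ = X.presheaf.map (homOfLE ha).op σ
      rw [res_res]
      have hu : IsUnit (X.presheaf.map (homOfLE (le_top : X.basicOpen a ≤ ⊤)).op a ^ n) :=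
        (isUnit_res a le_top le_rfl).pow n
      apply hu.mul_left_cancel
      rw [← hf, map_mul, map_pow]
    · change X.presheaf.map (homOfLE hb).op _ = X.presheaf.map (homOfLE hb).op σ
      rw [res_res]
      have hu : IsUnit (X.presheaf.map (homOfLE (le_top : X.basicOpen b ≤ ⊤)).op b ^ m) :=
        (isUnit_res b le_top le_rfl).pow m
      apply hu.mul_left_cancel
      rw [← hg, ← map_pow, ← map_mul]
      -- `g = b ^ m f'` on `D(b)`
      have h3 : X.presheaf.map (homOfLE (le_top : X.basicOpen (a * b) ≤ ⊤)).op (b ^ m * f' - g) = 0 := by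
        have hua : IsUnit (X.presheaf.map (homOfLE (le_top : X.basicOpen (a * b) ≤ ⊤)).op a ^ n) :=
          (isUnit_res a le_top ha').pow n
        apply hua.mul_left_cancel
        rw [map_mul, map_pow] at hf'
        rw [mul_zero, map_sub, map_mul, map_pow, mul_sub, hg']
        rw [← mul_assoc, mul_comm (_ ^ n) (_ ^ m), mul_assoc, hf']
        ring
      obtain ⟨l, hl⟩ := exists_pow_zero X (a * b) _ h3
      have h4 : b ^ l * (b ^ m * f' - g) = 0 := by
        apply h.pow_left l
        rw [← mul_assoc, ← mul_pow, hl]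
      have hul : IsUnit (X.presheaf.map (homOfLE (le_top : X.basicOpen b ≤ ⊤)).op b ^ l) :=
        (isUnit_res b le_top le_rfl).pow l
      have h5 := congrArg (X.presheaf.map (homOfLE (le_top : X.basicOpen b ≤ ⊤)).op) h4
      rw [map_mul, map_pow, map_zero] at h5
      have h6 := (hul.mul_right_eq_zero).1 h5
      rw [map_sub, sub_eq_zero] at h6
      exact h6

end res

theorem exists_hom {X Y : Scheme.{u}} [IsAffine Y] (φ : Γ(Y, ⊤) ⟶ Γ(X, ⊤)) :
    ∃ f : X ⟶ Y, f.appTop = φ := by
  refine ⟨X.toSpecΓ ≫ Spec.map φ ≫ Y.isoSpec.inv, ?_⟩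
  have h1 : Y.isoSpec.inv.appTop = (Scheme.ΓSpecIso Γ(Y, ⊤)).inv := by
    have h2 : Y.isoSpec.hom.appTop = (Scheme.ΓSpecIso Γ(Y, ⊤)).hom := Scheme.toSpecΓ_appTop Y
    rw [← cancel_mono (Scheme.ΓSpecIso Γ(Y, ⊤)).hom, Iso.inv_hom_id, ← h2, ← Scheme.Hom.comp_appTop,
      Iso.hom_inv_id]
    rfl
  rw [Scheme.Hom.comp_appTop, Scheme.Hom.comp_appTop, h1, Scheme.toSpecΓ_appTop, Category.assoc,
    Scheme.ΓSpecIso_naturality, Iso.inv_hom_id_assoc]

open AffLift in
theorem ext_affine {S : Scheme.{u}} {V T : Over S} (i : V ⟶ T) [IsAffine T.left]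
    [IsIso i.left.appTop] : Ext (MorphismProperty.inverseImage @IsAffineHom (Over.forget S)) i := by
  intro W g s hg hs
  have hg' : IsAffineHom g.left := hg
  have hW : IsAffine W.left := isAffine_of_isAffineHom g.left
  obtain ⟨s', hs'⟩ := exists_hom (X := T.left) (Y := W.left) (s.left.appTop ≫ inv i.left.appTop)
  have hi : i.left ≫ s' = s.left := by
    apply ext_of_isAffine
    rw [Scheme.Hom.comp_appTop, hs', Category.assoc, IsIso.inv_hom_id, Category.comp_id]
  have hsg : s.left ≫ g.left = i.left := congrArg CommaMorphism.left hs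
  have h2 : s' ≫ g.left = 𝟙 _ := by
    apply ext_of_isAffine
    rw [Scheme.Hom.comp_appTop, hs', ← Category.assoc, ← Scheme.Hom.comp_appTop, hsg]
    simp
  have h3 : s' ≫ W.hom = T.hom := by
    rw [← Over.w g, ← Category.assoc, h2, Category.id_comp]
  refine ⟨Over.homMk s' h3, ⟨?_, ?_⟩, ?_⟩
  · ext1; exact hi
  · ext1; exact h2
  · rintro s'' ⟨h4, -⟩
    ext1
    apply ext_of_isAffine
    have h5 : i.left ≫ s''.left = s.left := congrArg CommaMorphism.left h4
    rw [← cancel_mono i.left.appTop, ← Scheme.Hom.comp_appTop, ← Scheme.Hom.comp_appTop, h5]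
    exact (congrArg Scheme.Hom.appTop hi).symm

end K942.Hartogs
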