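import Groth.Agent.Magnet.K951.Pts
import Groth.Agent.ThetaS.K943.QuotOpen
import Groth.Agent.ThetaS.K942.Hartogs
import Groth.Prelude.Def_ThetaS

/-!
# Coordinates on `A¹_R` and `Spec R[s, t]/(st − π)`; the complements of the origin and of the node

* `fn_lineAct`, `fn_stAct_s`, `fn_stAct_t`: the actions in coordinates;
* `Uline ϖ`, `Ust π`: the open complements, `stable_line`, `stable_st`, `missesOrigin_eq`,
  `missesNode_eq`;
* `bijective_line`, `bijective_st`: functions on the open part of a flat affine scheme over the line.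
-/

set_option autoImplicit false
set_option linter.dupNamespace false
set_option backward.isDefEq.respectTransparency false
set_option backward.isDefEq.respectTransparency.types false

universe u

open CategoryTheory MonoidalCategory CartesianMonoidalCategory MonObj GrpObj AlgebraicGeometry
  TopologicalSpace Opposite
open scoped TensorProduct Polynomial

namespace K942.Coord

open ThetaS K951.Pts K942.RegPair

attribute [local instance] K951.Pts.algΓ

variable {R : Type u} [CommRing R]

theorem eq_linePt {A : Type u} [CommRing A] [Algebra R A] (f : R[X] →ₐ[R] A) : f = linePt (f Polynomial.X) := by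
  apply Polynomial.algHom_ext
  rw [linePt, Polynomial.aeval_X]

theorem fn_lineAct {T : Over (Spec (CommRingCat.of R))} (l : T ⟶ Gm R) (p : T ⟶ Line R) :
    fn (B := R[X]) (lift l p ≫ (lineAction R).act) Polynomial.X =
      fn (B := Lau R) l (zPow R 1) * fn (B := R[X]) p Polynomial.X := by
  have h1 : l = aff T ≫ CoactBr.pt (fn (B := Lau R) l) := (aff_comp_pt (B := Lau R) l).symm
  have h2 : p = aff T ≫ CoactBr.pt (linePt (fn (B := R[X]) p Polynomial.X)) := by
    rw [← eq_linePt]; exact (aff_comp_pt (B := R[X]) p).symm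
  have h3 : lift l p ≫ (lineAction R).act =
      aff T ≫ CoactBr.pt (linePt (fn (B := Lau R) l (zPow R 1) * fn (B := R[X]) p Polynomial.X)) := by
    rw [← lineAction_pt, ← Category.assoc, comp_lift, ← h1, ← h2]
  rw [h3, fn_comp_pt, fn_aff]
  simp

theorem eq_stPt {π : R} {A : Type u} [CommRing A] [Algebra R A] (f : STRing R π →ₐ[R] A) :
    ∃ h : f (sFn R π) * f (tFn R π) = algebraMap R A π, f = stPt (f (sFn R π)) (f (tFn R π)) h := by
  have h : f (sFn R π) * f (tFn R π) = algebraMap R A π := by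
    rw [← map_mul, sFn_mul_tFn, AlgHom.commutes]
  refine ⟨h, stRing_algHom_ext ?_ ?_⟩
  · rw [stPt_sFn]
  · rw [stPt_tFn]

theorem fn_stAct {π : R} {T : Over (Spec (CommRingCat.of R))} (l : T ⟶ Gm R) (p : T ⟶ STSch R π) :
    fn (B := STRing R π) (lift l p ≫ (stAction R π).act) (sFn R π) =
        fn (B := Lau R) l (zPow R 1) * fn (B := STRing R π) p (sFn R π) ∧
      fn (B := STRing R π) (lift l p ≫ (stAction R π).act) (tFn R π) =
        fn (B := Lau R) l (zPow R (-1)) * fn (B := STRing R π) p (tFn R π) := by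
  obtain ⟨h, hf⟩ := eq_stPt (fn (B := STRing R π) p)
  have h1 : l = aff T ≫ CoactBr.pt (fn (B := Lau R) l) := (aff_comp_pt (B := Lau R) l).symm
  have h2 : p = aff T ≫ CoactBr.pt (stPt (fn (B := STRing R π) p (sFn R π)) (fn (B := STRing R π) p (tFn R π)) h) := by
    rw [← hf]; exact (aff_comp_pt (B := STRing R π) p).symm
  have h3 : lift l p ≫ (stAction R π).act = aff T ≫ lift (CoactBr.pt (fn (B := Lau R) l))
      (CoactBr.pt (stPt (fn (B := STRing R π) p (sFn R π)) (fn (B := STRing R π) p (tFn R π)) h)) ≫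
        (stAction R π).act := by
    rw [← Category.assoc, comp_lift, ← h1, ← h2]
  rw [h3, stAction_pt, fn_comp_pt, fn_aff]
  constructor
  · simp only [AlgHom.comp_apply, AlgHom.id_apply, stPt_sFn]
  · simp only [AlgHom.comp_apply, AlgHom.id_apply, stPt_tFn]

theorem isUnit_z {T : Over (Spec (CommRingCat.of R))} (l : T ⟶ Gm R) (n : ℤ) :
    IsUnit (fn (B := Lau R) l (zPow R n)) := by
  have : IsUnit (zPow R n) := by
    refine IsUnit.of_mul_eq_one (zPow R (-n)) ?_
    rw [zPow_mul, add_neg_cancel, zPow_zero]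
  exact this.map _

theorem basicOpen_unit_mul {X : Scheme.{u}} {a : Γ(X, ⊤)} (ha : IsUnit a) (b : Γ(X, ⊤)) :
    X.basicOpen (a * b) = X.basicOpen b := by
  rw [X.basicOpen_mul, X.basicOpen_of_isUnit ha, top_inf_eq]

theorem preimage_basicOpen_top {X Y : Scheme.{u}} (f : X ⟶ Y) (r : Γ(Y, ⊤)) :
    f ⁻¹ᵁ Y.basicOpen r = X.basicOpen (f.appTop r) := Scheme.preimage_basicOpen f r

/-- The complement of the origin in the line. -/
noncomputable def Uline (ϖ : R) : (Line R).left.Opens :=
  (Line R).left.basicOpen (lineFn Polynomial.X) ⊔ (Line R).left.basicOpen (lineFn (Polynomial.C ϖ))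

/-- The complement of the node. -/
noncomputable def Ust (π : R) : (STSch R π).left.Opens :=
  (STSch R π).left.basicOpen (stFn (sFn R π)) ⊔ (STSch R π).left.basicOpen (stFn (tFn R π))

theorem preimage_Uline (ϖ : R) {T : Over (Spec (CommRingCat.of R))} (p : T ⟶ Line R) :
    p.left ⁻¹ᵁ (Uline ϖ) = T.left.basicOpen (fn (B := R[X]) p Polynomial.X) ⊔
      T.left.basicOpen (fn (B := R[X]) p (Polynomial.C ϖ)) := by
  have h1 := preimage_basicOpen_top p.left (lineFn Polynomial.X)
  have h2 := preimage_basicOpen_top p.left (lineFn (Polynomial.C ϖ))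
  rw [Uline, Scheme.Hom.preimage_sup, h1, h2]; rfl

theorem preimage_Ust (π : R) {T : Over (Spec (CommRingCat.of R))} (p : T ⟶ STSch R π) :
    p.left ⁻¹ᵁ (Ust π) = T.left.basicOpen (fn (B := STRing R π) p (sFn R π)) ⊔
      T.left.basicOpen (fn (B := STRing R π) p (tFn R π)) := by
  have h1 := preimage_basicOpen_top p.left (stFn (sFn R π))
  have h2 := preimage_basicOpen_top p.left (stFn (tFn R π))
  rw [Ust, Scheme.Hom.preimage_sup, h1, h2]; rfl

theorem missesOrigin_eq (K : Precoverage Scheme.{u}) (ϖ : R) :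
    (MissesOrigin ϖ : (ThetaR K R).obj → Prop) = K943.QuotOpen.InU K (lineAction R) (Uline ϖ) := by
  funext A
  apply propext
  change _ ↔ A.φ.left ⁻¹ᵁ _ = ⊤
  rw [preimage_Uline]; rfl

theorem missesNode_eq (K : Precoverage Scheme.{u}) (π : R) :
    (MissesNode : (STR K R π).obj → Prop) = K943.QuotOpen.InU K (stAction R π) (Ust π) := by
  funext A
  apply propext
  change _ ↔ A.φ.left ⁻¹ᵁ _ = ⊤
  rw [preimage_Ust]; rfl

theorem fn_C {T : Over (Spec (CommRingCat.of R))} (p : T ⟶ Line R) (r : R) :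
    fn (B := R[X]) p (Polynomial.C r) = algebraMap R Γ(T.left, ⊤) r :=
  (fn (B := R[X]) p).commutes r

theorem stable_line (ϖ : R) : K943.QuotOpen.Stable (lineAction R) (Uline ϖ) := by
  change (lineAction R).act.left ⁻¹ᵁ _ = (snd (Gm R) (Line R)).left ⁻¹ᵁ _
  rw [preimage_Uline, preimage_Uline, fn_C, fn_C]
  have h := fn_lineAct (fst (Gm R) (Line R)) (snd (Gm R) (Line R))
  rw [lift_fst_snd, Category.id_comp] at h
  rw [h, basicOpen_unit_mul (isUnit_z _ _)]

theorem stable_st (π : R) : K943.QuotOpen.Stable (stAction R π) (Ust π) := by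
  change (stAction R π).act.left ⁻¹ᵁ _ = (snd (Gm R) (STSch R π)).left ⁻¹ᵁ _
  rw [preimage_Ust, preimage_Ust]
  have h := fn_stAct (fst (Gm R) (STSch R π)) (snd (Gm R) (STSch R π))
  rw [lift_fst_snd, Category.id_comp] at h
  rw [h.1, h.2, basicOpen_unit_mul (isUnit_z _ _), basicOpen_unit_mul (isUnit_z _ _)]

theorem regPair_map {A B : Type*} [CommRing A] [CommRing B] {f : A →+* B} (hf : f.Flat) {a b : A}
    (h : RegPair a b) : RegPair (f a) (f b) := by
  letI := f.toAlgebra
  haveI : Module.Flat A B := hf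
  exact h.map_flat

theorem isIso_ι_appTop (X : Scheme.{u}) [IsAffine X] {a b : Γ(X, ⊤)} (h : RegPair a b) {V : X.Opens}
    (hV : V = X.basicOpen a ⊔ X.basicOpen b) : IsIso V.ι.appTop := by
  rw [Scheme.Opens.ι_appTop]
  have h1 := Hartogs.bijective_res X h (V := V.ι ''ᵁ ⊤) (by rw [← hV]; exact Scheme.Opens.ι_image_top V)
  exact (ConcreteCategory.isIso_iff_bijective _).2 h1

theorem regPair_line [IsDomain R] {ϖ : R} (hϖ : ϖ ≠ 0) :
    RegPair (lineFn (R := R) Polynomial.X) (lineFn (Polynomial.C ϖ)) :=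
  regPair_map (f := (Scheme.ΓSpecIso (CommRingCat.of R[X])).inv.hom)
    (RingHom.Flat.of_bijective (ConcreteCategory.bijective_of_isIso _)) (RegPair.X_C hϖ)

theorem regPair_st [IsDomain R] {π : R} (hπ : π ≠ 0) :
    RegPair (stFn (sFn R π)) (stFn (tFn R π)) :=
  regPair_map (f := (Scheme.ΓSpecIso (CommRingCat.of (STRing R π))).inv.hom)
    (RingHom.Flat.of_bijective (ConcreteCategory.bijective_of_isIso _)) (RegPair.s_t hπ)

theorem regPair_pull {X Y : Scheme.{u}} [IsAffine X] [IsAffine Y] (y : Y ⟶ X) [Flat y] {a b : Γ(X, ⊤)}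
    (h : RegPair a b) : RegPair (y.appTop a) (y.appTop b) :=
  regPair_map (f := y.appTop.hom) ((HasRingHomProperty.iff_of_isAffine (P := @Flat)).1 inferInstance) h

instance isAffine_line : IsAffine (Line R).left := inferInstanceAs (IsAffine (Spec (CommRingCat.of R[X])))

instance isAffine_st (π : R) : IsAffine (STSch R π).left :=
  inferInstanceAs (IsAffine (Spec (CommRingCat.of (STRing R π))))

theorem isIso_line [IsDomain R] {ϖ : R} (hϖ : ϖ ≠ 0) {Y : Over (Spec (CommRingCat.of R))}
    (y : Y ⟶ Line R) [Flat y.left] [IsAffine Y.left] : IsIso (y.left ⁻¹ᵁ Uline ϖ).ι.appTop :=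
  isIso_ι_appTop Y.left (regPair_pull y.left (regPair_line hϖ)) (preimage_Uline ϖ y)

theorem isIso_st [IsDomain R] {π : R} (hπ : π ≠ 0) {Y : Over (Spec (CommRingCat.of R))}
    (y : Y ⟶ STSch R π) [Flat y.left] [IsAffine Y.left] : IsIso (y.left ⁻¹ᵁ Ust π).ι.appTop :=
  isIso_ι_appTop Y.left (regPair_pull y.left (regPair_st hπ)) (preimage_Ust π y)

end K942.Coord
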