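import Groth.Agent.Magnet.K951.Pts
import Groth.Prelude.Def_FrameBundle

/-!
# Points of `FrB.GLn n S`: invertible matrices of functions
-/

set_option autoImplicit false

universe u

open CategoryTheory MonoidalCategory CartesianMonoidalCategory MonObj AlgebraicGeometry Opposite Limits
open scoped TensorProduct

namespace K942.GLPts

open K951.Pts CoordGrp

section Affine

variable {R : Type u} [CommRing R] {n : ℕ}

attribute [local instance] K951.Pts.algΓ

/-- The matrix of a point of `Spec` of the coordinate ring of `GL_n`. -/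
noncomputable def matR {W : Over (Spec (CommRingCat.of R))} (w : W ⟶ CoactBr.sp R (GLn n R)) :
    Matrix (Fin n) (Fin n) Γ(W.left, ⊤) :=
  Matrix.of fun i j => fn (B := GLn n R) w (GLn.X i j)

theorem matR_comp {W W' : Over (Spec (CommRingCat.of R))} (v : W' ⟶ W) (w : W ⟶ CoactBr.sp R (GLn n R)) :
    matR (v ≫ w) = (matR w).map v.left.appTop.hom := by
  ext i j
  exact fn_comp v w _

theorem matR_mul {W : Over (Spec (CommRingCat.of R))} (w w' : W ⟶ CoactBr.sp R (GLn n R)) :
    matR (w * w') = matR w * matR w' := by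
  ext i j
  rw [Matrix.mul_apply]
  change fn (B := GLn n R) (w * w') (GLn.X i j) = ∑ k, fn (B := GLn n R) w (GLn.X i k) * fn (B := GLn n R) w' (GLn.X k j)
  rw [fn_mul, AlgHom.comp_apply, Bialgebra.comulAlgHom_apply, GLn.comul_X, map_sum]
  refine Finset.sum_congr rfl fun k _ => ?_
  rw [Algebra.TensorProduct.lift_tmul]

theorem matR_one {W : Over (Spec (CommRingCat.of R))} : matR (1 : W ⟶ CoactBr.sp R (GLn n R)) = 1 := by
  ext i j
  change fn (B := GLn n R) (1 : W ⟶ CoactBr.sp R (GLn n R)) (GLn.X i j) = _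
  rw [fn_one, AlgHom.comp_apply, Bialgebra.counitAlgHom_apply, GLn.counit_X, Matrix.one_apply]
  split_ifs
  · exact map_one _
  · exact map_zero _

theorem matR_injective {W : Over (Spec (CommRingCat.of R))} {w w' : W ⟶ CoactBr.sp R (GLn n R)}
    (h : matR w = matR w') : w = w' := by
  have hX : ∀ i j, fn (B := GLn n R) w (GLn.X i j) = fn (B := GLn n R) w' (GLn.X i j) :=
    fun i j => congrFun (congrFun h i) j
  apply fn_injective
  apply GLn.algHom_ext
  · exact hX
  · have hd : fn (B := GLn n R) w (GLn.det (n := n) (k := R)) = fn (B := GLn n R) w' (GLn.det (n := n) (k := R)) := by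
      rw [GLn.det_eq, AlgHom.map_det, AlgHom.map_det]
      exact congrArg Matrix.det h
    have h1 : fn (B := GLn n R) w (GLn.det (n := n) (k := R)) * fn (B := GLn n R) w (GLn.Dinv (n := n) (k := R)) = 1 := by
      rw [← map_mul, GLn.det_mul_Dinv, map_one]
    have h2 : fn (B := GLn n R) w (GLn.det (n := n) (k := R)) * fn (B := GLn n R) w' (GLn.Dinv (n := n) (k := R)) = 1 := by
      rw [hd, ← map_mul, GLn.det_mul_Dinv, map_one]
    exact left_inv_eq_right_inv (by rw [mul_comm]; exact h1) h2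

theorem exists_matR {W : Over (Spec (CommRingCat.of R))} (M : Matrix (Fin n) (Fin n) Γ(W.left, ⊤))
    (hM : IsUnit M.det) : ∃ w : W ⟶ CoactBr.sp R (GLn n R), matR w = M := by
  obtain ⟨d, hd⟩ := hM.exists_right_inv
  refine ⟨ofFn (GLn.pt n R M d hd), ?_⟩
  ext i j
  change fn (ofFn (GLn.pt n R M d hd)) (GLn.X i j) = _
  rw [fn_ofFn, GLn.pt_X]

end Affine

section Base

variable {S : Scheme.{u}} {n : ℕ}

/-- The point over `ℤ`. -/
noncomputable def ptZ {W : Over S} (w : W ⟶ FrB.GLn n S) :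
    (Over.map (toZ S)).obj W ⟶ CoactBr.sp (ULift.{u} ℤ) (GLn n (ULift.{u} ℤ)) :=
  ((Over.mapPullbackAdj (toZ S)).homEquiv W (FrB.GLZ n)).symm w

/-- The matrix of a point of `GL_{n,S}`. -/
noncomputable def mat {W : Over S} (w : W ⟶ FrB.GLn n S) : Matrix (Fin n) (Fin n) Γ(W.left, ⊤) :=
  matR (W := (Over.map (toZ S)).obj W) (ptZ w)

theorem mat_injective {W : Over S} {w w' : W ⟶ FrB.GLn n S} (h : mat w = mat w') : w = w' := by
  apply ((Over.mapPullbackAdj (toZ S)).homEquiv W (FrB.GLZ n)).symm.injective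
  exact matR_injective (W := (Over.map (toZ S)).obj W) h

theorem exists_mat {W : Over S} (M : Matrix (Fin n) (Fin n) Γ(W.left, ⊤)) (hM : IsUnit M.det) :
    ∃ w : W ⟶ FrB.GLn n S, mat w = M := by
  obtain ⟨w, hw⟩ := exists_matR (R := ULift.{u} ℤ) (W := (Over.map (toZ S)).obj W) M hM
  refine ⟨(Over.mapPullbackAdj (toZ S)).homEquiv W (FrB.GLZ n) w, ?_⟩
  rw [mat, ptZ, Equiv.symm_apply_apply, hw]

theorem mat_comp {W W' : Over S} (v : W' ⟶ W) (w : W ⟶ FrB.GLn n S) :
    mat (v ≫ w) = (mat w).map v.left.appTop.hom := by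
  rw [mat, ptZ, Adjunction.homEquiv_naturality_left_symm]
  exact matR_comp (W := (Over.map (toZ S)).obj W) ((Over.map (toZ S)).map v) (ptZ w)

theorem mat_mul {W : Over S} (w w' : W ⟶ FrB.GLn n S) : mat (w * w') = mat w * mat w' := by
  have h : ptZ (w * w') = ptZ w * ptZ w' := by
    apply ((Over.mapPullbackAdj (toZ S)).homEquiv W (FrB.GLZ n)).injective
    rw [ptZ, Equiv.apply_symm_apply]
    conv_lhs => rw [← Equiv.apply_symm_apply ((Over.mapPullbackAdj (toZ S)).homEquiv W (FrB.GLZ n)) w,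
      ← Equiv.apply_symm_apply ((Over.mapPullbackAdj (toZ S)).homEquiv W (FrB.GLZ n)) w']
    simp only [Adjunction.homEquiv_unit]
    rw [Functor.map_mul, MonObj.comp_mul]
    rfl
  rw [mat, h]
  exact matR_mul (W := (Over.map (toZ S)).obj W) _ _

theorem mat_one {W : Over S} : mat (1 : W ⟶ FrB.GLn n S) = 1 := by
  have h : ptZ (1 : W ⟶ FrB.GLn n S) = 1 := by
    apply ((Over.mapPullbackAdj (toZ S)).homEquiv W (FrB.GLZ n)).injective
    rw [ptZ, Equiv.apply_symm_apply]
    simp only [Adjunction.homEquiv_unit]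
    rw [Functor.map_one, MonObj.comp_one]
  rw [mat, h]
  exact matR_one (W := (Over.map (toZ S)).obj W)

end Base

end K942.GLPts
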