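import Groth.Agent.ThetaS.K942.EqAlg
import Groth.Agent.ThetaS.K942.GLPts
import Groth.Agent.Desc.QAffDesc
import Groth.Agent.AlgSt.K750.QuotAff
import Groth.Agent.ThetaS.K943.QuotAtlas

/-!
# Equivariant vectors of functions on torsors: flat base change

`MatRep G n`: a matrix representation of `G` on points.  `isBaseChange_pt`: the module of equivariant
vectors of functions on a torsor becomes free after the flat affine base change along a point of the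
torsor.
-/

set_option autoImplicit false
set_option linter.dupNamespace false
set_option linter.style.haveILetI false
set_option backward.isDefEq.respectTransparency false
set_option backward.isDefEq.respectTransparency.types false

universe u

open CategoryTheory CategoryTheory.Limits MonoidalCategory CartesianMonoidalCategory MonObj
  AlgebraicGeometry Opposite

namespace K942.EqGeom

open EqAlg GLPts

theorem isBaseChange_of_isPushout {A B C D : Type u} [CommRing A] [CommRing B] [CommRing C]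
    [CommRing D] [Algebra A B] [Algebra A C] [Algebra A D] [Algebra B D] [IsScalarTower A B D]
    (β : C →ₐ[A] D)
    (h : IsPushout (CommRingCat.ofHom (algebraMap A C)) (CommRingCat.ofHom (algebraMap A B))
      (CommRingCat.ofHom β.toRingHom) (CommRingCat.ofHom (algebraMap B D))) :
    IsBaseChange B β.toLinearMap := by
  letI := β.toRingHom.toAlgebra
  haveI : IsScalarTower A C D := .of_algebraMap_eq (fun x => (β.commutes x).symm)
  exact (CommRingCat.isPushout_iff_isPushout.1 h.flip).out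

theorem isPullback_comp_mono {C : Type*} [Category C] {X Y Z W W' : C} {f : X ⟶ Y} {g : X ⟶ Z}
    {h : Y ⟶ W} {k : Z ⟶ W} (i : W ⟶ W') [Mono i] (H : IsPullback f g h k) :
    IsPullback f g (h ≫ i) (k ≫ i) := by
  refine ⟨⟨by rw [← Category.assoc, H.w, Category.assoc]⟩, ⟨PullbackCone.IsLimit.mk _
    (fun s => H.lift s.fst s.snd (by
      rw [← cancel_mono i]
      simpa using s.condition)) (fun s => H.lift_fst _ _ _) (fun s => H.lift_snd _ _ _)
      (fun s m h1 h2 => ?_)⟩⟩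
  apply H.hom_ext
  · rw [h1, H.lift_fst]
  · rw [h2, H.lift_snd]

variable {S : Scheme.{u}}

/-- Pull back of functions. -/
noncomputable abbrev pb {X Y : Over S} (f : X ⟶ Y) : Γ(Y.left, ⊤) →+* Γ(X.left, ⊤) :=
  f.left.appTop.hom

theorem pb_comp {X Y Z : Over S} (f : X ⟶ Y) (g : Y ⟶ Z) (c : Γ(Z.left, ⊤)) :
    pb (f ≫ g) c = pb f (pb g c) := by
  change (f ≫ g).left.appTop c = f.left.appTop (g.left.appTop c)
  rw [Over.comp_left, Scheme.Hom.comp_appTop, CommRingCat.comp_apply]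

theorem pb_id {X : Over S} (c : Γ(X.left, ⊤)) : pb (𝟙 X) c = c := by
  change (𝟙 X : X ⟶ X).left.appTop c = c
  rw [Over.id_left, Scheme.Hom.id_appTop, CommRingCat.id_apply]

/-- A matrix representation of a group scheme, on points. -/
structure MatRep (G : Over S) [GrpObj G] (n : ℕ) where
  /-- the matrix of a point -/
  mat : ∀ {W : Over S}, (W ⟶ G) → Matrix (Fin n) (Fin n) Γ(W.left, ⊤)
  comp : ∀ {W W' : Over S} (v : W' ⟶ W) (w : W ⟶ G), mat (v ≫ w) = (mat w).map (pb v)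
  mul : ∀ {W : Over S} (w w' : W ⟶ G), mat (w * w') = mat w * mat w'
  one : ∀ {W : Over S}, mat (1 : W ⟶ G) = 1

/-- The tautological representation of `GL_n`. -/
noncomputable def glRep (n : ℕ) : MatRep (FrB.GLn n S) n where
  mat := GLPts.mat
  comp := GLPts.mat_comp
  mul := GLPts.mat_mul
  one := GLPts.mat_one

/-- Pull back of functions along a flat morphism of affine schemes is flat. -/
theorem flat_pb {X Y : Over S} (f : X ⟶ Y) [IsAffine X.left] [IsAffine Y.left] [Flat f.left] :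
    (pb f).Flat :=
  (HasRingHomProperty.iff_of_isAffine (P := @Flat)).1 inferInstance

theorem isPushout_pb {X Y T Q : Over S} {g : Y ⟶ X} {iX : X ⟶ T} {iY : Y ⟶ Q} {f : Q ⟶ T}
    (H : IsPullback g iY iX f) [IsAffine T.left] [IsAffine Q.left] [Flat f.left]
    [CompactSpace X.left] [QuasiSeparatedSpace X.left] :
    IsPushout (CommRingCat.ofHom (pb iX)) (CommRingCat.ofHom (pb f)) (CommRingCat.ofHom (pb g))
      (CommRingCat.ofHom (pb iY)) := by
  have h1 : IsPullback g.left iY.left iX.left f.left := H.map (Over.forget S)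
  exact Groth.Agent.Desc.QAffDesc.isPushout_appTop_of_flat h1

variable {G : Over S} [GrpObj G] {n : ℕ} (ρ : MatRep G n)

/-- The action on `G ⊗ Q` seen on `G ⊗ (G ⊗ Q)`. -/
noncomputable def αm (G Q : Over S) [GrpObj G] : G ⊗ (G ⊗ Q) ⟶ G ⊗ Q :=
  lift (fst G (G ⊗ Q) * (snd G (G ⊗ Q) ≫ fst G Q)) (snd G (G ⊗ Q) ≫ snd G Q)

/-- `(g, q) ↦ (g, (1, q))`. -/
noncomputable def τm (G Q : Over S) [GrpObj G] : G ⊗ Q ⟶ G ⊗ (G ⊗ Q) :=
  lift (fst G Q) (lift (1 : G ⊗ Q ⟶ G) (snd G Q))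

/-- The unit section. -/
noncomputable def σm (G Q : Over S) [GrpObj G] : Q ⟶ G ⊗ Q := lift (1 : Q ⟶ G) (𝟙 Q)

theorem τm_αm (Q : Over S) : τm G Q ≫ αm G Q = 𝟙 _ := by
  apply CartesianMonoidalCategory.hom_ext
  · rw [αm, Category.assoc, lift_fst, MonObj.comp_mul, ← Category.assoc (τm G Q), τm, lift_fst, lift_snd,
      lift_fst, _root_.mul_one, Category.id_comp]
  · rw [αm, Category.assoc, lift_snd, ← Category.assoc, τm, lift_snd, lift_snd, Category.id_comp]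

theorem τm_snd (Q : Over S) : τm G Q ≫ snd G (G ⊗ Q) = snd G Q ≫ σm G Q := by
  rw [τm, lift_snd, σm, comp_lift, MonObj.comp_one, Category.comp_id]

section points

variable {P Q : Over S} (a : AlgGrp.Action G P) (s : Q ⟶ P)

/-- The orbit map `(g, q) ↦ g · s(q)`. -/
noncomputable def mm : G ⊗ Q ⟶ P := (G ◁ s) ≫ a.act

theorem comp_mm {T : Over S} (z : T ⟶ G ⊗ Q) :
    z ≫ mm a s = K943.QuotAtlas.sm a (z ≫ fst G Q) (z ≫ snd G Q ≫ s) := by
  rw [mm, K943.QuotAtlas.sm, ← Category.assoc]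
  congr 1
  apply CartesianMonoidalCategory.hom_ext
  · rw [Category.assoc, whiskerLeft_fst, lift_fst]
  · rw [Category.assoc, whiskerLeft_snd, lift_snd]

theorem σm_mm : σm G Q ≫ mm a s = s := by
  rw [comp_mm, σm, lift_fst, lift_snd_assoc, Category.id_comp, K943.QuotAtlas.sm_one]

theorem αm_mm : αm G Q ≫ mm a s = (G ◁ mm a s) ≫ a.act := by
  have h : (G ◁ mm a s) ≫ a.act = K943.QuotAtlas.sm a (fst G (G ⊗ Q)) (snd G (G ⊗ Q) ≫ mm a s) := by
    rw [K943.QuotAtlas.sm]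
    congr 1
  rw [h, comp_mm, comp_mm, αm, lift_fst, lift_snd_assoc, K943.QuotAtlas.sm_mul, Category.assoc]

end points

theorem isBaseChange_pt {P V T Q : Over S} (a : AlgGrp.Action G P) {π : P ⟶ V}
    (hc : IsPullback a.act (snd _ P) π π) (i : V ⟶ T) [Mono i] [IsAffine T.left]
    [CompactSpace P.left] [QuasiSeparatedSpace P.left] [CompactSpace (G ⊗ P).left]
    [QuasiSeparatedSpace (G ⊗ P).left] (s : Q ⟶ P) [IsAffine Q.left]
    [Flat (s ≫ π ≫ i).left] [Algebra Γ(T.left, ⊤) Γ(P.left, ⊤)]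
    [Algebra Γ(T.left, ⊤) Γ((G ⊗ P).left, ⊤)] [Algebra Γ(T.left, ⊤) Γ(Q.left, ⊤)]
    (hP : algebraMap Γ(T.left, ⊤) Γ(P.left, ⊤) = pb (π ≫ i))
    (hGP : algebraMap Γ(T.left, ⊤) Γ((G ⊗ P).left, ⊤) = pb (snd _ P ≫ π ≫ i))
    (hQ : algebraMap Γ(T.left, ⊤) Γ(Q.left, ⊤) = pb (s ≫ π ≫ i))
    {act pr : Γ(P.left, ⊤) →ₐ[Γ(T.left, ⊤)] Γ((G ⊗ P).left, ⊤)}
    (hact : ∀ c, act c = pb a.act c) (hpr : ∀ c, pr c = pb (snd _ P) c)
    {f : eqv act pr (ρ.mat (fst G P)) →ₗ[Γ(T.left, ⊤)] (Fin n → Γ(Q.left, ⊤))}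
    (hf : ∀ v j, f v j = pb s (v.1 j)) : IsBaseChange Γ(Q.left, ⊤) f := by
  -- the two cartesian squares
  have sq1 : IsPullback (mm a s) (snd G Q) (π ≫ i) (s ≫ π ≫ i) := by
    have h := isPullback_comp_mono i (K750.QuotAff.isPullback_of_pt a hc s)
    rwa [Category.assoc] at h
  have sq2 : IsPullback (G ◁ mm a s) (snd G (G ⊗ Q) ≫ snd G Q) (snd G P ≫ π ≫ i) (s ≫ π ≫ i) :=
    (AlgSt.isPullback_whiskerLeft (G := G) (mm a s)).paste_vert sq1
  have po1 := isPushout_pb sq1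
  have po2 := isPushout_pb sq2
  -- the algebras
  letI i1 : Algebra Γ(Q.left, ⊤) Γ((G ⊗ Q).left, ⊤) := (pb (snd G Q)).toAlgebra
  letI i2 : Algebra Γ(Q.left, ⊤) Γ((G ⊗ (G ⊗ Q)).left, ⊤) := (pb (snd G (G ⊗ Q) ≫ snd G Q)).toAlgebra
  letI i3 : Algebra Γ(T.left, ⊤) Γ((G ⊗ Q).left, ⊤) := (pb (snd G Q ≫ s ≫ π ≫ i)).toAlgebra
  letI i4 : Algebra Γ(T.left, ⊤) Γ((G ⊗ (G ⊗ Q)).left, ⊤) :=
    (pb ((snd G (G ⊗ Q) ≫ snd G Q) ≫ s ≫ π ≫ i)).toAlgebra
  haveI t1 : IsScalarTower Γ(T.left, ⊤) Γ(Q.left, ⊤) Γ((G ⊗ Q).left, ⊤) := .of_algebraMap_eq (fun x => by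
    rw [hQ]; exact pb_comp _ _ _)
  haveI t2 : IsScalarTower Γ(T.left, ⊤) Γ(Q.left, ⊤) Γ((G ⊗ (G ⊗ Q)).left, ⊤) :=
    .of_algebraMap_eq (fun x => by rw [hQ]; exact pb_comp _ _ _)
  haveI fl : Module.Flat Γ(T.left, ⊤) Γ(Q.left, ⊤) := by
    have := flat_pb (s ≫ π ≫ i)
    rw [← hQ] at this
    exact RingHom.flat_algebraMap_iff.1 this
  let β : Γ(P.left, ⊤) →ₐ[Γ(T.left, ⊤)] Γ((G ⊗ Q).left, ⊤) :=
    { pb (mm a s) with
      commutes' := fun r => by
        change pb (mm a s) (algebraMap _ _ r) = pb (snd G Q ≫ s ≫ π ≫ i) r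
        rw [hP, ← pb_comp, sq1.w] }
  let β' : Γ((G ⊗ P).left, ⊤) →ₐ[Γ(T.left, ⊤)] Γ((G ⊗ (G ⊗ Q)).left, ⊤) :=
    { pb (G ◁ mm a s) with
      commutes' := fun r => by
        change pb (G ◁ mm a s) (algebraMap _ _ r) = pb ((snd G (G ⊗ Q) ≫ snd G Q) ≫ s ≫ π ≫ i) r
        rw [hGP, ← pb_comp, sq2.w] }
  have hβ : IsBaseChange Γ(Q.left, ⊤) β.toLinearMap := by
    apply isBaseChange_of_isPushout β
    rw [hP, hQ]
    exact po1
  have hβ' : IsBaseChange Γ(Q.left, ⊤) β'.toLinearMap := by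
    apply isBaseChange_of_isPushout β'
    rw [hGP, hQ]
    exact po2
  let actB : Γ((G ⊗ Q).left, ⊤) →ₐ[Γ(Q.left, ⊤)] Γ((G ⊗ (G ⊗ Q)).left, ⊤) :=
    { pb (αm G Q) with
      commutes' := fun r => by
        change pb (αm G Q) (pb (snd G Q) r) = pb (snd G (G ⊗ Q) ≫ snd G Q) r
        rw [← pb_comp, αm, lift_snd] }
  let prB : Γ((G ⊗ Q).left, ⊤) →ₐ[Γ(Q.left, ⊤)] Γ((G ⊗ (G ⊗ Q)).left, ⊤) :=
    { pb (snd G (G ⊗ Q)) with
      commutes' := fun r => by
        change pb (snd G (G ⊗ Q)) (pb (snd G Q) r) = pb (snd G (G ⊗ Q) ≫ snd G Q) r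
        rw [← pb_comp] }
  let σ : Γ((G ⊗ Q).left, ⊤) →ₐ[Γ(Q.left, ⊤)] Γ(Q.left, ⊤) :=
    { pb (σm G Q) with
      commutes' := fun r => by
        change pb (σm G Q) (pb (snd G Q) r) = r
        rw [← pb_comp, σm, lift_snd, pb_id] }
  refine isBaseChange_eqv hβ hβ' (actB := actB) (prB := prB) (σ := σ) (gB := ρ.mat (fst G Q))
    (τ := pb (τm G Q)) ?_ ?_ ?_ ?_ ?_ ?_ ?_ ?_
  · intro c
    change pb (αm G Q) (pb (mm a s) c) = pb (G ◁ mm a s) (act c)
    rw [hact, ← pb_comp, ← pb_comp, αm_mm]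
  · intro c
    change pb (snd G (G ⊗ Q)) (pb (mm a s) c) = pb (G ◁ mm a s) (pr c)
    rw [hpr, ← pb_comp, ← pb_comp, whiskerLeft_snd]
  · change (ρ.mat (fst G Q)).map (pb (σm G Q)) = 1
    rw [← ρ.comp, σm, lift_fst, ρ.one]
  · change (ρ.mat (fst G Q)).map (pb (αm G Q)) =
      (ρ.mat (fst G P)).map (pb (G ◁ mm a s)) * (ρ.mat (fst G Q)).map (pb (snd G (G ⊗ Q)))
    rw [← ρ.comp, ← ρ.comp, ← ρ.comp, αm, lift_fst, ρ.mul, whiskerLeft_fst]
  · intro c
    change pb (τm G Q) (pb (αm G Q) c) = c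
    rw [← pb_comp, τm_αm, pb_id]
  · intro c
    change pb (τm G Q) (pb (snd G (G ⊗ Q)) c) = pb (snd G Q) (pb (σm G Q) c)
    rw [← pb_comp, ← pb_comp, τm_snd]
  · change ((ρ.mat (fst G P)).map (pb (G ◁ mm a s))).map (pb (τm G Q)) = ρ.mat (fst G Q)
    rw [← ρ.comp, ← ρ.comp, whiskerLeft_fst, τm, lift_fst]
  · intro v j
    change f v j = pb (σm G Q) (pb (mm a s) (v.1 j))
    rw [hf, ← pb_comp, σm_mm]

end K942.EqGeom
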