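import Groth.Agent.ThetaS.K942.Hartogs
import Groth.Agent.ThetaS.K942.Coord
import Mathlib.AlgebraicGeometry.Morphisms.Flat

/-!
# Regular pairs of functions on flat schemes

`regPair_flat`: a regular pair of functions on an affine scheme `T` pulls back to a regular pair of
global functions on every scheme which is flat over `T`.
-/

set_option autoImplicit false
set_option backward.isDefEq.respectTransparency false
set_option backward.isDefEq.respectTransparency.types false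

universe u

open CategoryTheory AlgebraicGeometry TopologicalSpace Opposite

namespace K942.SchReg

open RegPair

variable {Z : Scheme.{u}}

/-- Restriction of a global function. -/
noncomputable abbrev r (W : Z.Opens) : Γ(Z, ⊤) ⟶ Γ(Z, W) := Z.presheaf.map (homOfLE (le_top : W ≤ ⊤)).op

theorem exists_affine (W : Z.Opens) (z : Z) (hz : z ∈ W) :
    ∃ U : Z.Opens, IsAffineOpen U ∧ z ∈ U ∧ U ≤ W := by
  obtain ⟨U, hU, hzU, hUW⟩ := (Opens.isBasis_iff_nbhd.1 Z.isBasis_affineOpens) hz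
  exact ⟨U, hU, hzU, hUW⟩

theorem eq_of_affine (W : Z.Opens) (x y : Γ(Z, W))
    (h : ∀ (U : Z.Opens), IsAffineOpen U → ∀ hU : U ≤ W,
      Z.presheaf.map (homOfLE hU).op x = Z.presheaf.map (homOfLE hU).op y) : x = y := by
  let ι := {U : Z.Opens // IsAffineOpen U ∧ U ≤ W}
  refine Z.sheaf.eq_of_locally_eq' (fun U : ι => U.1) W (fun U => homOfLE U.2.2) ?_ x y (fun U => ?_)
  · intro z hz
    obtain ⟨U, hU, hzU, hUW⟩ := exists_affine W z hz
    exact Opens.mem_iSup.2 ⟨⟨U, hU, hUW⟩, hzU⟩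
  · exact h U.1 U.2.1 U.2.2

theorem nzd_of_locally {a : Γ(Z, ⊤)}
    (h : ∀ U : Z.Opens, IsAffineOpen U → ∀ x : Γ(Z, U), r U a * x = 0 → x = 0) (W : Z.Opens)
    (x : Γ(Z, W)) (hx : r W a * x = 0) : x = 0 := by
  apply eq_of_affine
  intro U hU hUW
  rw [map_zero]
  apply h U hU
  have := congrArg (Z.presheaf.map (homOfLE hUW).op) hx
  rwa [map_mul, map_zero, Hartogs.res_res] at this

theorem regPair_of_locally {a b : Γ(Z, ⊤)}
    (h : ∀ U : Z.Opens, IsAffineOpen U → RegPair (r U a) (r U b)) : RegPair a b := by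
  have h0 : ∀ (W : Z.Opens) (x : Γ(Z, W)), r W a * x = 0 → x = 0 :=
    fun W x hx => nzd_of_locally (fun U hU => (h U hU).nzd) W x hx
  have hr : ∀ x : Γ(Z, ⊤), r ⊤ x = x := fun x => by
    have : (homOfLE (le_top : (⊤ : Z.Opens) ≤ ⊤)) = 𝟙 _ := rfl
    rw [r, this, op_id, Z.presheaf.map_id, CommRingCat.id_apply]
  refine ⟨fun x hx => h0 ⊤ x (by rw [hr]; exact hx), fun x y hxy => ?_⟩
  let ι := {U : Z.Opens // IsAffineOpen U}
  have h1 : ∀ U : ι, ∃ z : Γ(Z, U.1), r U.1 x = r U.1 a * z := fun U =>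
    (h U.1 U.2).reg (r U.1 x) (r U.1 y) (by rw [← map_mul, ← map_mul, hxy])
  choose s hs using h1
  have hcomp : TopCat.Presheaf.IsCompatible Z.sheaf.1 (fun U : ι => U.1) s := by
    intro U V
    have e1 : r (U.1 ⊓ V.1) a * (Z.presheaf.map (homOfLE (inf_le_left : U.1 ⊓ V.1 ≤ U.1)).op (s U) -
        Z.presheaf.map (homOfLE (inf_le_right : U.1 ⊓ V.1 ≤ V.1)).op (s V)) = 0 := by
      have e2 := congrArg (Z.presheaf.map (homOfLE (inf_le_left : U.1 ⊓ V.1 ≤ U.1)).op) (hs U)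
      have e3 := congrArg (Z.presheaf.map (homOfLE (inf_le_right : U.1 ⊓ V.1 ≤ V.1)).op) (hs V)
      rw [map_mul, Hartogs.res_res, Hartogs.res_res] at e2 e3
      rw [mul_sub, ← e2, ← e3, sub_self]
    exact sub_eq_zero.1 (h0 _ _ e1)
  obtain ⟨z, hz, -⟩ := Z.sheaf.existsUnique_gluing' (fun U : ι => U.1) ⊤ (fun U => homOfLE le_top) (by
    intro p _
    obtain ⟨U, hU, hpU, -⟩ := exists_affine ⊤ p trivial
    exact Opens.mem_iSup.2 ⟨⟨U, hU⟩, hpU⟩) s hcomp
  refine ⟨z, eq_of_affine _ _ _ (fun U hU hU' => ?_)⟩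
  have e1 : Z.presheaf.map (homOfLE hU').op z = s ⟨U, hU⟩ := hz ⟨U, hU⟩
  rw [map_mul, e1]
  exact hs ⟨U, hU⟩

theorem regPair_flat {T : Scheme.{u}} [IsAffine T] (f : Z ⟶ T) [Flat f] {a b : Γ(T, ⊤)}
    (hab : RegPair a b) : RegPair (f.appTop a) (f.appTop b) := by
  apply regPair_of_locally
  intro U hU
  have h1 : (f.appLE ⊤ U le_top).hom.Flat := f.flat_appLE (isAffineOpen_top T) hU le_top
  have h2 : ∀ c, r U (f.appTop c) = f.appLE ⊤ U le_top c := by
    intro c
    rw [Scheme.Hom.appLE, Scheme.Hom.appTop, ← CommRingCat.comp_apply]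
  rw [h2, h2]
  exact Coord.regPair_map h1 hab

end K942.SchReg
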