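import Groth.Agent.ThetaS.K942.AffMain
import Groth.Agent.ThetaS.K943.SelfLift
import Groth.Agent.QuotStk.K824.BalProd
import Groth.Agent.NonAbH1.K551.Tors
import Groth.Agent.AlgSt.K750.QuotEff
import Groth.Agent.S1128

/-!
# Torsors over schemes which have the functions of an open part

`flat_π`, `surjective_π`: fppf torsors are flat and surjective.  `FlatExt i`: every flat affine
scheme over `T` has the same functions as its restriction along `i : V ⟶ T`.  `uniqAt_quot`:
morphisms of `[X/G]`, `G` flat affine, `X` affine over the base, extend uniquely along such `i`.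
-/

set_option autoImplicit false
set_option linter.dupNamespace false
set_option linter.style.haveILetI false
set_option backward.isDefEq.respectTransparency false
set_option backward.isDefEq.respectTransparency.types false

universe u

open CategoryTheory CategoryTheory.Limits MonoidalCategory CartesianMonoidalCategory MonObj GrpObj
  AlgebraicGeometry TopologicalSpace Opposite

namespace K942.TorsGeom

open ThetaS K943.LocPair K943.QuotOpen K824.BalProd

variable {S : Scheme.{u}} {G : Over S} [GrpObj G]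

section flat

theorem surjective_π {P U : Over S} {π : P ⟶ U}
    (hl : NonAbH1.IsLocallyTrivialFor Scheme.fppfPrecoverage (Over.mk π.left : Over U.left)) :
    Surjective π.left :=
  K551.Tors.surjective_of_isLocallyTrivial hl

theorem flat_π [Flat G.hom] {P U : Over S} (a : AlgGrp.Action G P) {π : P ⟶ U}
    (hc : IsPullback a.act (snd G P) π π)
    (hl : NonAbH1.IsLocallyTrivialFor Scheme.fppfPrecoverage (Over.mk π.left : Over U.left)) :
    Flat π.left := by
  obtain ⟨S', c, hcs, hcf, -, s, hs⟩ := K551.Tors.exists_cover_of_isLocallyTrivial hl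
  have hs' : s ≫ π.left = c := hs
  let T : Over S := Over.mk (c ≫ U.hom)
  let t : T ⟶ P := Over.homMk s (by
    change s ≫ P.hom = c ≫ U.hom
    rw [← Over.w π, ← Category.assoc, hs'])
  have h1 := (K750.QuotAff.isPullback_of_pt a hc t).map (Over.forget S)
  have h2 : IsPullback ((G ◁ t) ≫ a.act).left (snd G T).left π.left (t ≫ π).left := h1
  have h3 : (t ≫ π).left = c := hs'
  have h4 : Surjective (t ≫ π).left := by rw [h3]; exact hcs
  have h5 : Flat (t ≫ π).left := by rw [h3]; exact hcf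
  haveI h6 : Surjective ((G ◁ t) ≫ a.act).left := MorphismProperty.of_isPullback h2.flip h4
  haveI h7 : Flat ((G ◁ t) ≫ a.act).left := MorphismProperty.of_isPullback h2.flip h5
  haveI h8 : Flat (snd G T).left := by
    have h := (AlgSt.isPullback_fst_snd G T).map (Over.forget S)
    have h' : IsPullback (fst G T).left (snd G T).left (toUnit G).left (toUnit T).left := h
    have h'' : Flat (toUnit G).left := by
      have : (toUnit G).left = G.hom := by simp
      rw [this]; infer_instance
    exact MorphismProperty.of_isPullback h' h''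
  haveI h9 : Flat (((G ◁ t) ≫ a.act).left ≫ π.left) := by
    rw [h2.w]
    infer_instance
  exact Groth.Agent.S1128.result ((G ◁ t) ≫ a.act).left π.left

end flat

section ext

/-- Every flat affine scheme over `T` has the same functions as its restriction to `V`. -/
def FlatExt {V T : Over S} (i : V ⟶ T) : Prop :=
  ∀ ⦃Z' Z : Over S⦄ (k : Z' ⟶ Z) (p' : Z' ⟶ V) (p : Z ⟶ T), IsPullback k p' p i → Flat p.left →
    IsAffine Z.left → IsIso k.left.appTop

theorem ext_over {V T B P' : Over S} (i : V ⟶ T) [IsAffine T.left] [IsIso i.left.appTop] (q : P' ⟶ B)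
    [IsAffineHom q.left] (b : T ⟶ B) (s : V ⟶ P') (hs : s ≫ q = i ≫ b) :
    ∃! u : T ⟶ P', i ≫ u = s ∧ u ≫ q = b := by
  have hq : IsPullback (pullback.fst q b) (pullback.snd q b) q b := IsPullback.of_hasPullback q b
  have h1 : IsAffineHom (pullback.snd q b).left := by
    have h2 : IsPullback (pullback.fst q b).left (pullback.snd q b).left q.left b.left :=
      hq.map (Over.forget S)
    exact MorphismProperty.of_isPullback h2 inferInstance
  obtain ⟨s', ⟨e1, e2⟩, hu⟩ := Hartogs.ext_affine i (pullback q b) (pullback.snd q b)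
    (pullback.lift s i hs) h1 (pullback.lift_snd _ _ _)
  refine ⟨s' ≫ pullback.fst q b, ⟨?_, ?_⟩, ?_⟩
  · rw [← Category.assoc, e1, pullback.lift_fst]
  · rw [Category.assoc, pullback.condition, ← Category.assoc, e2, Category.id_comp]
  · rintro v ⟨hv1, hv2⟩
    have hw : v ≫ q = 𝟙 T ≫ b := by rw [hv2, Category.id_comp]
    rw [← hu (pullback.lift v (𝟙 T) hw) ⟨?_, pullback.lift_snd _ _ _⟩, pullback.lift_fst]
    apply pullback.hom_ext
    · rw [Category.assoc, pullback.lift_fst, pullback.lift_fst, hv1]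
    · rw [Category.assoc, pullback.lift_snd, pullback.lift_snd, Category.comp_id]

variable {X : Over S} {aX : AlgGrp.Action G X}

theorem isAffine_of_affineHom {A B : Over S} (f : A ⟶ B) [IsAffineHom f.left] [IsAffine B.left] :
    IsAffine A.left := isAffine_of_isAffineHom f.left

theorem existsUnique_hom [IsAffineHom G.hom] [Flat G.hom] [IsAffineHom X.hom]
    {xv x x' : AlgSt.QuotObj Scheme.fppfPrecoverage G aX} (t : xv ⟶ x) (t' : xv ⟶ x')
    [IsAffine x.base.left] (hi : FlatExt t.base) (g : x.base ⟶ x'.base) (hg : t.base ≫ g = t'.base) :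
    ∃! φ : x ⟶ x', φ.base = g ∧ t ≫ φ = t' := by
  haveI haf : IsAffineHom x.π.left := K750.QuotAff.isAffineHom_quotObj Scheme.fppfPrecoverage_le_fpqcPrecoverage x
  haveI haf' : IsAffineHom x'.π.left := K750.QuotAff.isAffineHom_quotObj Scheme.fppfPrecoverage_le_fpqcPrecoverage x'
  haveI hfl : Flat x.π.left := flat_π x.act x.cart x.loc
  haveI hP : IsAffine x.P.left := isAffine_of_affineHom x.π
  haveI hiso : IsIso t.top.left.appTop := hi t.top xv.π x.π t.cart hfl hP
  have hGP : IsPullback (G ◁ t.top) (snd G xv.P ≫ xv.π) (snd G x.P ≫ x.π) t.base :=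
    (AlgSt.isPullback_whiskerLeft (G := G) t.top).paste_vert t.cart
  haveI hsn : IsAffineHom (snd G x.P).left := K750.QuotAff.isAffineHom_snd G x.P
  haveI hsf : Flat (snd G x.P).left := by
    have h := (AlgSt.isPullback_fst_snd G x.P).map (Over.forget S)
    have h' : IsPullback (fst G x.P).left (snd G x.P).left (toUnit G).left (toUnit x.P).left := h
    have h'' : Flat (toUnit G).left := by
      have : (toUnit G).left = G.hom := by simp
      rw [this]; infer_instance
    exact MorphismProperty.of_isPullback h' h''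
  haveI hP2 : IsAffine (G ⊗ x.P).left := isAffine_of_affineHom (snd G x.P)
  haveI hiso2 : IsIso (G ◁ t.top).left.appTop := hi _ _ _ hGP (by
    rw [Over.comp_left]; infer_instance) hP2
  obtain ⟨u, ⟨hu1, hu2⟩, huu⟩ := ext_over t.top x'.π (x.π ≫ g) t'.top (by
    rw [t'.cart.w, ← hg, ← Category.assoc, ← Category.assoc, t.cart.w])
  have heqv : x.act.act ≫ u = (G ◁ u) ≫ x'.act.act := by
    obtain ⟨w, -, hw⟩ := ext_over (G ◁ t.top) x'.π (snd G x.P ≫ x.π ≫ g)
      ((G ◁ t'.top) ≫ x'.act.act) (by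
        have h1 := reassoc_of% t.cart.w
        rw [Category.assoc, x'.cart.w, whiskerLeft_snd_assoc, whiskerLeft_snd_assoc, t'.cart.w, ← hg,
          h1])
    rw [hw (x.act.act ≫ u) ⟨?_, ?_⟩, hw ((G ◁ u) ≫ x'.act.act) ⟨?_, ?_⟩]
    · rw [← Category.assoc, ← MonoidalCategory.whiskerLeft_comp, hu1]
    · rw [Category.assoc, x'.cart.w, whiskerLeft_snd_assoc, hu2]
    · rw [← Category.assoc, ← t.eqv, Category.assoc, hu1, t'.eqv]
    · rw [Category.assoc, hu2, ← Category.assoc, x.cart.w, Category.assoc]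
  have hφ : u ≫ x'.φ = x.φ := by
    haveI : IsAffineHom (toUnit X).left := by
      have : (toUnit X).left = X.hom := by simp
      rw [this]; infer_instance
    obtain ⟨w, -, hw⟩ := ext_over t.top (toUnit X) (toUnit x.P) (xv.φ) (Subsingleton.elim _ _)
    rw [hw (u ≫ x'.φ) ⟨?_, Subsingleton.elim _ _⟩, hw x.φ ⟨t.wφ, Subsingleton.elim _ _⟩]
    rw [← Category.assoc, hu1, t'.wφ]
  let φ : x ⟶ x' := 
    { base := g
      top := u
      eqv := heqv
      cart := cart_of_eqv (K := Scheme.fppfPrecoverage) x.cart x'.cart x.loc heqv hu2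
      wφ := hφ }
  refine ⟨φ, ⟨rfl, AlgSt.QuotObj.hom_ext hg hu1⟩, ?_⟩
  rintro φ' ⟨h1, h2⟩
  refine AlgSt.QuotObj.hom_ext h1 ?_
  refine huu φ'.top ⟨congrArg (fun z => z.top) h2, ?_⟩
  rw [φ'.cart.w, h1]

theorem uniqAt_quot [IsAffineHom G.hom] [Flat G.hom] [IsAffineHom X.hom] {V T : Over S} (i : V ⟶ T)
    [IsAffine T.left] (hi : FlatExt i) :
    UniqAt i (FibCat.toSelf (AlgSt.QuotSt Scheme.fppfPrecoverage G aX)) := by
  apply K943.SelfLift.uniqAt_self
  intro xv x x' t t' ψ _ ht ht' e
  have e1 : x.base = T := IsHomLift.codomain_eq (AlgSt.QuotSt Scheme.fppfPrecoverage G aX).p i t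
  have e2 : xv.base = V := IsHomLift.domain_eq (AlgSt.QuotSt Scheme.fppfPrecoverage G aX).p i t
  subst e1 e2
  have e3 : i = t.base := IsHomLift.eq_of_isHomLift (AlgSt.QuotSt Scheme.fppfPrecoverage G aX).p i t
  subst e3
  exact existsUnique_hom t t' hi ψ e

end ext

section coords

variable {R : Type u} [CommRing R] [IsDomain R]

theorem isIso_of_pullback {V T Z' Z : Over S} {i : V ⟶ T} {k : Z' ⟶ Z} {p' : Z' ⟶ V} {p : Z ⟶ T}
    (h : IsPullback k p' p i) (U : T.left.Opens) [IsIso (p.left ⁻¹ᵁ U).ι.appTop]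
    (e : V.left ≅ U.toScheme) (he : e.hom ≫ U.ι = i.left) : IsIso k.left.appTop := by
  have h1 : IsPullback k.left p'.left p.left i.left := h.map (Over.forget S)
  have h2 : IsPullback (p.left ⁻¹ᵁ U).ι (p.left ∣_ U) p.left U.ι := (isPullback_morphismRestrict p.left U).flip
  have h3 : IsPullback k.left (p'.left ≫ e.hom) p.left U.ι :=
    h1.of_iso (Iso.refl _) (Iso.refl _) e (Iso.refl _) (by simp) (by simp) (by simp) (by simp [he])
  obtain ⟨e', he'⟩ : ∃ e' : Z'.left ≅ (p.left ⁻¹ᵁ U).toScheme, e'.hom ≫ (p.left ⁻¹ᵁ U).ι = k.left :=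
    ⟨h3.isoIsPullback _ _ h2, h3.isoIsPullback_hom_fst _ _ h2⟩
  rw [← he', Scheme.Hom.comp_appTop]
  infer_instance

theorem flatExt_line {ϖ : R} (hϖ : ϖ ≠ 0) (h : Spec (CommRingCat.of R) ⟶ S)
    {Y : Over (Spec (CommRingCat.of R))} (y : Y ⟶ Line R) [Flat y.left] :
    FlatExt ((Over.map h).map (openMap y (Coord.Uline ϖ))) := by
  intro Z' Z k p' p hk hp hZ
  let Zr : Over (Spec (CommRingCat.of R)) := Over.mk (p.left ≫ Y.hom)
  let z : Zr ⟶ Y := Over.homMk p.left
  haveI : Flat z.left := hp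
  haveI : Flat (z ≫ y).left := by rw [Over.comp_left]; infer_instance
  haveI : IsAffine Zr.left := hZ
  haveI h1 : IsIso (p.left ⁻¹ᵁ (y.left ⁻¹ᵁ Coord.Uline ϖ)).ι.appTop := Coord.isIso_line hϖ (z ≫ y)
  exact isIso_of_pullback hk (y.left ⁻¹ᵁ Coord.Uline ϖ) (Iso.refl _) (Category.id_comp _)

theorem flatExt_st {π : R} (hπ : π ≠ 0) (h : Spec (CommRingCat.of R) ⟶ S)
    {Y : Over (Spec (CommRingCat.of R))} (y : Y ⟶ STSch R π) [Flat y.left] :
    FlatExt ((Over.map h).map (openMap y (Coord.Ust π))) := by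
  intro Z' Z k p' p hk hp hZ
  let Zr : Over (Spec (CommRingCat.of R)) := Over.mk (p.left ≫ Y.hom)
  let z : Zr ⟶ Y := Over.homMk p.left
  haveI : Flat z.left := hp
  haveI : Flat (z ≫ y).left := by rw [Over.comp_left]; infer_instance
  haveI : IsAffine Zr.left := hZ
  haveI h1 : IsIso (p.left ⁻¹ᵁ (y.left ⁻¹ᵁ Coord.Ust π)).ι.appTop := Coord.isIso_st hπ (z ≫ y)
  exact isIso_of_pullback hk (y.left ⁻¹ᵁ Coord.Ust π) (Iso.refl _) (Category.id_comp _)

end coords

section main

variable {X : Over S} {aX : AlgGrp.Action G X}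

/-- `[X/G] ⟶ S` is Θ-reductive if objects extend over the line. -/
theorem isThetaComplete_quot [IsAffineHom G.hom] [Flat G.hom] [IsAffineHom X.hom]
    (H : ∀ (R : Type u) [CommRing R] [IsDomain R] [IsDiscreteValuationRing R] (ϖ : R), Irreducible ϖ →
      ∀ h : Spec (CommRingCat.of R) ⟶ S,
        LiftsAt ((Over.map h).map (openMap (𝟙 (Line R)) (Coord.Uline ϖ)))
          (FibCat.toSelf (AlgSt.QuotSt Scheme.fppfPrecoverage G aX))) :
    IsThetaComplete Scheme.fppfPrecoverage (AlgSt.QuotSt Scheme.fppfPrecoverage G aX) := by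
  intro R _ _ _ ϖ hϖ h
  refine AffMain.liftsUniquely_theta ϖ h
    (K750.QuotEff.isStack_quotSt Scheme.fppfPrecoverage_le_fpqcPrecoverage aX)
    (K943.SelfLift.isPrestack_self _) ?_ (H R ϖ hϖ h)
  intro Y y hy hY
  haveI : IsAffine ((Over.map h).obj Y).left := hY
  exact uniqAt_quot _ (flatExt_line hϖ.ne_zero h y)

/-- `[X/G] ⟶ S` is S-complete if objects extend over `Spec R[s,t]/(st − π)`. -/
theorem isSCompleteOver_quot [IsAffineHom G.hom] [Flat G.hom] [IsAffineHom X.hom]
    (H : ∀ (R : Type u) [CommRing R] [IsDomain R] [IsDiscreteValuationRing R] (π : R), Irreducible π →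
      ∀ h : Spec (CommRingCat.of R) ⟶ S,
        LiftsAt ((Over.map h).map (openMap (𝟙 (STSch R π)) (Coord.Ust π)))
          (FibCat.toSelf (AlgSt.QuotSt Scheme.fppfPrecoverage G aX))) :
    IsSCompleteOver Scheme.fppfPrecoverage (AlgSt.QuotSt Scheme.fppfPrecoverage G aX) := by
  intro R _ _ _ π hπ h
  refine AffMain.liftsUniquely_st π h
    (K750.QuotEff.isStack_quotSt Scheme.fppfPrecoverage_le_fpqcPrecoverage aX)
    (K943.SelfLift.isPrestack_self _) ?_ (H R π hπ h)
  intro Y y hy hY
  haveI : IsAffine ((Over.map h).obj Y).left := hY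
  exact uniqAt_quot _ (flatExt_st hπ.ne_zero h y)

end main

end K942.TorsGeom
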