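import Mathlib.CategoryTheory.Category.Basic
import Mathlib.CategoryTheory.Iso
import Mathlib.Tactic

/-!
# Sections of a category fibred in groupoids displayed over a category (ThetaS, helper942)

A category fibred in groupoids over `B` is presented by its fibres `L : B → Type _`, a category
structure on `Sigma L` and the map `base` on morphisms; so "lies over" is an equation between
morphisms of `B`, without transport.

* `Disp L` : the structure
* `Sec L D` : sections over the full subcategory `D` of `B`; `SecHom` morphisms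
* `MG D X`, `OG L D` : gluing of morphisms out of `X`, of objects, along the arrows with source in `D`
* `existsUnique_extend_hom`, `exists_extend_sec` : sections over `D` extend (the first step)
-/

set_option autoImplicit false
set_option backward.isDefEq.respectTransparency false
set_option backward.isDefEq.respectTransparency.types false
set_option linter.dupNamespace false
set_option linter.style.haveILetI false
set_option linter.unusedVariables false

universe v₂ u₂ v₁ u₁

open CategoryTheory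

namespace K942.Disp

/-- A category fibred in groupoids, displayed over `B`. -/
class Disp {B : Type u₁} [Category.{v₁} B] (L : B → Type u₂) extends Category.{v₂} (Sigma L) where
  /-- the image of a morphism in the base -/
  base : ∀ {X Y : Sigma L}, (X ⟶ Y) → (X.1 ⟶ Y.1)
  base_id : ∀ X : Sigma L, base (𝟙 X) = 𝟙 X.1
  base_comp : ∀ {X Y Z : Sigma L} (f : X ⟶ Y) (g : Y ⟶ Z), base (f ≫ g) = base f ≫ base g
  lift : ∀ {A' A : B} (φ : A' ⟶ A) (l : L A), ∃ (l' : L A') (m : (⟨A', l'⟩ : Sigma L) ⟶ ⟨A, l⟩), base m = φ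
  cart : ∀ {X Y Z : Sigma L} (m : Y ⟶ Z) (n : X ⟶ Z) (χ : X.1 ⟶ Y.1), χ ≫ base m = base n →
    ∃! k : X ⟶ Y, base k = χ ∧ k ≫ m = n

export Disp (base base_id base_comp)

variable {B : Type u₁} [Category.{v₁} B] {L : B → Type u₂} [Disp.{v₂} L]

/-- The factorisation through a (cartesian) morphism. -/
noncomputable def fac {X Y Z : Sigma L} (m : Y ⟶ Z) (n : X ⟶ Z) (χ : X.1 ⟶ Y.1) (h : χ ≫ base m = base n) : X ⟶ Y :=
  (Disp.cart m n χ h).choose

theorem base_fac {X Y Z : Sigma L} (m : Y ⟶ Z) (n : X ⟶ Z) (χ : X.1 ⟶ Y.1) (h : χ ≫ base m = base n) :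
    base (fac m n χ h) = χ := (Disp.cart m n χ h).choose_spec.1.1

@[simp] theorem fac_comp {X Y Z : Sigma L} (m : Y ⟶ Z) (n : X ⟶ Z) (χ : X.1 ⟶ Y.1) (h : χ ≫ base m = base n) :
    fac m n χ h ≫ m = n := (Disp.cart m n χ h).choose_spec.1.2

theorem cancel {X Y Z : Sigma L} (m : Y ⟶ Z) {k k' : X ⟶ Y} (hb : base k = base k') (h : k ≫ m = k' ≫ m) :
    k = k' :=
  (Disp.cart m (k' ≫ m) (base k') (base_comp _ _).symm).unique ⟨hb, h⟩ ⟨rfl, rfl⟩

/-- A morphism over an isomorphism is an isomorphism. -/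
theorem isIso_of_base {X Y : Sigma L} (m : X ⟶ Y) [IsIso (base m)] : IsIso m := by
  let k := fac m (𝟙 Y) (inv (base m)) (by rw [IsIso.inv_hom_id, base_id])
  have hk : base k = inv (base m) := base_fac _ _ _ _
  have h1 : k ≫ m = 𝟙 Y := fac_comp _ _ _ _
  refine ⟨k, ?_, h1⟩
  apply cancel m
  · rw [base_comp, hk, IsIso.hom_inv_id, base_id]
  · rw [Category.assoc, h1, Category.comp_id, Category.id_comp]

theorem isIso_of_base_id {A : B} {l l' : L A} (m : (⟨A, l⟩ : Sigma L) ⟶ ⟨A, l'⟩) (h : base m = 𝟙 A) : IsIso m := by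
  have : IsIso (base m) := by rw [h]; infer_instance
  exact isIso_of_base m

variable (L) in
/-- Sections over the full subcategory of `B` on the objects satisfying `D`. -/
structure Sec (D : B → Prop) where
  ob : ∀ A, D A → L A
  map : ∀ {A' A : B} (hA' : D A') (hA : D A), (A' ⟶ A) → ((⟨A', ob A' hA'⟩ : Sigma L) ⟶ ⟨A, ob A hA⟩)
  base_map : ∀ {A' A : B} (hA' : D A') (hA : D A) (φ : A' ⟶ A), base (map hA' hA φ) = φ
  map_id : ∀ {A : B} (hA : D A), map hA hA (𝟙 A) = 𝟙 _
  map_comp : ∀ {A'' A' A : B} (hA'' : D A'') (hA' : D A') (hA : D A) (ψ : A'' ⟶ A') (φ : A' ⟶ A),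
    map hA'' hA (ψ ≫ φ) = map hA'' hA' ψ ≫ map hA' hA φ

/-- The object of the total category. -/
abbrev Sec.pt {D : B → Prop} (s : Sec L D) (A : B) (hA : D A) : Sigma L := ⟨A, s.ob A hA⟩

/-- Morphisms (over identities) between two sections, over the full subcategory `D` contained in both domains. -/
@[ext]
structure Mor {D₁ D₂ : B → Prop} (s₁ : Sec L D₁) (s₂ : Sec L D₂) (D : B → Prop) (h₁ : ∀ A, D A → D₁ A)
    (h₂ : ∀ A, D A → D₂ A) where
  app : ∀ A (hA : D A), s₁.pt A (h₁ A hA) ⟶ s₂.pt A (h₂ A hA)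
  base_app : ∀ A (hA : D A), base (app A hA) = 𝟙 A
  nat : ∀ {A' A : B} (hA' : D A') (hA : D A) (φ : A' ⟶ A),
    s₁.map (h₁ _ hA') (h₁ _ hA) φ ≫ app A hA = app A' hA' ≫ s₂.map (h₂ _ hA') (h₂ _ hA) φ

/-- Morphisms of sections over the same full subcategory. -/
abbrev SecHom {D : B → Prop} (s s' : Sec L D) := Mor s s' D (fun _ h => h) (fun _ h => h)

section Mor

variable {D₁ D₂ D₃ D D' : B → Prop} {s₁ : Sec L D₁} {s₂ : Sec L D₂} {s₃ : Sec L D₃} {h₁ : ∀ A, D A → D₁ A}
    {h₂ : ∀ A, D A → D₂ A} {h₃ : ∀ A, D A → D₃ A}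

/-- Restriction of morphisms of sections. -/
def Mor.res (τ : Mor s₁ s₂ D h₁ h₂) (D' : B → Prop) (h : ∀ A, D' A → D A) (h₁' h₂') :
    Mor s₁ s₂ D' h₁' h₂' where
  app A hA := τ.app A (h A hA)
  base_app _ _ := τ.base_app _ _
  nat _ _ _ := τ.nat _ _ _

def Mor.id (s : Sec L D₁) : Mor s s D h₁ h₁ where
  app A hA := 𝟙 _
  base_app _ _ := base_id _
  nat _ _ _ := by rw [Category.comp_id, Category.id_comp]

def Mor.comp (τ : Mor s₁ s₂ D h₁ h₂) (τ' : Mor s₂ s₃ D h₂ h₃) : Mor s₁ s₃ D h₁ h₃ where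
  app A hA := τ.app A hA ≫ τ'.app A hA
  base_app A hA := by rw [base_comp, τ.base_app, τ'.base_app, Category.comp_id]
  nat hA' hA φ := by rw [← Category.assoc, τ.nat, Category.assoc, τ'.nat, Category.assoc]

theorem Mor.isIso_app (τ : Mor s₁ s₂ D h₁ h₂) (A : B) (hA : D A) : IsIso (τ.app A hA) :=
  isIso_of_base_id _ (τ.base_app A hA)

/-- Every morphism of sections is invertible. -/
noncomputable def Mor.symm (τ : Mor s₁ s₂ D h₁ h₂) : Mor s₂ s₁ D h₂ h₁ where
  app A hA := haveI := τ.isIso_app A hA; inv (τ.app A hA)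
  base_app A hA := by
    haveI := τ.isIso_app A hA
    have h := base_comp (inv (τ.app A hA)) (τ.app A hA)
    rw [IsIso.inv_hom_id, base_id, τ.base_app, Category.comp_id] at h
    exact h.symm
  nat {A' A} hA' hA φ := by
    haveI := τ.isIso_app A hA
    haveI := τ.isIso_app A' hA'
    rw [IsIso.comp_inv_eq, Category.assoc, IsIso.eq_inv_comp, τ.nat]

theorem Mor.symm_app_comp (τ : Mor s₁ s₂ D h₁ h₂) (A : B) (hA : D A) : τ.symm.app A hA ≫ τ.app A hA = 𝟙 _ := by
  haveI := τ.isIso_app A hA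
  exact IsIso.inv_hom_id _

theorem Mor.app_comp_symm (τ : Mor s₁ s₂ D h₁ h₂) (A : B) (hA : D A) : τ.app A hA ≫ τ.symm.app A hA = 𝟙 _ := by
  haveI := τ.isIso_app A hA
  exact IsIso.hom_inv_id _

end Mor

section Lam

variable {D : B → Prop} (s : Sec L D) {A : B} (hA : D A)

/-- The comparison of an arrow into a value of a section with the section. -/
noncomputable def lam {W : Sigma L} (m : W ⟶ s.pt A hA) (hW : D W.1) : W ⟶ s.pt W.1 hW :=
  fac (s.map hW hA (base m)) m (𝟙 W.1) (by rw [s.base_map, Category.id_comp])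

variable {s hA}

@[simp] theorem base_lam {W : Sigma L} (m : W ⟶ s.pt A hA) (hW : D W.1) : base (lam s hA m hW) = 𝟙 W.1 :=
  base_fac _ _ _ _

theorem lam_comp {W : Sigma L} (m : W ⟶ s.pt A hA) (hW : D W.1) :
    lam s hA m hW ≫ s.map hW hA (base m) = m := fac_comp _ _ _ _

theorem lam_comp' {W : Sigma L} (m : W ⟶ s.pt A hA) (hW : D W.1) {x : W.1 ⟶ A} (hx : x = base m) :
    lam s hA m hW ≫ s.map hW hA x = m := by subst hx; exact lam_comp m hW

theorem eq_lam {W : Sigma L} (m : W ⟶ s.pt A hA) (hW : D W.1) (k : W ⟶ s.pt W.1 hW) (hk : base k = 𝟙 W.1)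
    {x : W.1 ⟶ A} (h : k ≫ s.map hW hA x = m) : k = lam s hA m hW := by
  have hx : x = base m := by
    have := congrArg base h
    rwa [base_comp, hk, s.base_map, Category.id_comp] at this
  subst hx
  exact cancel (s.map hW hA (base m)) (by rw [hk, base_lam]) (by rw [h, lam_comp])

theorem lam_precomp {W' W : Sigma L} (n : W' ⟶ W) (m : W ⟶ s.pt A hA) (hW' : D W'.1) (hW : D W.1) :
    lam s hA (n ≫ m) hW' ≫ s.map hW' hW (base n) = n ≫ lam s hA m hW := by
  apply cancel (s.map hW hA (base m))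
  · simp only [base_comp, s.base_map, base_lam, Category.id_comp, Category.comp_id]
  · rw [Category.assoc, Category.assoc, ← s.map_comp, lam_comp]
    exact lam_comp' _ _ (base_comp _ _).symm

theorem lam_map {A'' : B} (hA'' : D A'') (φ : A ⟶ A'') {W : Sigma L} (m : W ⟶ s.pt A hA) (hW : D W.1) :
    lam s hA'' (m ≫ s.map hA hA'' φ) hW = lam s hA m hW := by
  symm
  apply eq_lam (x := base m ≫ φ)
  · exact base_lam _ _
  · rw [s.map_comp hW hA hA'', ← Category.assoc, lam_comp]

theorem lam_id : lam s hA (𝟙 (s.pt A hA)) hA = 𝟙 _ := by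
  refine (eq_lam (s := s) (hA := hA) (𝟙 (s.pt A hA)) hA (𝟙 (s.pt A hA)) (base_id _) (x := 𝟙 A) ?_).symm
  rw [s.map_id]; exact Category.id_comp _

end Lam

/-- Morphisms out of `X` glue uniquely along the arrows into `X` with source over `D`. -/
def MG (D : B → Prop) (X : Sigma L) : Prop :=
  ∀ (Y : Sigma L) (g₀ : X.1 ⟶ Y.1) (h : ∀ (W : Sigma L) (_ : W ⟶ X), D W.1 → (W ⟶ Y)),
    (∀ W m hW, base (h W m hW) = base m ≫ g₀) →
    (∀ (W' W : Sigma L) (n : W' ⟶ W) (m : W ⟶ X) (hW' : D W'.1) (hW : D W.1), h W' (n ≫ m) hW' = n ≫ h W m hW) →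
    ∃! G : X ⟶ Y, base G = g₀ ∧ ∀ W m hW, m ≫ G = h W m hW

variable (L) in
/-- Objects glue along the arrows with source in `D`: every section over `D` has "values" at every `A`. -/
def OG (D : B → Prop) : Prop :=
  ∀ (s : Sec L D) (A : B), ∃ (l₀ : L A) (c : ∀ (A' : B) (hA' : D A') (_ : A' ⟶ A), s.pt A' hA' ⟶ (⟨A, l₀⟩ : Sigma L)),
    (∀ A' hA' φ, base (c A' hA' φ) = φ) ∧
    ∀ (A'' A' : B) (hA'' : D A'') (hA' : D A') (ψ : A'' ⟶ A') (φ : A' ⟶ A),
      s.map hA'' hA' ψ ≫ c A' hA' φ = c A'' hA'' (ψ ≫ φ)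

/-- Two morphisms out of `X` agree if they agree after composition with the arrows from `D`. -/
theorem MG.hom_ext {D : B → Prop} {X : Sigma L} (hX : MG D X)
    {Y : Sigma L} {G G' : X ⟶ Y} (hb : base G = base G')
    (h : ∀ (W : Sigma L) (m : W ⟶ X), D W.1 → m ≫ G = m ≫ G') : G = G' :=
  (hX Y (base G) (fun W m _ => m ≫ G) (fun W m _ => base_comp _ _)
    (fun W' W n m _ _ => Category.assoc _ _ _)).unique ⟨rfl, fun _ _ _ => rfl⟩
      ⟨hb.symm, fun W m hW => (h W m hW).symm⟩

section Step1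

variable {D E : B → Prop} (hD : ∀ {A' A : B}, (A' ⟶ A) → D A → D A') (hE : ∀ {A' A : B}, (A' ⟶ A) → E A → E A')

include hE in
/-- First step, morphisms: a morphism between sections over `E`, given on `D ∧ E`, extends uniquely. -/
theorem existsUnique_extend_hom (hMG : ∀ X : Sigma L, E X.1 → MG D X) (s s' : Sec L E)
    (τ : Mor s s' (fun A => D A ∧ E A) (fun _ h => h.2) (fun _ h => h.2)) :
    ∃! T : SecHom s s', ∀ A (hA : D A ∧ E A), T.app A hA.2 = τ.app A hA := by
  have key : ∀ A (hA : E A), ∃! G : s.pt A hA ⟶ s'.pt A hA, base G = 𝟙 A ∧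
      ∀ (W : Sigma L) (m : W ⟶ s.pt A hA) (hW : D W.1),
        m ≫ G = lam s hA m (hE (base m) hA) ≫
          τ.app W.1 ⟨hW, hE (base m) hA⟩ ≫ s'.map (hE (base m) hA) hA (base m) := by
    intro A hA
    refine hMG (s.pt A hA) hA (s'.pt A hA) (𝟙 A) _ ?_ ?_
    · intro W m hW
      simp only [base_comp, base_lam, s'.base_map, τ.base_app, Category.id_comp, Category.comp_id]
    · intro W' W n m hW' hW
      have hEW : E W.1 := hE (base m) hA
      have hEW' : E W'.1 := hE (base n) hEW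
      have e1 := lam_precomp (hA := hA) n m hEW' hEW
      have e2 := τ.nat (A' := W'.1) (A := W.1) ⟨hW', hEW'⟩ ⟨hW, hEW⟩ (base n)
      have e3 : s'.map hEW' hA (base (n ≫ m)) = s'.map hEW' hEW (base n) ≫ s'.map hEW hA (base m) := by
        rw [← s'.map_comp]
        congr 1
        exact base_comp _ _
      rw [e3, ← reassoc_of% e2, reassoc_of% e1]
  choose G hG hGu using key
  refine ⟨⟨G, fun A hA => (hG A hA).1, ?_⟩, ?_, ?_⟩
  · intro A' A hA' hA φ
    apply MG.hom_ext (hMG (s.pt A' hA') hA')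
    · simp only [base_comp, s.base_map, s'.base_map, (hG A hA).1, (hG A' hA').1, Category.id_comp,
        Category.comp_id]
    · intro W m hW
      have hEW : E W.1 := hE (base m) hA'
      have h1 := (hG A' hA').2 W m hW
      have h2 := (hG A hA).2 W (m ≫ s.map hA' hA φ) hW
      have hb : base (m ≫ s.map hA' hA φ) = base m ≫ φ := by rw [base_comp, s.base_map]
      rw [← Category.assoc m (s.map hA' hA φ), h2, ← Category.assoc m (G A' hA'), h1, Category.assoc, Category.assoc,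
        ← s'.map_comp, lam_map, hb]
  · intro A hA
    have h1 := (hG A hA.2).2 (s.pt A hA.2) (𝟙 _) hA.1
    change G A hA.2 = _
    rw [Category.id_comp, lam_id, Category.id_comp] at h1
    rw [h1]
    have e1 : ∀ (x : A ⟶ A) (hx : x = 𝟙 A), τ.app A hA ≫ s'.map hA.2 hA.2 x = τ.app A hA := by
      rintro x rfl
      rw [s'.map_id]
      exact Category.comp_id _
    exact e1 _ (base_id _)
  · intro T hT
    ext A hA
    apply hGu A hA
    refine ⟨T.base_app A hA, ?_⟩
    intro W m hW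
    have hEW : E W.1 := hE (base m) hA
    have h1 := T.nat hEW hA (base m)
    have h2 := hT W.1 ⟨hW, hEW⟩
    rw [← h2, ← h1, ← Category.assoc, lam_comp]

/-- First step, objects: a section over `D` extends. -/
theorem exists_extend_sec (hD : ∀ {A' A : B}, (A' ⟶ A) → D A → D A') (hMG : ∀ X : Sigma L, MG D X) (hOG : OG L D)
    (s : Sec L D) : ∃ (S : Sec L (fun _ => True)), Nonempty (Mor s S D (fun _ h => h) (fun _ _ => trivial)) := by
  choose l₀ c hc1 hc2 using hOG s
  -- the morphism over `ψ : A ⟶ A₂`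
  have key : ∀ {A A₂ : B} (ψ : A ⟶ A₂), ∃! G : (⟨A, l₀ A⟩ : Sigma L) ⟶ ⟨A₂, l₀ A₂⟩, base G = ψ ∧
      ∀ (W : Sigma L) (m : W ⟶ ⟨A, l₀ A⟩) (hW : D W.1),
        m ≫ G = fac (c A W.1 hW (base m)) m (𝟙 W.1) (by rw [hc1, Category.id_comp]) ≫
          c A₂ W.1 hW (base m ≫ ψ) := by
    intro A A₂ ψ
    refine hMG ⟨A, l₀ A⟩ ⟨A₂, l₀ A₂⟩ ψ _ ?_ ?_
    · intro W m hW
      rw [base_comp, base_fac, hc1, Category.id_comp]
    · intro W' W n m hW' hW
      have e1 : fac (c A W'.1 hW' (base (n ≫ m))) (n ≫ m) (𝟙 W'.1) (by rw [hc1, Category.id_comp]) ≫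
          s.map hW' hW (base n) =
          n ≫ fac (c A W.1 hW (base m)) m (𝟙 W.1) (by rw [hc1, Category.id_comp]) := by
        apply cancel (c A W.1 hW (base m))
        · refine (base_comp _ _).trans (Eq.trans ?_ (base_comp _ _).symm)
          rw [base_fac, base_fac, s.base_map, Category.id_comp, Category.comp_id]
        · rw [Category.assoc, Category.assoc, fac_comp, hc2]
          have : ∀ (x : W'.1 ⟶ A) (hx : x = base (n ≫ m)),
              fac (c A W'.1 hW' (base (n ≫ m))) (n ≫ m) (𝟙 W'.1) (by rw [hc1, Category.id_comp]) ≫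
                c A W'.1 hW' x = n ≫ m := by
            rintro x rfl
            exact fac_comp _ _ _ _
          exact this _ (base_comp _ _).symm
      rw [← reassoc_of% e1, hc2]
      congr 2
      rw [base_comp, Category.assoc]
  choose G hG hGu using @key
  have hcG : ∀ {A A₂ : B} (ψ : A ⟶ A₂) (A' : B) (hA' : D A') (φ : A' ⟶ A),
      c A A' hA' φ ≫ G ψ = c A₂ A' hA' (φ ≫ ψ) := by
    intro A A₂ ψ A' hA' φ
    rw [(hG ψ).2 (s.pt A' hA') (c A A' hA' φ) hA']
    have e1 : ∀ (x : A' ⟶ A) (hx : x = φ) (h), fac (c A A' hA' x) (c A A' hA' φ) (𝟙 A') h ≫ c A₂ A' hA' (x ≫ ψ) =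
        c A₂ A' hA' (φ ≫ ψ) := by
      rintro x rfl h
      have : fac (c A A' hA' x) (c A A' hA' x) (𝟙 A') h = 𝟙 (s.pt A' hA') := by
        apply cancel (c A A' hA' x)
        · rw [base_fac, base_id]
        · rw [fac_comp, Category.id_comp]
      rw [this, Category.id_comp]
    exact e1 _ (hc1 _ _ _ _) _
  let S : Sec L (fun _ => True) :=
    { ob := fun A _ => l₀ A
      map := fun _ _ φ => G φ
      base_map := fun _ _ φ => (hG φ).1
      map_id := fun {A} _ => by
        apply MG.hom_ext (hMG ⟨A, l₀ A⟩)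
        · rw [(hG _).1, base_id]
        · intro W m hW
          rw [(hG (𝟙 A)).2 W m hW]
          simp only [Category.comp_id]
          exact fac_comp _ _ _ _
      map_comp := fun {A'' A' A} _ _ _ ψ φ => by
        apply MG.hom_ext (hMG ⟨A'', l₀ A''⟩)
        · simp only [base_comp, (hG _).1]
        · intro W m hW
          rw [(hG _).2 W m hW, ← Category.assoc m (G ψ), (hG ψ).2 W m hW, Category.assoc, hcG, Category.assoc] }
  refine ⟨S, ⟨⟨fun A hA => c A A hA (𝟙 A), fun A hA => hc1 _ _ _ _, ?_⟩⟩⟩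
  intro A' A hA' hA φ
  change _ = c A' A' hA' (𝟙 A') ≫ G φ
  rw [hc2, hcG, Category.comp_id, Category.id_comp]

end Step1

end K942.Disp
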