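import Groth.Agent.ThetaS.K942.Disp

/-!
# Sections of a displayed category: extension along an "open" full subcategory (ThetaS, helper942)

* `Transp X₁` : transport data on an object over `A₁` (= descent data for the arrows to `A₁`); `secOfTransp`
* `exists_sec_of_transp` : transport data + gluing give a section over all of `B`
* `exists_extension` : extension of a section over `Q`
* `existsUnique_hom_extension` : unique extension of morphisms
-/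

set_option autoImplicit false
set_option backward.isDefEq.respectTransparency false
set_option backward.isDefEq.respectTransparency.types false
set_option linter.dupNamespace false
set_option linter.style.haveILetI false
set_option linter.unusedVariables false

universe v₂ u₂ v₁ u₁

open CategoryTheory

namespace K942.Disp

variable {B : Type u₁} [Category.{v₁} B] {L : B → Type u₂} [Disp.{v₂} L]

/-- Restriction of a section. -/
@[reducible] def Sec.res {D D' : B → Prop} (h : ∀ A, D' A → D A) (s : Sec L D) : Sec L D' where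
  ob A hA := s.ob A (h A hA)
  map hA' hA φ := s.map (h _ hA') (h _ hA) φ
  base_map _ _ _ := s.base_map _ _ _
  map_id _ := s.map_id _
  map_comp _ _ _ _ _ := s.map_comp _ _ _ _ _

/-- Transport data on `X₁`: every arrow `m` into `X₁` can be moved to lie over any other arrow `v` of the base with the
same source and target; this is a descent datum for the arrows with target `X₁.1`. -/
structure Transp (X₁ : Sigma L) where
  tr : ∀ {Y : Sigma L} (_ : Y ⟶ X₁) (_ : Y.1 ⟶ X₁.1), Y ⟶ X₁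
  base_tr : ∀ {Y : Sigma L} (m : Y ⟶ X₁) (v : Y.1 ⟶ X₁.1), base (tr m v) = v
  tr_base : ∀ {Y : Sigma L} (m : Y ⟶ X₁), tr m (base m) = m
  tr_tr : ∀ {Y : Sigma L} (m : Y ⟶ X₁) (v w : Y.1 ⟶ X₁.1), tr (tr m v) w = tr m w
  tr_nat : ∀ {Y' Y : Sigma L} (n : Y' ⟶ Y) (m : Y ⟶ X₁) (v : Y.1 ⟶ X₁.1), tr (n ≫ m) (base n ≫ v) = n ≫ tr m v

namespace Transp

variable {X₁ : Sigma L} (T : Transp X₁)

/-- chosen lifts -/
noncomputable def obA {A : B} (h : Nonempty (A ⟶ X₁.1)) : L A := (Disp.lift h.some X₁.2).choose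

/-- chosen lifts -/
noncomputable def mA {A : B} (h : Nonempty (A ⟶ X₁.1)) :
    (⟨A, obA h⟩ : Sigma L) ⟶ X₁ := (Disp.lift h.some X₁.2).choose_spec.choose

theorem base_mA {A : B} (h : Nonempty (A ⟶ X₁.1)) : base (mA h) = h.some :=
  (Disp.lift h.some X₁.2).choose_spec.choose_spec

/-- The section over the objects with an arrow to `X₁.1`. -/
noncomputable def sec : Sec L (fun A => Nonempty (A ⟶ X₁.1)) where
  ob A h := obA h
  map {A' A} h' h φ := fac (mA h) (T.tr (mA h') (φ ≫ h.some)) φ (by rw [base_mA, T.base_tr])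
  base_map h' h φ := base_fac _ _ _ _
  map_id {A} h := by
    apply cancel (mA h)
    · rw [base_fac, base_id]
    · have h1 := T.tr_base (mA h)
      rw [base_mA] at h1
      rw [fac_comp, Category.id_comp, Category.id_comp]
      exact h1
  map_comp {A'' A' A} h'' h' h ψ φ := by
    apply cancel (mA h)
    · rw [base_fac, base_comp, base_fac, base_fac]
    · have h1 := T.tr_nat (fac (mA h') (T.tr (mA h'') (ψ ≫ h'.some)) ψ (by rw [base_mA, T.base_tr])) (mA h') (φ ≫ h.some)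
      rw [fac_comp, T.tr_tr, base_fac] at h1
      rw [Category.assoc (fac (mA h') _ _ _), fac_comp, fac_comp, ← h1, Category.assoc]

/-- The canonical arrows from the values of the section to `X₁`. -/
noncomputable def sig {A : B} (h : Nonempty (A ⟶ X₁.1)) (u : A ⟶ X₁.1) : T.sec.pt A h ⟶ X₁ := T.tr (mA h) u

theorem base_sig {A : B} (h : Nonempty (A ⟶ X₁.1)) (u : A ⟶ X₁.1) : base (T.sig h u) = u := T.base_tr _ _

theorem tr_sig {A : B} (h : Nonempty (A ⟶ X₁.1)) (u v : A ⟶ X₁.1) : T.tr (T.sig h u) v = T.sig h v := T.tr_tr _ _ _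

theorem map_sig {A' A : B} (h' : Nonempty (A' ⟶ X₁.1)) (h : Nonempty (A ⟶ X₁.1)) (φ : A' ⟶ A) (u : A ⟶ X₁.1) :
    T.sec.map h' h φ ≫ T.sig h u = T.sig h' (φ ≫ u) := by
  have h1 := T.tr_nat (T.sec.map h' h φ) (mA h) u
  have h2 : T.sec.map h' h φ ≫ mA h = T.tr (mA h') (φ ≫ h.some) :=
    fac_comp (mA h) (T.tr (mA h') (φ ≫ h.some)) φ (by rw [base_mA, T.base_tr])
  rw [h2, T.tr_tr, T.sec.base_map] at h1
  exact h1.symm

end Transp

/-- Transport data and gluing give a section over all of `B`, with compatible arrows to `X₁`. -/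
theorem exists_sec_of_transp {X₁ : Sigma L} (T : Transp X₁)
    (hMG : ∀ X : Sigma L, MG (fun A => Nonempty (A ⟶ X₁.1)) X) (hOG : OG L (fun A => Nonempty (A ⟶ X₁.1))) :
    ∃ (S : Sec L (fun _ => True)) (σ : ∀ {A : B} (u : A ⟶ X₁.1), S.pt A trivial ⟶ X₁),
      (∀ {A : B} (u : A ⟶ X₁.1), base (σ u) = u) ∧ (∀ {A : B} (u v : A ⟶ X₁.1), T.tr (σ u) v = σ v) ∧
      (∀ {A' A : B} (φ : A' ⟶ A) (u : A ⟶ X₁.1), S.map trivial trivial φ ≫ σ u = σ (φ ≫ u)) := by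
  obtain ⟨S, ⟨τ⟩⟩ := exists_extend_sec (D := fun A => Nonempty (A ⟶ X₁.1)) (fun φ h => ⟨φ ≫ h.some⟩) hMG hOG T.sec
  refine ⟨S, fun {A} u => τ.symm.app A ⟨u⟩ ≫ T.sig ⟨u⟩ u, ?_, ?_, ?_⟩
  · intro A u
    rw [base_comp, τ.symm.base_app, T.base_sig, Category.id_comp]
  · intro A u v
    have h1 := T.tr_nat (τ.symm.app A ⟨u⟩) (T.sig ⟨u⟩ u) v
    rw [τ.symm.base_app, Category.id_comp, T.tr_sig] at h1
    exact h1
  · intro A' A φ u
    have h1 := τ.symm.nat (A' := A') (A := A) ⟨φ ≫ u⟩ ⟨u⟩ φ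
    rw [← Category.assoc, h1, Category.assoc, T.map_sig]

/-- The part of `A` where `Q` holds. -/
structure QPart (Q : B → Prop) (A : B) where
  obj : B
  hobj : Q obj
  ι : obj ⟶ A
  fac : ∀ {A' : B} (_ : Q A') (φ : A' ⟶ A), ∃! ψ : A' ⟶ obj, ψ ≫ ι = φ

variable (L) in
/-- Restriction to the `Q`-part is full on the fibre at `A`. -/
def FullAt {Q : B → Prop} {A : B} (P : QPart Q A) : Prop :=
  ∀ (l l' : L A) (k : L P.obj) (m : (⟨P.obj, k⟩ : Sigma L) ⟶ ⟨A, l⟩) (h : (⟨P.obj, k⟩ : Sigma L) ⟶ ⟨A, l'⟩),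
    base m = P.ι → base h = P.ι → ∃ G : (⟨A, l⟩ : Sigma L) ⟶ ⟨A, l'⟩, base G = 𝟙 A ∧ m ≫ G = h

variable (L) in
/-- Restriction to the `Q`-part is faithful on the fibre at `A`. -/
def FaithfulAt {Q : B → Prop} {A : B} (P : QPart Q A) : Prop :=
  ∀ (l l' : L A) (k : L P.obj) (m : (⟨P.obj, k⟩ : Sigma L) ⟶ ⟨A, l⟩), base m = P.ι →
    ∀ G G' : (⟨A, l⟩ : Sigma L) ⟶ ⟨A, l'⟩, base G = 𝟙 A → base G' = 𝟙 A → m ≫ G = m ≫ G' → G = G'

theorem FullAt.ex {Q : B → Prop} {A : B} {P : QPart Q A} (hF : FullAt L P) (l : L A) (Y : Sigma L) (v : A ⟶ Y.1)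
    (k : L P.obj) (m : (⟨P.obj, k⟩ : Sigma L) ⟶ ⟨A, l⟩) (hm : base m = P.ι) (h : (⟨P.obj, k⟩ : Sigma L) ⟶ Y)
    (hh : base h = P.ι ≫ v) : ∃ G : (⟨A, l⟩ : Sigma L) ⟶ Y, base G = v ∧ m ≫ G = h := by
  obtain ⟨l', n, hn⟩ := Disp.lift v Y.2
  obtain ⟨G, hG1, hG2⟩ := hF l l' k m (fac n h P.ι (by rw [hn, hh])) hm (base_fac _ _ _ _)
  refine ⟨G ≫ n, ?_, ?_⟩
  · rw [base_comp, hG1, hn, Category.id_comp]
  · rw [← Category.assoc, hG2, fac_comp]

theorem FaithfulAt.eq {Q : B → Prop} {A : B} {P : QPart Q A} (hF : FaithfulAt L P) {l : L A} {Y : Sigma L}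
    {k : L P.obj} {m : (⟨P.obj, k⟩ : Sigma L) ⟶ ⟨A, l⟩} (hm : base m = P.ι) {G G' : (⟨A, l⟩ : Sigma L) ⟶ Y}
    (hb : base G = base G') (h : m ≫ G = m ≫ G') : G = G' := by
  obtain ⟨l', n, hn⟩ := Disp.lift (base G) Y.2
  have e := hF l l' k m hm (fac n G (𝟙 A) (by rw [hn, Category.id_comp])) (fac n G' (𝟙 A) (by rw [hn, ← hb, Category.id_comp]))
    (base_fac _ _ _ _) (base_fac _ _ _ _) (by
      apply cancel n
      · rw [base_comp, base_comp, base_fac, base_fac]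
      · rw [Category.assoc, Category.assoc, fac_comp, fac_comp, h])
  have h1 := fac_comp n G (𝟙 A) (by rw [hn, Category.id_comp])
  have h2 := fac_comp n G' (𝟙 A) (by rw [hn, ← hb, Category.id_comp])
  rw [← h1, ← h2, e]

section Extension

variable {Q : B → Prop} (t : Sec L Q) {A₁ : B} (P₁ : QPart Q A₁) {l₁ : L A₁}
  (ε : t.pt P₁.obj P₁.hobj ⟶ (⟨A₁, l₁⟩ : Sigma L)) (hε : base ε = P₁.ι)

/-- The canonical arrows of a section over `Q` to an object over `A₁` extending its value at the `Q`-part. -/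
noncomputable def can (A : B) (hA : Q A) (u : A ⟶ A₁) : t.pt A hA ⟶ (⟨A₁, l₁⟩ : Sigma L) :=
  t.map hA P₁.hobj (P₁.fac hA u).choose ≫ ε

include hε in
theorem base_can (A : B) (hA : Q A) (u : A ⟶ A₁) : base (can t P₁ ε A hA u) = u := by
  rw [can, base_comp, t.base_map, hε]
  exact (P₁.fac hA u).choose_spec.1

theorem map_can {A' A : B} (hA' : Q A') (hA : Q A) (φ : A' ⟶ A) (u : A ⟶ A₁) :
    t.map hA' hA φ ≫ can t P₁ ε A hA u = can t P₁ ε A' hA' (φ ≫ u) := by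
  rw [can, can, ← Category.assoc, ← t.map_comp]
  congr 2
  apply (P₁.fac hA' (φ ≫ u)).unique _ (P₁.fac hA' (φ ≫ u)).choose_spec.1
  rw [Category.assoc, (P₁.fac hA u).choose_spec.1]

/-- Transport on the objects satisfying `Q`. -/
noncomputable def trQ {Y : Sigma L} (hY : Q Y.1) (m : Y ⟶ (⟨A₁, l₁⟩ : Sigma L)) (v : Y.1 ⟶ A₁) :
    Y ⟶ (⟨A₁, l₁⟩ : Sigma L) :=
  fac (can t P₁ ε Y.1 hY (base m)) m (𝟙 Y.1) (by rw [base_can t P₁ ε hε]; exact Category.id_comp _) ≫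
    can t P₁ ε Y.1 hY v

theorem base_trQ {Y : Sigma L} (hY : Q Y.1) (m : Y ⟶ (⟨A₁, l₁⟩ : Sigma L)) (v : Y.1 ⟶ A₁) :
    base (trQ t P₁ ε hε hY m v) = v := by
  rw [trQ, base_comp, base_fac, base_can t P₁ ε hε]; exact Category.id_comp _

/-- Characterisation of the transport on `Q`. -/
theorem trQ_eq {Y : Sigma L} (hY : Q Y.1) (κ : Y ⟶ t.pt Y.1 hY) (hκ : base κ = 𝟙 Y.1) (u v : Y.1 ⟶ A₁) :
    trQ t P₁ ε hε hY (κ ≫ can t P₁ ε Y.1 hY u) v = κ ≫ can t P₁ ε Y.1 hY v := by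
  have hb : base (κ ≫ can t P₁ ε Y.1 hY u) = u := by
    rw [base_comp, hκ, base_can t P₁ ε hε]; exact Category.id_comp _
  have : ∀ (x : Y.1 ⟶ A₁) (hx : x = u) (h),
      fac (can t P₁ ε Y.1 hY x) (κ ≫ can t P₁ ε Y.1 hY u) (𝟙 Y.1) h = κ := by
    rintro x rfl h
    apply cancel (can t P₁ ε Y.1 hY x)
    · rw [base_fac, hκ]
    · rw [fac_comp]
  rw [trQ, this _ hb]

theorem trQ_trQ {Y : Sigma L} (hY : Q Y.1) (m : Y ⟶ (⟨A₁, l₁⟩ : Sigma L)) (v w : Y.1 ⟶ A₁) :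
    trQ t P₁ ε hε hY (trQ t P₁ ε hε hY m v) w = trQ t P₁ ε hε hY m w :=
  trQ_eq t P₁ ε hε hY _ (base_fac _ _ _ _) v w

include hε in
theorem exists_kappa {Y : Sigma L} (hY : Q Y.1) (m : Y ⟶ (⟨A₁, l₁⟩ : Sigma L)) :
    ∃ κ : Y ⟶ t.pt Y.1 hY, base κ = 𝟙 Y.1 ∧ κ ≫ can t P₁ ε Y.1 hY (base m) = m :=
  ⟨fac (can t P₁ ε Y.1 hY (base m)) m (𝟙 Y.1) (by rw [base_can t P₁ ε hε]; exact Category.id_comp _),
    base_fac _ _ _ _, fac_comp _ _ _ _⟩

theorem trQ_nat {Y' Y : Sigma L} (hY' : Q Y'.1) (hY : Q Y.1) (n : Y' ⟶ Y) (m : Y ⟶ (⟨A₁, l₁⟩ : Sigma L))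
    (v : Y.1 ⟶ A₁) : trQ t P₁ ε hε hY' (n ≫ m) (base n ≫ v) = n ≫ trQ t P₁ ε hε hY m v := by
  obtain ⟨κ, hκ, hm⟩ := exists_kappa t P₁ ε hε hY m
  -- the comparison of `Y'` with the section
  let κ' : Y' ⟶ t.pt Y'.1 hY' := fac (t.map hY' hY (base n)) (n ≫ κ) (𝟙 Y'.1) (by
    rw [t.base_map, base_comp, hκ, Category.comp_id]; exact Category.id_comp _)
  have hκ' : base κ' = 𝟙 Y'.1 := base_fac _ _ _ _
  have hκ'2 : κ' ≫ t.map hY' hY (base n) = n ≫ κ := fac_comp _ _ _ _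
  have hk : ∀ w : Y.1 ⟶ A₁, n ≫ κ ≫ can t P₁ ε Y.1 hY w = κ' ≫ can t P₁ ε Y'.1 hY' (base n ≫ w) := by
    intro w
    rw [← Category.assoc, ← hκ'2, Category.assoc, map_can]
  have e1 : trQ t P₁ ε hε hY m v = κ ≫ can t P₁ ε Y.1 hY v := by
    conv_lhs => rw [← hm]
    exact trQ_eq t P₁ ε hε hY κ hκ _ _
  have e2 : n ≫ m = κ' ≫ can t P₁ ε Y'.1 hY' (base n ≫ base m) := by
    conv_lhs => rw [← hm]
    exact hk _
  rw [e1, e2, trQ_eq t P₁ ε hε hY' κ' hκ', hk]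

include hε in
/-- Extension of a section over `Q` to all of `B`. -/
theorem exists_extension (hQ : ∀ {A' A : B}, (A' ⟶ A) → Q A → Q A')
    {A₂ : B} {p₁ p₂ : A₂ ⟶ A₁} (hA₂ : ∀ {A : B} (u v : A ⟶ A₁), ∃! w : A ⟶ A₂, w ≫ p₁ = u ∧ w ≫ p₂ = v)
    (P₂ : QPart Q A₂) (hfull₂ : FullAt L P₂)
    {A₃ : B} {q₁ q₂ q₃ : A₃ ⟶ A₁}
    (hA₃ : ∀ {A : B} (u v w : A ⟶ A₁), ∃ r : A ⟶ A₃, r ≫ q₁ = u ∧ r ≫ q₂ = v ∧ r ≫ q₃ = w)
    (P₃ : QPart Q A₃) (hfaith₃ : FaithfulAt L P₃)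
    (hMG : ∀ X : Sigma L, MG (fun A => Nonempty (A ⟶ A₁)) X) (hOG : OG L (fun A => Nonempty (A ⟶ A₁))) :
    ∃ S : Sec L (fun _ => True), Nonempty (Mor t S Q (fun _ h => h) (fun _ _ => trivial)) := by
  obtain ⟨l₂, e₁, he₁⟩ := Disp.lift p₁ l₁
  obtain ⟨k, ι₂, hι₂⟩ := Disp.lift P₂.ι l₂
  obtain ⟨e₂, he₂, hι₂e₂⟩ := hfull₂.ex l₂ ⟨A₁, l₁⟩ p₂ k ι₂ hι₂
    (trQ t P₁ ε hε (Y := ⟨P₂.obj, k⟩) P₂.hobj (ι₂ ≫ e₁) (P₂.ι ≫ p₂)) (base_trQ _ _ _ _ _ _ _)
  choose w hw1 hwu using @hA₂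
  -- the transport
  let tr : ∀ {Y : Sigma L} (_ : Y ⟶ (⟨A₁, l₁⟩ : Sigma L)) (_ : Y.1 ⟶ A₁), Y ⟶ (⟨A₁, l₁⟩ : Sigma L) :=
    fun {Y} m v => fac e₁ m (w (base m) v) (by rw [he₁]; exact (hw1 _ _).1) ≫ e₂
  have htr : ∀ {Y : Sigma L} (m : Y ⟶ (⟨A₁, l₁⟩ : Sigma L)) (v : Y.1 ⟶ A₁) (r : Y ⟶ ⟨A₂, l₂⟩), r ≫ e₁ = m →
      base r ≫ p₂ = v → tr m v = r ≫ e₂ := by
    intro Y m v r h1 h2
    have hbr : base r = w (base m) v := by
      apply hwu
      refine ⟨?_, h2⟩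
      rw [← he₁, ← base_comp, h1]
    change fac e₁ m (w (base m) v) _ ≫ e₂ = r ≫ e₂
    congr 1
    apply cancel e₁
    · rw [base_fac, hbr]
    · rw [fac_comp, h1]
  have hbase : ∀ {Y : Sigma L} (m : Y ⟶ (⟨A₁, l₁⟩ : Sigma L)) (v : Y.1 ⟶ A₁), base (tr m v) = v := by
    intro Y m v
    change base (fac e₁ m (w (base m) v) _ ≫ e₂) = v
    rw [base_comp, base_fac, he₂]
    exact (hw1 _ _).2
  have hex : ∀ {Y : Sigma L} (m : Y ⟶ (⟨A₁, l₁⟩ : Sigma L)) (v : Y.1 ⟶ A₁), ∃ r : Y ⟶ (⟨A₂, l₂⟩ : Sigma L),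
      r ≫ e₁ = m ∧ base r = w (base m) v := fun {Y} m v =>
    ⟨fac e₁ m (w (base m) v) (by rw [he₁]; exact (hw1 _ _).1), fac_comp _ _ _ _, base_fac _ _ _ _⟩
  have hnat : ∀ {Y' Y : Sigma L} (n : Y' ⟶ Y) (m : Y ⟶ (⟨A₁, l₁⟩ : Sigma L)) (v : Y.1 ⟶ A₁),
      tr (n ≫ m) (base n ≫ v) = n ≫ tr m v := by
    intro Y' Y n m v
    obtain ⟨r, hr1, hr2⟩ := hex m v
    rw [htr m v r hr1 (by rw [hr2]; exact (hw1 _ _).2), htr (n ≫ m) (base n ≫ v) (n ≫ r) (by rw [Category.assoc, hr1])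
      (by rw [base_comp, Category.assoc, hr2, (hw1 _ _).2]), Category.assoc]
  have htrQ : ∀ {Y : Sigma L} (hY : Q Y.1) (m : Y ⟶ (⟨A₁, l₁⟩ : Sigma L)) (v : Y.1 ⟶ A₁),
      tr m v = trQ t P₁ ε hε hY m v := by
    intro Y hY m v
    obtain ⟨r, hr1, hr2⟩ := hex m v
    rw [htr m v r hr1 (by rw [hr2]; exact (hw1 _ _).2)]
    obtain ⟨ψ, hψ, -⟩ := P₂.fac hY (base r)
    have hψ' : ψ ≫ base ι₂ = base r := by rw [hι₂, hψ]
    have h1 : fac ι₂ r ψ hψ' ≫ ι₂ = r := fac_comp _ _ _ _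
    have h2 := trQ_nat t P₁ ε hε (Y' := Y) (Y := ⟨P₂.obj, k⟩) hY P₂.hobj (fac ι₂ r ψ hψ') (ι₂ ≫ e₁) (P₂.ι ≫ p₂)
    rw [← h1, Category.assoc, hι₂e₂, ← h2, ← Category.assoc, h1, hr1, base_fac, ← Category.assoc, hψ, hr2,
      (hw1 _ _).2]
  have htrtr : ∀ {Y : Sigma L} (m : Y ⟶ (⟨A₁, l₁⟩ : Sigma L)) (v x : Y.1 ⟶ A₁), tr (tr m v) x = tr m x := by
    intro Y m v x
    obtain ⟨l₃, f₁, hf₁⟩ := Disp.lift q₁ l₁
    obtain ⟨k₃, ι₃, hι₃⟩ := Disp.lift P₃.ι l₃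
    have key : tr (tr f₁ q₂) q₃ = tr f₁ q₃ := by
      apply hfaith₃.eq hι₃
      · rw [hbase, hbase]
      · rw [← hnat, ← hnat, ← hnat, htrQ P₃.hobj, htrQ P₃.hobj, htrQ P₃.hobj, trQ_trQ]
    obtain ⟨r, hr1, hr2, hr3⟩ := hA₃ (base m) v x
    have hrm : r ≫ base f₁ = base m := by rw [hf₁, hr1]
    have h1 : fac f₁ m r hrm ≫ f₁ = m := fac_comp _ _ _ _
    have hb : base (fac f₁ m r hrm) = r := base_fac _ _ _ _
    have e1 : tr m v = fac f₁ m r hrm ≫ tr f₁ q₂ := by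
      rw [← hnat, h1, hb, hr2]
    have e2 : tr m x = fac f₁ m r hrm ≫ tr f₁ q₃ := by
      rw [← hnat, h1, hb, hr3]
    have e3 : tr (fac f₁ m r hrm ≫ tr f₁ q₂) x = fac f₁ m r hrm ≫ tr (tr f₁ q₂) q₃ := by
      have h := hnat (fac f₁ m r hrm) (tr f₁ q₂) q₃
      rw [hb, hr3] at h
      exact h
    rw [e1, e3, key, ← e2]
  let T : Transp (⟨A₁, l₁⟩ : Sigma L) :=
    { tr := tr
      base_tr := hbase
      tr_tr := htrtr
      tr_nat := hnat
      tr_base := fun {Y} m => by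
        have hwp := hw1 (base m) (base m)
        let r : Y ⟶ (⟨A₂, l₂⟩ : Sigma L) := fac e₂ m (w (base m) (base m)) (by rw [he₂]; exact hwp.2)
        have hbr : base r = w (base m) (base m) := base_fac _ _ _ _
        have h1 : tr (r ≫ e₁) (base m) = m := by
          rw [htr (r ≫ e₁) (base m) r rfl (by rw [hbr, hwp.2])]
          exact fac_comp _ _ _ _
        calc tr m (base m) = tr (tr (r ≫ e₁) (base m)) (base m) := by rw [h1]
          _ = tr (r ≫ e₁) (base m) := htrtr _ _ _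
          _ = m := h1 }
  obtain ⟨S, σ, hσ1, hσ2, hσ3⟩ := exists_sec_of_transp T hMG hOG
  -- the comparison with `t` on the objects of `Q` having an arrow to `A₁`
  let μ : ∀ (A : B) (hA : Q A) (u : A ⟶ A₁), t.pt A hA ⟶ S.pt A trivial := fun A hA u =>
    fac (σ u) (can t P₁ ε A hA u) (𝟙 A) (by rw [hσ1, base_can t P₁ ε hε]; exact Category.id_comp _)
  have hμb : ∀ (A : B) (hA : Q A) (u : A ⟶ A₁), base (μ A hA u) = 𝟙 A := fun A hA u => base_fac _ _ _ _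
  have hμ : ∀ (A : B) (hA : Q A) (u v : A ⟶ A₁), μ A hA u ≫ σ v = can t P₁ ε A hA v := by
    intro A hA u v
    have h1 : μ A hA u ≫ σ u = can t P₁ ε A hA u := fac_comp _ _ _ _
    have h2 := hnat (μ A hA u) (σ u) v
    rw [hμb, h1] at h2
    have h3 : tr (σ u) v = σ v := hσ2 u v
    rw [h3] at h2
    rw [← h2]
    have h4 := htrQ (Y := t.pt A hA) hA (can t P₁ ε A hA u) v
    have h5 := trQ_eq t P₁ ε hε (Y := t.pt A hA) hA (𝟙 _) (base_id _) u v
    simp only [Category.id_comp] at h5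
    have h6 : (𝟙 A ≫ v) = v := Category.id_comp _
    change tr (can t P₁ ε A hA u) (𝟙 A ≫ v) = _
    rw [h6]
    exact h4.trans h5
  have hμu : ∀ (A : B) (hA : Q A) (u v : A ⟶ A₁), μ A hA u = μ A hA v := by
    intro A hA u v
    apply cancel (σ v)
    · rw [hμb, hμb]
    · rw [hμ, hμ]
  let S' : Sec L Q := S.res (fun _ _ => trivial)
  let τ : Mor t S' (fun A => Nonempty (A ⟶ A₁) ∧ Q A) (fun _ h => h.2) (fun _ h => h.2) :=
    { app := fun A hA => μ A hA.2 hA.1.some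
      base_app := fun A hA => hμb _ _ _
      nat := fun {A' A} hA' hA φ => by
        change t.map hA'.2 hA.2 φ ≫ μ A hA.2 hA.1.some = μ A' hA'.2 hA'.1.some ≫ S.map trivial trivial φ
        apply cancel (σ hA.1.some)
        · simp only [base_comp, hμb, t.base_map, S.base_map, Category.id_comp, Category.comp_id]
        · rw [Category.assoc, Category.assoc, hμ, map_can, hσ3, hμ] }
  obtain ⟨T', -, -⟩ := existsUnique_extend_hom (D := fun A => Nonempty (A ⟶ A₁)) (E := Q) hQ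
    (fun X _ => hMG X) t S' τ
  exact ⟨S, ⟨⟨fun A hA => T'.app A hA, fun A hA => T'.base_app A hA, fun hA' hA φ => T'.nat hA' hA φ⟩⟩⟩

omit t in
/-- Unique extension of morphisms of sections from `Q` to all of `B`. -/
theorem existsUnique_hom_extension (P₁ : QPart Q A₁) (hQ : ∀ {A' A : B}, (A' ⟶ A) → Q A → Q A')
    (hfull₁ : FullAt L P₁) (hfaith₁ : FaithfulAt L P₁)
    {A₂ : B} {p₁ p₂ : A₂ ⟶ A₁} (hA₂ : ∀ {A : B} (u v : A ⟶ A₁), ∃ w : A ⟶ A₂, w ≫ p₁ = u ∧ w ≫ p₂ = v)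
    (P₂ : QPart Q A₂) (hfaith₂ : FaithfulAt L P₂)
    (hMG : ∀ X : Sigma L, MG (fun A => Nonempty (A ⟶ A₁)) X) (S S' : Sec L (fun _ => True))
    (τ : Mor S S' Q (fun _ _ => trivial) (fun _ _ => trivial)) :
    ∃! T : SecHom S S', ∀ A (hA : Q A), T.app A trivial = τ.app A hA := by
  obtain ⟨G₁, hG₁b, hG₁⟩ := hfull₁.ex (S.ob A₁ trivial) (S'.pt A₁ trivial) (𝟙 A₁) (S.ob P₁.obj trivial)
    (S.map trivial trivial P₁.ι) (S.base_map _ _ _) (τ.app P₁.obj P₁.hobj ≫ S'.map trivial trivial P₁.ι)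
    (by rw [base_comp, τ.base_app, S'.base_map, Category.comp_id]; exact Category.id_comp _)
  let G : ∀ (A : B) (u : A ⟶ A₁), S.pt A trivial ⟶ S'.pt A trivial := fun A u =>
    fac (S'.map trivial trivial u) (S.map trivial trivial u ≫ G₁) (𝟙 A) (by
      rw [S'.base_map, base_comp, S.base_map, hG₁b, Category.comp_id]; exact Category.id_comp _)
  have hGb : ∀ (A : B) (u : A ⟶ A₁), base (G A u) = 𝟙 A := fun A u => base_fac _ _ _ _
  have hG : ∀ (A : B) (u : A ⟶ A₁), G A u ≫ S'.map trivial trivial u = S.map trivial trivial u ≫ G₁ :=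
    fun A u => fac_comp _ _ _ _
  have hGnat : ∀ {A' A : B} (φ : A' ⟶ A) (u : A ⟶ A₁),
      S.map trivial trivial φ ≫ G A u = G A' (φ ≫ u) ≫ S'.map trivial trivial φ := by
    intro A' A φ u
    apply cancel (S'.map trivial trivial u)
    · simp only [base_comp, hGb, S.base_map, S'.base_map, Category.id_comp, Category.comp_id]
    · rw [Category.assoc, hG, Category.assoc, ← S'.map_comp, hG, S.map_comp trivial trivial trivial, Category.assoc]
  have hGQ : ∀ (A : B) (hA : Q A) (u : A ⟶ A₁), G A u = τ.app A hA := by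
    intro A hA u
    apply cancel (S'.map trivial trivial u)
    · rw [hGb, τ.base_app]
    · rw [hG]
      obtain ⟨ψ, hψ, -⟩ := P₁.fac hA u
      have h1 := τ.nat hA P₁.hobj ψ
      rw [← hψ, S.map_comp trivial trivial trivial, S'.map_comp trivial trivial trivial, Category.assoc, hG₁,
        ← Category.assoc, h1, Category.assoc]
  have hGu : ∀ (A : B) (u v : A ⟶ A₁), G A u = G A v := by
    intro A u v
    have key : G A₂ p₁ = G A₂ p₂ := by
      apply hfaith₂.eq (l := S.ob A₂ trivial) (k := S.ob P₂.obj trivial) (m := S.map trivial trivial P₂.ι)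
        (S.base_map _ _ _)
      · rw [hGb, hGb]
      · rw [hGnat, hGnat, hGQ _ P₂.hobj, hGQ _ P₂.hobj]
    obtain ⟨w, hw1, hw2⟩ := hA₂ u v
    apply cancel (S'.map trivial trivial w)
    · rw [hGb, hGb]
    · rw [← hw1, ← hw2, ← hGnat, ← hGnat, key]
  let τ' : Mor S S' (fun A => Nonempty (A ⟶ A₁) ∧ True) (fun _ h => h.2) (fun _ h => h.2) :=
    { app := fun A hA => G A hA.1.some
      base_app := fun A hA => hGb _ _
      nat := fun {A' A} hA' hA φ => by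
        change S.map trivial trivial φ ≫ G A _ = G A' _ ≫ S'.map trivial trivial φ
        rw [hGnat, hGu A' _ hA'.1.some] }
  obtain ⟨T, hT, hTu⟩ := existsUnique_extend_hom (D := fun A => Nonempty (A ⟶ A₁)) (E := fun _ => True)
    (fun _ _ => trivial) (fun X _ => hMG X) S S' τ'
  refine ⟨T, ?_, ?_⟩
  · intro A hA
    apply (hMG (S.pt A trivial)).hom_ext
    · rw [T.base_app, τ.base_app]
    · intro W m hW
      have hQW : Q W.1 := hQ (base m) hA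
      have h1 := T.nat trivial trivial (base m)
      have h2 := τ.nat hQW hA (base m)
      have h3 : T.app W.1 trivial = τ.app W.1 hQW := by
        rw [hT W.1 ⟨hW, trivial⟩]
        exact hGQ _ _ _
      have h4 := lam_comp (s := S) (hA := trivial) m trivial
      have h1' : S.map trivial trivial (base m) ≫ T.app A trivial = τ.app W.1 hQW ≫ S'.map trivial trivial (base m) := by
        rw [← h3]; exact h1
      have h2' : S.map trivial trivial (base m) ≫ τ.app A hA = τ.app W.1 hQW ≫ S'.map trivial trivial (base m) := h2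
      rw [← h4, Category.assoc, Category.assoc, h1', h2']
  · intro T' hT'
    apply hTu
    intro A hA
    have h₁ : T'.app A₁ trivial = G₁ := by
      apply hfaith₁.eq (l := S.ob A₁ trivial) (k := S.ob P₁.obj trivial) (m := S.map trivial trivial P₁.ι)
        (S.base_map _ _ _)
      · rw [T'.base_app, hG₁b]
      · rw [T'.nat, hG₁, hT' _ P₁.hobj]
    apply cancel (S'.map trivial trivial hA.1.some)
    · rw [T'.base_app]; exact (hGb _ _).symm
    · change _ = G A hA.1.some ≫ _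
      rw [hG, ← T'.nat, h₁]

end Extension

end K942.Disp
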