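import Mathlib.RingTheory.Flat.Equalizer
import Mathlib.RingTheory.IsTensorProduct
import Mathlib.LinearAlgebra.Matrix.ToLin
import Mathlib.RingTheory.TensorProduct.IsBaseChangePi

/-!
# Equivariant vectors of functions and flat base change

`eqv act pr g`: the vectors `v` of elements of `C` with `act v = g · pr v`.  If `B` is flat over `A` and
the base change to `B` is trivialised, then `eqv` base changed to `B` is `Bⁿ`.
-/

set_option autoImplicit false

universe u

open TensorProduct

namespace K942.EqAlg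

variable {A B : Type u} [CommRing A] [CommRing B] [Algebra A B]

section locus

variable {N N' NB NB' E : Type u} [AddCommGroup N] [Module A N] [AddCommGroup N'] [Module A N']
  [AddCommGroup NB] [Module A NB] [Module B NB] [IsScalarTower A B NB]
  [AddCommGroup NB'] [Module A NB'] [Module B NB'] [IsScalarTower A B NB']
  [AddCommGroup E] [Module A E] [Module B E] [IsScalarTower A B E]

theorem equiv_baseChange {ν : N →ₗ[A] NB} (hν : IsBaseChange B ν) {ν' : N' →ₗ[A] NB'}
    (hν' : IsBaseChange B ν') (u : N →ₗ[A] N') (U : NB →ₗ[B] NB') (h : ∀ x, U (ν x) = ν' (u x))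
    (z : B ⊗[A] N) : hν'.equiv (LinearMap.lTensor B u z) = U (hν.equiv z) := by
  induction z using TensorProduct.induction_on with
  | zero => simp
  | tmul b x => rw [LinearMap.lTensor_tmul, hν'.equiv_tmul, hν.equiv_tmul, map_smul, h]
  | add x y hx hy => simp only [map_add, hx, hy]

theorem lTensor_eq (u₁ u₂ : N →ₗ[A] N') (z : B ⊗[A] (LinearMap.eqLocus u₁ u₂)) :
    LinearMap.lTensor B u₁ (LinearMap.lTensor B (LinearMap.eqLocus u₁ u₂).subtype z) =
      LinearMap.lTensor B u₂ (LinearMap.lTensor B (LinearMap.eqLocus u₁ u₂).subtype z) := by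
  induction z using TensorProduct.induction_on with
  | zero => simp
  | tmul b x =>
    simp only [LinearMap.lTensor_tmul, Submodule.subtype_apply]
    rw [show u₁ (x : N) = u₂ (x : N) from x.2]
  | add x y hx hy => simp only [map_add, hx, hy]

theorem isBaseChange_eqLocus [Module.Flat A B] {u₁ u₂ : N →ₗ[A] N'} {ν : N →ₗ[A] NB}
    (hν : IsBaseChange B ν) {ν' : N' →ₗ[A] NB'} (hν' : IsBaseChange B ν') {U₁ U₂ : NB →ₗ[B] NB'}
    (h₁ : ∀ x, U₁ (ν x) = ν' (u₁ x)) (h₂ : ∀ x, U₂ (ν x) = ν' (u₂ x)) {e : E →ₗ[B] NB}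
    {ev : NB →ₗ[B] E} (hev : ∀ y, ev (e y) = y) (he : ∀ y, U₁ (e y) = U₂ (e y))
    (he' : ∀ x, U₁ x = U₂ x → e (ev x) = x) :
    IsBaseChange B ((ev.restrictScalars A) ∘ₗ ν ∘ₗ (LinearMap.eqLocus u₁ u₂).subtype) := by
  let L : B ⊗[A] (LinearMap.eqLocus u₁ u₂) →ₗ[B] E :=
    ev ∘ₗ hν.equiv.toLinearMap ∘ₗ
      (TensorProduct.AlgebraTensorModule.lTensor B B (LinearMap.eqLocus u₁ u₂).subtype)
  have hL : ∀ z, L z = ev (hν.equiv (LinearMap.lTensor B (LinearMap.eqLocus u₁ u₂).subtype z)) :=
    fun z => rfl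
  have hU : ∀ z : B ⊗[A] (LinearMap.eqLocus u₁ u₂),
      U₁ (hν.equiv (LinearMap.lTensor B (LinearMap.eqLocus u₁ u₂).subtype z)) =
        U₂ (hν.equiv (LinearMap.lTensor B (LinearMap.eqLocus u₁ u₂).subtype z)) := by
    intro z
    rw [← equiv_baseChange hν hν' u₁ U₁ h₁, ← equiv_baseChange hν hν' u₂ U₂ h₂, lTensor_eq]
  have hbij : Function.Bijective L := by
    constructor
    · rw [injective_iff_map_eq_zero]
      intro z hz
      rw [hL] at hz
      have h1 := he' _ (hU z)
      rw [hz, map_zero] at h1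
      have h2 := hν.equiv.injective (h1.symm.trans (map_zero hν.equiv).symm)
      exact (injective_iff_map_eq_zero _).1
        (Module.Flat.lTensor_preserves_injective_linearMap (M := B)
          (LinearMap.eqLocus u₁ u₂).subtype (LinearMap.eqLocus u₁ u₂).injective_subtype) z h2
    · intro y
      obtain ⟨w, hw⟩ := hν.equiv.surjective (e y)
      have h1 : LinearMap.lTensor B u₁ w = LinearMap.lTensor B u₂ w := by
        apply hν'.equiv.injective
        rw [equiv_baseChange hν hν' u₁ U₁ h₁, equiv_baseChange hν hν' u₂ U₂ h₂, hw, he]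
      have h2 : w ∈ LinearMap.range (TensorProduct.AlgebraTensorModule.lTensor B B
          (LinearMap.eqLocus u₁ u₂).subtype) := by
        rw [← Module.Flat.eqLocus_lTensor_eq (R := A) B B u₁ u₂]
        exact h1
      obtain ⟨z, hz⟩ := h2
      refine ⟨z, ?_⟩
      rw [hL]
      have hz' : LinearMap.lTensor B (LinearMap.eqLocus u₁ u₂).subtype z = w := hz
      rw [hz', hw, hev]
  refine IsBaseChange.of_equiv (LinearEquiv.ofBijective L hbij) (fun x => ?_)
  change L (1 ⊗ₜ[A] x) = _
  rw [hL, LinearMap.lTensor_tmul, hν.equiv_tmul, one_smul]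
  rfl

end locus

section eqv

open Matrix

variable {C C' CB CB' : Type u} [CommRing C] [CommRing C'] [CommRing CB] [CommRing CB'] [Algebra A C]
  [Algebra A C'] [Algebra B CB] [Algebra B CB'] [Algebra A CB] [Algebra A CB'] [IsScalarTower A B CB]
  [IsScalarTower A B CB'] {n : ℕ}

/-- Equivariant vectors. -/
def eqv (act pr : C →ₐ[A] C') (g : Matrix (Fin n) (Fin n) C') : Submodule A (Fin n → C) :=
  LinearMap.eqLocus (act.toLinearMap.compLeft (Fin n))
    ((g.mulVecLin.restrictScalars A) ∘ₗ (pr.toLinearMap.compLeft (Fin n)))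

theorem mem_eqv {act pr : C →ₐ[A] C'} {g : Matrix (Fin n) (Fin n) C'} {v : Fin n → C} :
    v ∈ eqv act pr g ↔ (fun i => act (v i)) = g *ᵥ (fun i => pr (v i)) := Iff.rfl

theorem mem_eqv_of_smul {act pr : C →ₐ[A] C'} {g : Matrix (Fin n) (Fin n) C'} {a : A}
    (ha : ∀ c : C', a • c = 0 → c = 0) {v : Fin n → C} (h : a • v ∈ eqv act pr g) : v ∈ eqv act pr g := by
  have h1 : (act.toLinearMap.compLeft (Fin n)) (a • v) =
    ((g.mulVecLin.restrictScalars A) ∘ₗ (pr.toLinearMap.compLeft (Fin n))) (a • v) := h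
  rw [map_smul, map_smul, ← sub_eq_zero, ← smul_sub] at h1
  change (act.toLinearMap.compLeft (Fin n)) v =
    ((g.mulVecLin.restrictScalars A) ∘ₗ (pr.toLinearMap.compLeft (Fin n))) v
  rw [← sub_eq_zero]
  funext j
  exact ha _ (congrFun h1 j)

theorem map_mulVec' {R R' : Type*} [CommRing R] [CommRing R'] (f : R →+* R')
    (M : Matrix (Fin n) (Fin n) R) (v : Fin n → R) :
    (fun i => f ((M *ᵥ v) i)) = (M.map f) *ᵥ (fun i => f (v i)) := by
  ext i
  simp only [Matrix.mulVec, dotProduct, map_sum, map_mul, Matrix.map_apply]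

theorem isBaseChange_eqv [Module.Flat A B] {act pr : C →ₐ[A] C'} {g : Matrix (Fin n) (Fin n) C'}
    {β : C →ₐ[A] CB} (hβ : IsBaseChange B β.toLinearMap) {β' : C' →ₐ[A] CB'}
    (hβ' : IsBaseChange B β'.toLinearMap) {actB prB : CB →ₐ[B] CB'}
    (h1 : ∀ c, actB (β c) = β' (act c)) (h2 : ∀ c, prB (β c) = β' (pr c)) {σ : CB →ₐ[B] B}
    {gB : Matrix (Fin n) (Fin n) CB} (hσ : gB.map σ = 1)
    (hm : gB.map actB = (g.map β') * (gB.map prB)) {τ : CB' →+* CB} (h3 : ∀ c, τ (actB c) = c)
    (h4 : ∀ c, τ (prB c) = algebraMap B CB (σ c)) (h5 : (g.map β').map τ = gB)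
    {f : eqv act pr g →ₗ[A] (Fin n → B)} (hf : ∀ v i, f v i = σ (β (v.1 i))) :
    IsBaseChange B f := by
  have hν := hβ.finitePow (Fin n)
  have hν' := hβ'.finitePow (Fin n)
  let e : (Fin n → B) →ₗ[B] (Fin n → CB) :=
    (gB.mulVecLin.restrictScalars B) ∘ₗ ((Algebra.linearMap B CB).compLeft (Fin n))
  have heq : ∀ y, e y = gB *ᵥ (fun i => algebraMap B CB (y i)) := fun y => rfl
  let ev : (Fin n → CB) →ₗ[B] (Fin n → B) := σ.toLinearMap.compLeft (Fin n)
  have hevq : ∀ x, ev x = fun i => σ (x i) := fun x => rfl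
  let U₁ : (Fin n → CB) →ₗ[B] (Fin n → CB') := actB.toLinearMap.compLeft (Fin n)
  have hU₁ : ∀ x, U₁ x = fun i => actB (x i) := fun x => rfl
  let U₂ : (Fin n → CB) →ₗ[B] (Fin n → CB') :=
    ((g.map β').mulVecLin.restrictScalars B) ∘ₗ (prB.toLinearMap.compLeft (Fin n))
  have hU₂ : ∀ x, U₂ x = (g.map β') *ᵥ (fun i => prB (x i)) := fun x => rfl
  have key := isBaseChange_eqLocus (u₁ := act.toLinearMap.compLeft (Fin n))
    (u₂ := (g.mulVecLin.restrictScalars A) ∘ₗ (pr.toLinearMap.compLeft (Fin n))) hν hν' (U₁ := U₁) (U₂ := U₂)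
    (fun x => by
      funext i
      exact h1 (x i))
    (fun x => by
      have e1 := map_mulVec' β'.toRingHom g (fun i => pr (x i))
      have e2 : U₂ ((β.toLinearMap.compLeft (Fin n)) x) = (g.map β') *ᵥ (fun i => β' (pr (x i))) := by
        rw [hU₂]
        congr 1
        funext i
        exact h2 (x i)
      rw [e2]
      exact e1.symm)
    (e := e) (ev := ev)
    (fun y => by
      rw [hevq, heq]
      have e1 := map_mulVec' σ.toRingHom gB (fun i => algebraMap B CB (y i))
      have e2 : (gB.map σ) *ᵥ (fun i => σ (algebraMap B CB (y i))) = y := by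
        rw [hσ, one_mulVec]
        funext i
        exact σ.commutes (y i)
      exact e1.trans e2)
    (fun y => by
      rw [hU₁, hU₂, heq]
      have e1 := map_mulVec' actB.toRingHom gB (fun i => algebraMap B CB (y i))
      have e2 := map_mulVec' prB.toRingHom gB (fun i => algebraMap B CB (y i))
      have e3 : (fun i => prB ((gB *ᵥ fun i => algebraMap B CB (y i)) i)) =
        (gB.map prB) *ᵥ (fun i => algebraMap B CB' (y i)) := by
        refine e2.trans ?_
        congr 1
        funext i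
        exact prB.commutes (y i)
      rw [e3, mulVec_mulVec, ← hm]
      refine e1.trans ?_
      congr 1
      funext i
      exact actB.commutes (y i))
    (fun x hx => by
      rw [hU₁, hU₂] at hx
      rw [heq, hevq]
      have e1 := map_mulVec' τ (g.map β') (fun i => prB (x i))
      rw [h5] at e1
      have e2 : (fun i => τ (((g.map β') *ᵥ fun i => prB (x i)) i)) = x := by
        rw [← hx]
        funext i
        exact h3 (x i)
      refine Eq.trans ?_ (e1.symm.trans e2)
      congr 1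
      funext i
      exact (h4 _).symm)
  have hff : f = (ev.restrictScalars A) ∘ₗ (β.toLinearMap.compLeft (Fin n)) ∘ₗ (eqv act pr g).subtype := by
    ext v i
    exact hf v i
  rw [hff]
  exact key

end eqv

end K942.EqAlg
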