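import Groth.Agent.ThetaS.K942.RegPair
import Groth.Agent.S3822
import Groth.Agent.Sga3.H805.FlatHartogs
import Mathlib.RingTheory.Filtration
import Mathlib.LinearAlgebra.FreeModule.PID

/-!
# Modules that are projective off `V(a, b)` and satisfy Hartogs are free near `V(a)`

`A` a noetherian domain, `(a, b)` a regular pair with `A/a` a principal ideal domain, `M` an
`A`-module on which `(a, b)` is regular, with `M_a`, `M_b` finite projective. Then there are
`e_1, …, e_r ∈ M` linearly independent and `h ≡ 1 mod a` with `h M ⊆ span (e_i)`.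
-/

set_option autoImplicit false

universe u

open TensorProduct

namespace K942.ExtAlg

open K942.RegPair

variable {A : Type u} [CommRing A] {M : Type u} [AddCommGroup M] [Module A M]

theorem smul_pow_zero {a : A} (h1 : ∀ u : M, a • u = 0 → u = 0) (n : ℕ) :
    ∀ u : M, a ^ n • u = 0 → u = 0 := by
  induction n with
  | zero => intro u hu; simpa using hu
  | succ n ih =>
    intro u hu
    rw [pow_succ, mul_smul] at hu
    exact h1 u (ih _ hu)

/-- powers of `b` modulo `a` -/
theorem smul_pow_mod {a b : A} (h2 : ∀ u w : M, b • u = a • w → ∃ v, u = a • v) (m : ℕ) :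
    ∀ u w : M, b ^ m • u = a • w → ∃ v, u = a • v := by
  induction m with
  | zero => intro u w h; exact ⟨w, by simpa using h⟩
  | succ m ih =>
    intro u w h
    rw [pow_succ', mul_smul] at h
    obtain ⟨v, hv⟩ := h2 _ _ h
    exact ih u v hv

/-- A finite set of elements of `M` generating `M_b`. -/
theorem exists_fg {b : A} (Ab : Type u) [CommRing Ab] [Algebra A Ab] [IsLocalization.Away b Ab]
    [Module.Finite Ab (Ab ⊗[A] M)] :
    ∃ M0 : Submodule A M, M0.FG ∧ ∀ u : M, ∃ k : ℕ, b ^ k • u ∈ M0 := by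
  have hl : IsLocalizedModule (Submonoid.powers b) (TensorProduct.mk A Ab M 1) :=
    (isLocalizedModule_iff_isBaseChange (Submonoid.powers b) Ab _).2 (TensorProduct.isBaseChange A M Ab)
  obtain ⟨n, s, hs⟩ := Module.Finite.exists_fin (R := Ab) (M := Ab ⊗[A] M)
  choose m hm using fun i => IsLocalizedModule.surj (Submonoid.powers b) (TensorProduct.mk A Ab M 1) (s i)
  refine ⟨Submodule.span A (Set.range fun i => (m i).1), Submodule.fg_span (Set.finite_range _), ?_⟩
  intro u
  -- `1 ⊗ u` is a combination of the `s i`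
  have h1 : (TensorProduct.mk A Ab M 1 u) ∈ Submodule.span Ab (Set.range s) := by rw [hs]; trivial
  -- the set of elements which up to a power of `b` come from `M0`
  have key : ∀ x ∈ Submodule.span Ab (Set.range s), ∃ k : ℕ, ∃ y ∈ Submodule.span A (Set.range fun i => (m i).1),
      b ^ k • x = TensorProduct.mk A Ab M 1 y := by
    intro x hx
    induction hx using Submodule.span_induction with
    | mem x hx =>
      obtain ⟨i, rfl⟩ := hx
      obtain ⟨k, hk⟩ := (m i).2.2
      refine ⟨k, (m i).1, Submodule.subset_span ⟨i, rfl⟩, ?_⟩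
      have hk' : b ^ k = ((m i).2 : A) := hk
      rw [← hm i, Submonoid.smul_def, hk']
    | zero => exact ⟨0, 0, zero_mem _, by simp⟩
    | add x y _ _ hx hy =>
      obtain ⟨k, x', hx', ex⟩ := hx
      obtain ⟨l, y', hy', ey⟩ := hy
      refine ⟨k + l, b ^ l • x' + b ^ k • y', add_mem (Submodule.smul_mem _ _ hx') (Submodule.smul_mem _ _ hy'), ?_⟩
      rw [map_add, map_smul, map_smul, ← ex, ← ey, smul_add, smul_smul, smul_smul, pow_add, mul_comm (b ^ l)]
    | smul c x _ hx =>
      obtain ⟨k, x', hx', ex⟩ := hx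
      obtain ⟨⟨c', t, l, rfl⟩, hc⟩ := IsLocalization.surj (Submonoid.powers b) c
      refine ⟨l + k, c' • x', Submodule.smul_mem _ _ hx', ?_⟩
      rw [map_smul, ← ex]
      have hc2 : (b ^ l : A) • c = algebraMap A Ab c' := by
        rw [Algebra.smul_def, mul_comm]; exact hc
      rw [← algebraMap_smul Ab (b ^ (l + k)) (c • x), ← algebraMap_smul Ab c' (b ^ k • x), ← hc2,
        ← algebraMap_smul Ab (b ^ k) x, smul_smul, smul_smul, pow_add, map_mul, Algebra.smul_def]
      ring_nf
  obtain ⟨k, y, hy, e⟩ := key _ h1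
  rw [← map_smul] at e
  obtain ⟨⟨_, l, rfl⟩, hl2⟩ := (IsLocalizedModule.eq_iff_exists (Submonoid.powers b) (TensorProduct.mk A Ab M 1)).1 e
  refine ⟨l + k, ?_⟩
  rw [pow_add, mul_smul]
  have : b ^ l • b ^ k • u = b ^ l • y := hl2
  rw [this]
  exact Submodule.smul_mem _ _ hy

/-- `M` embeds into a finite free `A`-module. -/
theorem exists_embedding [IsDomain A] {a b : A} (hab : RegPair a b) (h1 : ∀ u : M, a • u = 0 → u = 0)
    (Aa Ab : Type u) [CommRing Aa] [Algebra A Aa] [IsLocalization.Away a Aa]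
    [CommRing Ab] [Algebra A Ab] [IsLocalization.Away b Ab]
    [Module.Finite Aa (Aa ⊗[A] M)] [Module.Projective Aa (Aa ⊗[A] M)] [Module.Finite Ab (Ab ⊗[A] M)] :
    ∃ (r : ℕ) (ψ : M →ₗ[A] (Fin r → A)), Function.Injective ψ := by
  have ha0 : a ≠ 0 := by
    rintro rfl
    exact one_ne_zero (hab.nzd 1 (by simp))
  have hl : IsLocalizedModule (Submonoid.powers a) (TensorProduct.mk A Aa M 1) :=
    (isLocalizedModule_iff_isBaseChange (Submonoid.powers a) Aa _).2 (TensorProduct.isBaseChange A M Aa)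
  -- the embedding over `Aa`
  obtain ⟨r, π, hπ⟩ := Module.Finite.exists_fin' Aa (Aa ⊗[A] M)
  obtain ⟨j, hj⟩ := Module.projective_lifting_property π LinearMap.id hπ
  have hjinj : Function.Injective j := fun x y hxy => by
    have := congrArg π hxy
    have e : ∀ z, π (j z) = z := fun z => LinearMap.congr_fun hj z
    rwa [e, e] at this
  let φ : M →ₗ[A] (Fin r → Aa) := (j.restrictScalars A) ∘ₗ (TensorProduct.mk A Aa M 1)
  have hφ : Function.Injective φ := by
    rw [injective_iff_map_eq_zero]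
    intro u hu
    have h2 : TensorProduct.mk A Aa M 1 u = TensorProduct.mk A Aa M 1 0 := by
      rw [map_zero]
      apply hjinj
      rw [map_zero]
      exact hu
    obtain ⟨⟨_, n, rfl⟩, hn⟩ := (IsLocalizedModule.eq_iff_exists (Submonoid.powers a) (TensorProduct.mk A Aa M 1)).1 h2
    have hn' : a ^ n • u = a ^ n • (0 : M) := hn
    exact smul_pow_zero h1 n u (by rw [hn', smul_zero])
  -- bounded denominators
  obtain ⟨M0, hfg, hM0⟩ := exists_fg (M := M) (b := b) Ab
  have hden : ∀ N : Submodule A M, N.FG → ∃ n : ℕ, ∀ u ∈ N, ∀ i, ∃ c : A, a ^ n • φ u i = algebraMap A Aa c := by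
    intro N hN
    induction N, hN using Submodule.fg_induction with
    | singleton x =>
      have h3 : ∀ i, ∃ n : ℕ, ∃ c : A, a ^ n • φ x i = algebraMap A Aa c := by
        intro i
        obtain ⟨⟨c, _, n, rfl⟩, hc⟩ := IsLocalization.surj (Submonoid.powers a) (φ x i)
        exact ⟨n, c, by rw [Algebra.smul_def, mul_comm]; exact hc⟩
      choose n c hc using h3
      refine ⟨∑ i, n i, fun u hu i => ?_⟩
      obtain ⟨d, rfl⟩ := Submodule.mem_span_singleton.1 hu
      obtain ⟨m, hm⟩ : ∃ m, ∑ i, n i = m + n i :=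
        ⟨∑ j ∈ Finset.univ.erase i, n j, (Finset.sum_erase_add _ _ (Finset.mem_univ i)).symm⟩
      refine ⟨a ^ m * d * c i, ?_⟩
      rw [hm, map_smul, Pi.smul_apply, pow_add, mul_smul, smul_comm (a ^ n i) d, hc i, map_mul,
        ← Algebra.smul_def, mul_smul]
    | sup N₁ N₂ _ _ h1 h2 =>
      obtain ⟨n₁, h1⟩ := h1
      obtain ⟨n₂, h2⟩ := h2
      refine ⟨n₁ + n₂, fun u hu i => ?_⟩
      obtain ⟨u₁, hu₁, u₂, hu₂, rfl⟩ := Submodule.mem_sup.1 hu
      obtain ⟨c₁, hc₁⟩ := h1 u₁ hu₁ i
      obtain ⟨c₂, hc₂⟩ := h2 u₂ hu₂ i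
      refine ⟨a ^ n₂ * c₁ + a ^ n₁ * c₂, ?_⟩
      have e0 : algebraMap A Aa (a ^ n₂ * c₁ + a ^ n₁ * c₂) =
          a ^ n₂ • (a ^ n₁ • φ u₁ i) + a ^ n₁ • (a ^ n₂ • φ u₂ i) := by
        rw [map_add, map_mul, map_mul, ← hc₁, ← hc₂]
        simp only [Algebra.smul_def]
      rw [e0, map_add, Pi.add_apply, smul_add, smul_smul, smul_smul, ← pow_add, ← pow_add, add_comm n₂ n₁]
  obtain ⟨n, hn⟩ := hden M0 hfg
  have hinjA : Function.Injective (algebraMap A Aa) :=
    IsLocalization.injective Aa (powers_le_nonZeroDivisors_of_noZeroDivisors ha0)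
  -- all of `M` has bounded denominators
  have hall : ∀ (u : M) (i : Fin r), ∃ c : A, algebraMap A Aa c = a ^ n • φ u i := by
    intro u i
    obtain ⟨k, hk⟩ := hM0 u
    obtain ⟨c, hc⟩ := hn _ hk i
    obtain ⟨⟨z, _, m, rfl⟩, hz⟩ := IsLocalization.surj (Submonoid.powers a) (a ^ n • φ u i)
    have hz' : (a ^ n • φ u i) * algebraMap A Aa (a ^ m) = algebraMap A Aa z := hz
    have hc' : algebraMap A Aa (b ^ k) * (a ^ n • φ u i) = algebraMap A Aa c := by
      rw [← hc, map_smul, Pi.smul_apply, smul_comm, Algebra.smul_def (b ^ k)]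
    have h3 : b ^ k * z = a ^ m * c := by
      apply hinjA
      rw [map_mul, map_mul, ← hz', ← hc']
      ring
    obtain ⟨z', rfl⟩ := hab.pow_pow m k z c h3
    refine ⟨z', ?_⟩
    have hu : IsUnit (algebraMap A Aa (a ^ m)) := IsLocalization.map_units Aa (⟨a ^ m, m, rfl⟩ : Submonoid.powers a)
    apply hu.mul_left_cancel
    rw [← map_mul, ← hz', mul_comm]
  choose ψ hψ using hall
  refine ⟨r, { toFun := ψ, map_add' := ?_, map_smul' := ?_ }, ?_⟩
  · intro u v
    funext i
    apply hinjA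
    rw [Pi.add_apply, map_add, hψ, hψ, hψ, map_add, Pi.add_apply, smul_add]
  · intro c u
    funext i
    apply hinjA
    rw [RingHom.id_apply, Pi.smul_apply, smul_eq_mul, map_mul, hψ, hψ, map_smul, Pi.smul_apply,
      ← Algebra.smul_def, smul_comm]
  · intro u v huv
    apply hφ
    funext i
    have h4 := congrArg (algebraMap A Aa) (congrFun huv i)
    change algebraMap A Aa (ψ u i) = algebraMap A Aa (ψ v i) at h4
    rw [hψ, hψ, Algebra.smul_def, Algebra.smul_def] at h4
    exact (IsLocalization.map_units Aa (⟨a ^ n, n, rfl⟩ : Submonoid.powers a)).mul_left_cancel h4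

theorem aux_span {r : ℕ} {a : A} (h1 : ∀ u : M, a • u = 0 → u = 0) (e : Fin r → M) 
    (he : ∀ c : Fin r → A, (∃ w, ∑ i, c i • e i = a • w) → ∀ i, ∃ d, c i = a * d) (c : Fin r → A)
    (hc : ∑ i, c i • e i = 0) (N : ℕ) : ∃ d : Fin r → A, (∀ i, c i = a ^ N * d i) ∧ ∑ i, d i • e i = 0 := by
  induction N with
  | zero => exact ⟨c, by simp, hc⟩
  | succ N ih =>
    obtain ⟨d, hd1, hd2⟩ := ih
    have := he d ⟨0, by rw [hd2, smul_zero]⟩
    choose d' hd' using this
    refine ⟨d', fun i => by rw [hd1, hd', pow_succ]; ring, ?_⟩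
    apply h1
    rw [Finset.smul_sum, ← hd2]
    refine Finset.sum_congr rfl fun i _ => ?_
    rw [smul_smul, ← hd']

/-- The main algebraic statement. -/
theorem exists_free [IsDomain A] [IsNoetherianRing A] {a b : A} (hab : RegPair a b)
    [IsDomain (A ⧸ Ideal.span {a})] [IsPrincipalIdealRing (A ⧸ Ideal.span {a})]
    (h1 : ∀ u : M, a • u = 0 → u = 0) (h2 : ∀ u w : M, b • u = a • w → ∃ v, u = a • v)
    (Aa Ab : Type u) [CommRing Aa] [Algebra A Aa] [IsLocalization.Away a Aa]
    [CommRing Ab] [Algebra A Ab] [IsLocalization.Away b Ab]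
    [Module.Finite Aa (Aa ⊗[A] M)] [Module.Projective Aa (Aa ⊗[A] M)] [Module.Finite Ab (Ab ⊗[A] M)]
    [Module.Projective Ab (Ab ⊗[A] M)] :
    ∃ (r : ℕ) (e : Fin r → M) (h : A), h - 1 ∈ Ideal.span {a} ∧ LinearIndependent A e ∧
      ∀ m : M, h • m ∈ Submodule.span A (Set.range e) := by
  obtain ⟨r₀, ψ, hψ⟩ := exists_embedding hab h1 Aa Ab
  have hfin : Module.Finite A M := Module.Finite.of_injective ψ hψ
  -- `b` is a non zero divisor on `M`
  have hb0 : b ≠ 0 := by
    rintro rfl
    obtain ⟨z, hz⟩ := hab.reg 1 0 (by simp)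
    have hu : Ideal.span {a} = (⊤ : Ideal A) := by
      rw [Ideal.eq_top_iff_one, Ideal.mem_span_singleton]
      exact ⟨z, hz⟩
    exact (Ideal.Quotient.nontrivial_iff.1 (inferInstance : Nontrivial (A ⧸ Ideal.span {a}))) hu
  have hbM : ∀ (c : A) (u : M), c ≠ 0 → c • u = 0 → u = 0 := by
    intro c u hc hu
    apply hψ
    rw [map_zero]
    have := congrArg ψ hu
    rw [map_smul, map_zero] at this
    exact (smul_eq_zero.1 this).resolve_left hc
  -- flatness of `M_b`
  have hl : IsLocalizedModule (Submonoid.powers b) (TensorProduct.mk A Ab M 1) :=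
    (isLocalizedModule_iff_isBaseChange (Submonoid.powers b) Ab _).2 (TensorProduct.isBaseChange A M Ab)
  have hflatAb : Module.Flat A Ab := IsLocalization.flat Ab (Submonoid.powers b)
  have hflat : Module.Flat A (Ab ⊗[A] M) := Module.Flat.trans A Ab _
  -- `M / a M` is torsion free over `A / a`
  have htf : ∀ (c : A) (u w : M), c ∉ Ideal.span {a} → c • u = a • w → ∃ v, u = a • v := by
    intro c u w hc h
    have hreg : ∀ r : A, c * r ∈ Ideal.span {a} → r ∈ Ideal.span {a} := by
      intro r hr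
      have := (Ideal.Quotient.isDomain_iff_prime (Ideal.span {a})).1 inferInstance
      exact (this.mem_or_mem hr).resolve_left hc
    have h3 := congrArg (TensorProduct.mk A Ab M 1) h
    rw [map_smul, map_smul] at h3
    obtain ⟨z, hz⟩ := Groth.Agent.Sga3.H805.FlatHartogs.exists_eq_smul_of_regular (M := Ab ⊗[A] M)
      a c hreg (TensorProduct.mk A Ab M 1 u) (TensorProduct.mk A Ab M 1 w) h3
    obtain ⟨⟨m, _, l, rfl⟩, hm⟩ := IsLocalizedModule.surj (Submonoid.powers b) (TensorProduct.mk A Ab M 1) z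
    have hm' : b ^ l • z = TensorProduct.mk A Ab M 1 m := hm
    have h4 : TensorProduct.mk A Ab M 1 (b ^ l • u) = TensorProduct.mk A Ab M 1 (a • m) := by
      rw [map_smul, hz, smul_comm, hm', map_smul]
    obtain ⟨⟨_, l', rfl⟩, hl'⟩ :=
      (IsLocalizedModule.eq_iff_exists (Submonoid.powers b) (TensorProduct.mk A Ab M 1)).1 h4
    have hl'' : b ^ l' • b ^ l • u = b ^ l' • a • m := hl'
    have h5 : b ^ l • u = a • m := by
      rw [← sub_eq_zero]
      apply hbM (b ^ l') _ (pow_ne_zero _ hb0)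
      rw [smul_sub, hl'', sub_self]
    exact smul_pow_mod h2 l u m h5
  -- the quotient
  have hmem : ∀ x : M, x ∈ (Ideal.span {a} • ⊤ : Submodule A M) ↔ ∃ v, x = a • v := by
    intro x
    rw [Submodule.ideal_span_singleton_smul, Submodule.mem_smul_pointwise_iff_exists]
    constructor
    · rintro ⟨v, -, rfl⟩; exact ⟨v, rfl⟩
    · rintro ⟨v, rfl⟩; exact ⟨v, trivial, rfl⟩
  have hfinQ : Module.Finite (A ⧸ Ideal.span {a}) (M ⧸ (Ideal.span {a} • ⊤ : Submodule A M)) :=
    Module.Finite.of_restrictScalars_finite A _ _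
  have htfQ : Module.IsTorsionFree (A ⧸ Ideal.span {a}) (M ⧸ (Ideal.span {a} • ⊤ : Submodule A M)) := by
    refine ⟨fun c hc x y hxy => ?_⟩
    have hc0 : c ≠ 0 := hc.ne_zero
    obtain ⟨c', rfl⟩ := Ideal.Quotient.mk_surjective c
    obtain ⟨u, hu⟩ := Submodule.Quotient.mk_surjective _ (x - y)
    have h3 : Ideal.Quotient.mk (Ideal.span {a}) c' • (x - y) = 0 := by
      rw [smul_sub, sub_eq_zero]; exact hxy
    rw [← hu, Module.Quotient.mk_smul_mk, Submodule.Quotient.mk_eq_zero, hmem] at h3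
    obtain ⟨w, hw⟩ := h3
    have hc1 : c' ∉ Ideal.span {a} := fun h => hc0 ((Ideal.Quotient.eq_zero_iff_mem).2 h)
    obtain ⟨v, hv⟩ := htf c' u w hc1 hw
    rw [← sub_eq_zero, ← hu, Submodule.Quotient.mk_eq_zero, hmem]
    exact ⟨v, hv⟩
  have hfree : Module.Free (A ⧸ Ideal.span {a}) (M ⧸ (Ideal.span {a} • ⊤ : Submodule A M)) :=
    Module.free_of_finite_type_torsion_free'
  let bs := Module.finBasis (A ⧸ Ideal.span {a}) (M ⧸ (Ideal.span {a} • ⊤ : Submodule A M))
  set r := Module.finrank (A ⧸ Ideal.span {a}) (M ⧸ (Ideal.span {a} • ⊤ : Submodule A M)) with hr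
  choose e he using fun i : Fin r => Submodule.Quotient.mk_surjective _ (bs i)
  -- coefficients
  have hcoef : ∀ c : Fin r → A, (∃ w, ∑ i, c i • e i = a • w) → ∀ i, ∃ d, c i = a * d := by
    rintro c ⟨w, hw⟩ i
    have h3 : ∑ i, (Ideal.Quotient.mk (Ideal.span {a}) (c i)) • bs i = 0 := by
      have h4 := congrArg ((Ideal.span {a} • ⊤ : Submodule A M).mkQ) hw
      have h5 : ((Ideal.span {a} • ⊤ : Submodule A M).mkQ) (a • w) = 0 := by
        rw [Submodule.mkQ_apply, Submodule.Quotient.mk_eq_zero, hmem]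
        exact ⟨w, rfl⟩
      rw [h5, map_sum] at h4
      rw [← h4]
      refine Finset.sum_congr rfl fun i _ => ?_
      rw [Submodule.mkQ_apply, ← Module.Quotient.mk_smul_mk, he]
    have h5 := Fintype.linearIndependent_iff.1 bs.linearIndependent _ h3 i
    rw [Ideal.Quotient.eq_zero_iff_mem, Ideal.mem_span_singleton] at h5
    obtain ⟨d, hd⟩ := h5
    exact ⟨d, hd⟩
  have hli : LinearIndependent A e := by
    rw [Fintype.linearIndependent_iff]
    intro c hc i
    have h3 : c i ∈ (⨅ N : ℕ, Ideal.span {a} ^ N : Ideal A) := by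
      rw [Ideal.mem_iInf]
      intro N
      obtain ⟨d, hd, -⟩ := aux_span h1 e hcoef c hc N
      rw [Ideal.span_singleton_pow, Ideal.mem_span_singleton]
      exact ⟨d i, hd i⟩
    rw [Ideal.iInf_pow_eq_bot_of_isDomain _ (Ideal.Quotient.nontrivial_iff.1 (inferInstance : Nontrivial (A ⧸ Ideal.span {a})))] at h3
    exact h3
  -- Nakayama
  set M' := Submodule.span A (Set.range e) with hM'
  have hnak := Submodule.exists_sub_one_mem_and_smul_eq_zero_of_fg_of_le_smul (M := M ⧸ M') (Ideal.span {a}) ⊤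
    Module.Finite.fg_top (by
      rintro x -
      obtain ⟨m, rfl⟩ := Submodule.Quotient.mk_surjective _ x
      choose c hc using fun i => Ideal.Quotient.mk_surjective (bs.repr (Submodule.Quotient.mk m) i)
      have h3 : m - ∑ i, c i • e i ∈ (Ideal.span {a} • ⊤ : Submodule A M) := by
        rw [← Submodule.Quotient.mk_eq_zero, Submodule.Quotient.mk_sub, sub_eq_zero, ← Submodule.mkQ_apply,
          ← Submodule.mkQ_apply, map_sum, Submodule.mkQ_apply, ← bs.sum_repr (Submodule.Quotient.mk m)]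
        refine Finset.sum_congr rfl fun i _ => ?_
        rw [Submodule.mkQ_apply, ← Module.Quotient.mk_smul_mk, he, hc]
      rw [hmem] at h3
      obtain ⟨v, hv⟩ := h3
      have h4 : m = ∑ i, c i • e i + a • v := by rw [← hv]; abel
      have h5 : (Submodule.Quotient.mk m : M ⧸ M') = a • Submodule.Quotient.mk v := by
        rw [← Submodule.Quotient.mk_smul, Submodule.Quotient.eq, h4, add_sub_cancel_right]
        exact Submodule.sum_mem _ fun i _ => Submodule.smul_mem _ _ (Submodule.subset_span ⟨i, rfl⟩)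
      rw [h5]
      exact Submodule.smul_mem_smul (Ideal.mem_span_singleton_self a) trivial)
  obtain ⟨h, hh, hh2⟩ := hnak
  refine ⟨r, e, h, hh, hli, fun m => ?_⟩
  have h6 := hh2 (Submodule.Quotient.mk m) trivial
  rw [← Submodule.Quotient.mk_smul, Submodule.Quotient.mk_eq_zero] at h6
  exact h6

end K942.ExtAlg
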