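import Groth.Agent.ThetaS.K942.ExtAlg
import Mathlib.LinearAlgebra.Matrix.ToLin
import Mathlib.LinearAlgebra.Matrix.Determinant.Basic
import Mathlib.RingTheory.Localization.Away.Basic

/-!
# Frames of equivariant functions

`exists_frame`: the algebraic core of the extension of `GL_n`-torsors across `V(a, b)`.
-/

set_option autoImplicit false

universe u

open TensorProduct Matrix

namespace K942.Frame

open K942.RegPair K942.ExtAlg

variable {A : Type u} [CommRing A]

/-- A basis up to `h` gives a matrix with determinant dividing a power of `h` after base change. -/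
theorem det_dvd {M : Type u} [AddCommGroup M] [Module A M] {r n : ℕ} {e : Fin r → M} {h : A}
    (hli : LinearIndependent A e) (hsp : ∀ m : M, h • m ∈ Submodule.span A (Set.range e))
    {B : Type u} [CommRing B] [Algebra A B] [Module.Flat A B] {f : M →ₗ[A] (Fin n → B)}
    (hf : IsBaseChange B f) (hB : ∀ k : ℕ, algebraMap A B h ^ k ≠ 0) :
    ∃ hrn : r = n, (Matrix.of fun j i : Fin n => f (e (Fin.cast hrn.symm i)) j).det ∣ algebraMap A B h ^ n := by
  classical
  -- the `B`-linear map with columns `f (e i)`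
  let g : (Fin r → B) →ₗ[B] (Fin n → B) := Fintype.linearCombination B (fun i => f (e i))
  have hg : ∀ c : Fin r → B, g c = ∑ i, c i • f (e i) := fun c => Fintype.linearCombination_apply B _ c
  have hginj : Function.Injective g := by
    let E : (Fin r → A) →ₗ[A] M := Fintype.linearCombination A e
    have hE : Function.Injective E := by
      exact linearIndependent_iff_injective_fintypeLinearCombination.1 hli
    have h1 : Function.Injective (E.baseChange B) :=
      Module.Flat.lTensor_preserves_injective_linearMap E hE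
    let θ : B ⊗[A] (Fin r → A) ≃ₗ[B] (Fin r → B) := TensorProduct.piScalarRight A B B (Fin r)
    have h2 : g ∘ₗ θ.toLinearMap = hf.equiv.toLinearMap ∘ₗ (E.baseChange B) := by
      refine LinearMap.ext fun x => ?_
      induction x with
      | zero => simp
      | add x y hx hy => rw [map_add, map_add, hx, hy]
      | tmul b c =>
        have h5 : θ (b ⊗ₜ[A] c) = fun j => c j • b := TensorProduct.piScalarRightHom_tmul _ _ _ _ _ _
        rw [LinearMap.comp_apply, LinearMap.comp_apply, LinearEquiv.coe_toLinearMap, LinearEquiv.coe_toLinearMap,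
          h5, hg, LinearMap.baseChange_tmul, IsBaseChange.equiv_tmul]
        have h6 : E c = ∑ i, c i • e i := Fintype.linearCombination_apply A _ c
        rw [h6, map_sum, Finset.smul_sum]
        refine Finset.sum_congr rfl fun i _ => ?_
        rw [map_smul, smul_assoc, smul_comm]
    have h3 : Function.Injective (g ∘ₗ θ.toLinearMap) := by
      rw [h2]
      exact hf.equiv.injective.comp h1
    intro x y hxy
    have h4 := h3 (a₁ := θ.symm x) (a₂ := θ.symm y) (by simpa using hxy)
    exact θ.symm.injective h4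
  -- surjective up to `h`
  have hsurj : ∀ v : Fin n → B, ∃ c : Fin r → B, g c = algebraMap A B h • v := by
    intro v
    obtain ⟨x, rfl⟩ := hf.equiv.surjective v
    induction x with
    | zero => exact ⟨0, by simp⟩
    | add x y hx hy =>
      obtain ⟨c, hc⟩ := hx
      obtain ⟨d, hd⟩ := hy
      exact ⟨c + d, by rw [map_add, hc, hd, map_add, smul_add]⟩
    | tmul b m =>
      obtain ⟨c, hc⟩ := (Submodule.mem_span_range_iff_exists_fun A).1 (hsp m)
      refine ⟨fun i => b * algebraMap A B (c i), ?_⟩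
      rw [hg, IsBaseChange.equiv_tmul, smul_comm, algebraMap_smul, ← map_smul, ← hc, map_sum, Finset.smul_sum]
      refine Finset.sum_congr rfl fun i _ => ?_
      rw [mul_smul, algebraMap_smul, map_smul]
  choose F hF using fun j : Fin n => hsurj (Pi.single j 1)
  let E : Matrix (Fin n) (Fin r) B := Matrix.of fun j i => f (e i) j
  let Fm : Matrix (Fin r) (Fin n) B := Matrix.of fun i j => F j i
  have hEg : ∀ c, E *ᵥ c = g c := by
    intro c
    funext j
    rw [hg, Finset.sum_apply, Matrix.mulVec, dotProduct]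
    refine Finset.sum_congr rfl fun i _ => ?_
    rw [Pi.smul_apply, smul_eq_mul, mul_comm]; rfl
  have hEF : E * Fm = algebraMap A B h • (1 : Matrix (Fin n) (Fin n) B) := by
    ext j' j
    have h1 : (E * Fm) j' j = (E *ᵥ (F j)) j' := rfl
    rw [h1, hEg, hF, Pi.smul_apply, Matrix.smul_apply, Matrix.one_apply, Pi.single_apply]
  have hFE : Fm * E = algebraMap A B h • (1 : Matrix (Fin r) (Fin r) B) := by
    apply Matrix.ext_of_mulVec_single
    intro i
    apply hginj
    rw [← Matrix.mulVec_mulVec, ← hEg, Matrix.mulVec_mulVec, hEF, Matrix.smul_mulVec, Matrix.one_mulVec,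
      Matrix.smul_mulVec, Matrix.one_mulVec, hEg, map_smul]
  -- the ranks agree
  have hrn : r = n := by
    let L := Localization.Away (algebraMap A B h)
    let φ : B →+* L := algebraMap B L
    have hnt : Nontrivial L := by
      refine ⟨⟨0, 1, fun h01 => ?_⟩⟩
      have h1 : φ 1 = φ 0 := by rw [map_one, map_zero]; exact h01.symm
      obtain ⟨⟨_, k, rfl⟩, hk⟩ := (IsLocalization.eq_iff_exists (Submonoid.powers (algebraMap A B h)) L).1 h1
      apply hB k
      have hk' : algebraMap A B h ^ k * 1 = algebraMap A B h ^ k * 0 := hk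
      rwa [mul_one, mul_zero] at hk'
    obtain ⟨w, hw⟩ : ∃ w, w * φ (algebraMap A B h) = 1 :=
      (IsLocalization.Away.algebraMap_isUnit (S := L) (algebraMap A B h)).exists_left_inv
    have key : ∀ k : ℕ, (algebraMap A B h • (1 : Matrix (Fin k) (Fin k) B)).map φ =
        φ (algebraMap A B h) • (1 : Matrix (Fin k) (Fin k) L) := by
      intro k
      ext i j
      rw [Matrix.map_apply, Matrix.smul_apply, Matrix.smul_apply, smul_eq_mul, smul_eq_mul, map_mul,
        Matrix.one_apply, Matrix.one_apply, apply_ite φ, map_one, map_zero]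
    have h1 : (w • E.map φ) * Fm.map φ = 1 := by
      rw [Matrix.smul_mul, ← Matrix.map_mul, hEF, key, smul_smul, hw, one_smul]
    have h2 : Fm.map φ * (w • E.map φ) = 1 := by
      rw [Matrix.mul_smul, ← Matrix.map_mul, hFE, key, smul_smul, hw, one_smul]
    have := Matrix.square_of_invertible _ _ h1 h2
    simpa using this.symm
  subst hrn
  refine ⟨rfl, Fm.det, ?_⟩
  have h3 := congrArg Matrix.det hEF
  rw [Matrix.det_mul, Matrix.det_smul, Matrix.det_one, mul_one, Fintype.card_fin] at h3
  exact h3.symm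

theorem finite_projective (M : Type u) [AddCommGroup M] [Module A M] {n : ℕ}
    (Aa Ba : Type u) [CommRing Aa] [Algebra A Aa] [CommRing Ba] [Algebra A Ba] [Algebra Aa Ba]
    [IsScalarTower A Aa Ba] [Module.FaithfullyFlat Aa Ba] {fa : M →ₗ[A] (Fin n → Ba)}
    (hfa : IsBaseChange Ba fa) :
    Module.Projective Aa (Aa ⊗[A] M) ∧ Module.Finite Aa (Aa ⊗[A] M) := by
  let θ : Ba ⊗[Aa] (Aa ⊗[A] M) ≃ₗ[Ba] (Fin n → Ba) :=
    (TensorProduct.AlgebraTensorModule.cancelBaseChange A Aa Ba Ba M).trans hfa.equiv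
  have h1 : Module.Finite Ba (Ba ⊗[Aa] (Aa ⊗[A] M)) := Module.Finite.equiv θ.symm
  have h2 : Module.Projective Ba (Ba ⊗[Aa] (Aa ⊗[A] M)) := Module.Projective.of_equiv θ.symm
  exact Groth.Agent.S3822.finite_projective_descends Aa Ba (Aa ⊗[A] M)

theorem pow_ne_zero_of {a h : A} [IsDomain A] [Nontrivial (A ⧸ Ideal.span {a})]
    (hh : h - 1 ∈ Ideal.span {a}) {c : A} (hc : c ≠ 0)
    (Ac Bc : Type u) [CommRing Ac] [Algebra A Ac] [IsLocalization.Away c Ac] [CommRing Bc] [Algebra A Bc]
    [Algebra Ac Bc] [IsScalarTower A Ac Bc] [Module.FaithfullyFlat Ac Bc] (k : ℕ) :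
    algebraMap A Bc h ^ k ≠ 0 := by
  intro h0
  have hinj1 : Function.Injective (algebraMap A Ac) :=
    IsLocalization.injective Ac (powers_le_nonZeroDivisors_of_noZeroDivisors hc)
  have hinj2 : Function.Injective (algebraMap Ac Bc) := FaithfulSMul.algebraMap_injective Ac Bc
  have h1 : h ^ k = 0 := by
    apply hinj1
    apply hinj2
    rw [← IsScalarTower.algebraMap_apply, map_pow, h0, map_zero, map_zero]
  have h2 : h = 0 := pow_eq_zero_iff (by rintro rfl; simp at h1) |>.1 h1
  rw [h2, zero_sub] at hh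
  have h3 : (Ideal.span {a} : Ideal A) = ⊤ := by
    rw [Ideal.eq_top_iff_one]; simpa using (Ideal.span {a}).neg_mem hh
  exact (Ideal.Quotient.nontrivial_iff.1 (inferInstance : Nontrivial (A ⧸ Ideal.span {a}))) h3

/-- **Existence of frames.** -/
theorem exists_frame [IsDomain A] [IsNoetherianRing A] {a b : A} (hab : RegPair a b)
    [IsDomain (A ⧸ Ideal.span {a})] [IsPrincipalIdealRing (A ⧸ Ideal.span {a})]
    {M : Type u} [AddCommGroup M] [Module A M]
    (h1 : ∀ u : M, a • u = 0 → u = 0) (h2 : ∀ u w : M, b • u = a • w → ∃ v, u = a • v) {n : ℕ}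
    (Aa Ba : Type u) [CommRing Aa] [Algebra A Aa] [IsLocalization.Away a Aa] [CommRing Ba] [Algebra A Ba]
    [Algebra Aa Ba] [IsScalarTower A Aa Ba] [Module.FaithfullyFlat Aa Ba]
    (Ab Bb : Type u) [CommRing Ab] [Algebra A Ab] [IsLocalization.Away b Ab] [CommRing Bb] [Algebra A Bb]
    [Algebra Ab Bb] [IsScalarTower A Ab Bb] [Module.FaithfullyFlat Ab Bb]
    {fa : M →ₗ[A] (Fin n → Ba)} (hfa : IsBaseChange Ba fa) {fb : M →ₗ[A] (Fin n → Bb)}
    (hfb : IsBaseChange Bb fb) :
    ∃ (e : Fin n → M) (h : A), h - 1 ∈ Ideal.span {a} ∧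
      (Matrix.of fun j i : Fin n => fa (e i) j).det ∣ algebraMap A Ba h ^ n ∧
      (Matrix.of fun j i : Fin n => fb (e i) j).det ∣ algebraMap A Bb h ^ n := by
  have ha0 : a ≠ 0 := by
    rintro rfl
    exact one_ne_zero (hab.nzd 1 (by simp))
  have hb0 : b ≠ 0 := by
    rintro rfl
    obtain ⟨z, hz⟩ := hab.reg 1 0 (by simp)
    have hu : Ideal.span {a} = (⊤ : Ideal A) := by
      rw [Ideal.eq_top_iff_one, Ideal.mem_span_singleton]
      exact ⟨z, hz⟩
    exact (Ideal.Quotient.nontrivial_iff.1 (inferInstance : Nontrivial (A ⧸ Ideal.span {a}))) hu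
  obtain ⟨hpa, hfa'⟩ := finite_projective M Aa Ba hfa
  obtain ⟨hpb, hfb'⟩ := finite_projective M Ab Bb hfb
  obtain ⟨r, e, h, hh, hli, hsp⟩ := exists_free hab h1 h2 Aa Ab
  have hflatA : Module.Flat A Aa := IsLocalization.flat Aa (Submonoid.powers a)
  have hflatB : Module.Flat A Ab := IsLocalization.flat Ab (Submonoid.powers b)
  have : Module.Flat A Ba := Module.Flat.trans A Aa Ba
  have : Module.Flat A Bb := Module.Flat.trans A Ab Bb
  obtain ⟨rfl, hda⟩ := det_dvd hli hsp hfa (pow_ne_zero_of hh ha0 Aa Ba)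
  obtain ⟨_, hdb⟩ := det_dvd hli hsp hfb (pow_ne_zero_of hh hb0 Ab Bb)
  exact ⟨e, h, hh, hda, hdb⟩

end K942.Frame
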