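import Groth.Agent.ThetaS.K942.RegPair
import Mathlib.RingTheory.Localization.Away.Basic
import Mathlib.Algebra.Polynomial.AlgebraMap

/-!
# A polynomial in `1 / (st)` is not a difference of functions on `D(s)` and `D(t)`
-/

set_option autoImplicit false
set_option linter.dupNamespace false

namespace K942.GNotAlg

open RegPair Polynomial

variable {A A₁ A₂ A₃ : Type*} [CommRing A] [CommRing A₁] [CommRing A₂] [CommRing A₃]
    [Algebra A A₁] [Algebra A A₂] [Algebra A A₃] {s t : A}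

theorem exists_comb (h : RegPair s t) (h' : RegPair t s)
    [IsLocalization.Away s A₁] [IsLocalization.Away t A₂] [IsLocalization.Away (s * t) A₃]
    (f : A₁ →+* A₃) (hf : ∀ x, f (algebraMap A A₁ x) = algebraMap A A₃ x)
    (g : A₂ →+* A₃) (hg : ∀ x, g (algebraMap A A₂ x) = algebraMap A A₃ x) (a : A₁) (b : A₂) (i : A₃)
    (hi : algebraMap A A₃ (s * t) * i = 1) (hab : f a = i + g b) : ∃ x y, s * x + t * y = 1 := by
  have hst : ∀ x, s * t * x = 0 → x = 0 := fun x hx => h'.nzd x (h.nzd _ (by rw [← mul_assoc, hx]))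
  have hst' : ∀ x y, s * t * x = s * t * y → x = y := fun x y hxy =>
    sub_eq_zero.1 (hst _ (by rw [mul_sub, hxy, sub_self]))
  obtain ⟨n, a₀, ha⟩ := IsLocalization.Away.surj s a
  obtain ⟨m, b₀, hb⟩ := IsLocalization.Away.surj t b
  have hinj : Function.Injective (algebraMap A A₃) := by
    refine IsLocalization.injective A₃ (M := Submonoid.powers (s * t)) ?_
    rw [Submonoid.powers_le]
    exact mem_nonZeroDivisors_iff_left.2 hst
  have ha' : f a * algebraMap A A₃ s ^ n = algebraMap A A₃ a₀ := by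
    rw [← hf a₀, ← ha, map_mul, map_pow, hf]
  have hb' : g b * algebraMap A A₃ t ^ m = algebraMap A A₃ b₀ := by
    rw [← hg b₀, ← hb, map_mul, map_pow, hg]
  set N := n + m with hN
  have key : s * t * (t ^ (N + 1) * (a₀ * s ^ (m + 1)) - s ^ (N + 1) * (b₀ * t ^ (n + 1))) =
      s ^ (N + 1) * t ^ (N + 1) := by
    apply hinj
    simp only [map_mul, map_sub, map_pow] at *
    rw [← ha', ← hb', hab, hN]
    linear_combination (algebraMap A A₃ s ^ (n + m + 1) * algebraMap A A₃ t ^ (n + m + 1)) * hi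
  have key2 : t ^ (N + 1) * (a₀ * s ^ (m + 1)) - s ^ (N + 1) * (b₀ * t ^ (n + 1)) = s ^ N * t ^ N := by
    apply hst'
    rw [key]; ring
  obtain ⟨z, hz⟩ := h.pow_pow (N + 1) N (t * (a₀ * s ^ (m + 1)) - s ^ N) (b₀ * t ^ (n + 1)) (by
    linear_combination key2)
  obtain ⟨w, hw⟩ := h'.pow_right N (1 + s * z) (a₀ * s ^ (m + 1)) (by
    linear_combination -hz)
  exact ⟨-z, w, by linear_combination -hw⟩

theorem exists_clear {c : A} {i : A₃} (hi : algebraMap A A₃ c * i = 1) (n : ℕ) (Q : A[X])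
    (hQ : Q.natDegree ≤ n) : ∃ y, algebraMap A A₃ (c ^ n) * aeval i Q = algebraMap A A₃ y := by
  refine ⟨∑ m ∈ Finset.range (n + 1), Q.coeff m * c ^ (n - m), ?_⟩
  rw [aeval_eq_sum_range' (lt_of_le_of_lt hQ (Nat.lt_succ_self n)), Finset.mul_sum, map_sum]
  refine Finset.sum_congr rfl fun m hm => ?_
  have hm' : m ≤ n := Nat.lt_succ_iff.1 (Finset.mem_range.1 hm)
  obtain ⟨j, rfl⟩ := Nat.exists_eq_add_of_le hm'
  rw [Nat.add_sub_cancel_left, Algebra.smul_def, map_mul, map_pow, pow_add, map_pow]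
  have h1 : algebraMap A A₃ c ^ m * i ^ m = 1 := by rw [← mul_pow, hi, one_pow]
  linear_combination (algebraMap A A₃ c ^ j * algebraMap A A₃ (Q.coeff m)) * h1

theorem exists_comb_poly (h : RegPair s t) (h' : RegPair t s)
    [IsLocalization.Away s A₁] [IsLocalization.Away t A₂] [IsLocalization.Away (s * t) A₃]
    (f : A₁ →+* A₃) (hf : ∀ x, f (algebraMap A A₁ x) = algebraMap A A₃ x)
    (g : A₂ →+* A₃) (hg : ∀ x, g (algebraMap A A₂ x) = algebraMap A A₃ x) (a : A₁) (b : A₂) (i : A₃)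
    (hi : algebraMap A A₃ (s * t) * i = 1) (Q : A[X]) (d : ℕ) (hQ : Q.natDegree ≤ d + 1)
    (hc : IsUnit (Q.coeff (d + 1))) (hab : f a = aeval i Q + g b) : ∃ x y, s * x + t * y = 1 := by
  obtain ⟨c', hc'⟩ := isUnit_iff_exists_inv.1 hc
  set c := Q.coeff (d + 1) with hcd
  -- split off the leading term
  have hQ' : (Q - C c * X ^ (d + 1)).natDegree ≤ d := by
    rw [Polynomial.natDegree_le_iff_coeff_eq_zero]
    intro N hN
    rw [coeff_sub, coeff_C_mul, coeff_X_pow]
    by_cases hNd : N = d + 1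
    · rw [if_pos hNd, hNd, mul_one, hcd, sub_self]
    · rw [if_neg hNd, mul_zero, sub_zero]
      exact coeff_eq_zero_of_natDegree_lt (by omega)
  obtain ⟨y, hy⟩ := exists_clear hi d (Q - C c * X ^ (d + 1)) hQ'
  have hy' : algebraMap A A₃ ((s * t) ^ d) * aeval i Q = algebraMap A A₃ c * i + algebraMap A A₃ y := by
    rw [← hy, map_sub, map_mul, map_pow, map_pow (aeval i), aeval_X, aeval_C]
    have h1 : algebraMap A A₃ (s * t) ^ d * i ^ d = 1 := by rw [← mul_pow, hi, one_pow]
    linear_combination (algebraMap A A₃ c * i) * h1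
  refine exists_comb h h' f hf g hg
    (algebraMap A A₁ c' * (algebraMap A A₁ ((s * t) ^ d) * a - algebraMap A A₁ y))
    (algebraMap A A₂ (c' * (s * t) ^ d) * b) i hi ?_
  have h2 : algebraMap A A₃ c * algebraMap A A₃ c' = 1 := by rw [← map_mul, hc', map_one]
  simp only [map_mul, map_sub, hf, hg, hab] at *
  linear_combination (algebraMap A A₃ c') * hy' + i * h2

end K942.GNotAlg
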