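import Groth.Agent.ThetaS.K942.GaNot
import Groth.Agent.ThetaS.K942.GNotAlg

/-!
# `B G` is not S-complete when `G` has an additive subgroup with an equivariant function
-/

set_option autoImplicit false
set_option linter.dupNamespace false
set_option linter.style.haveILetI false
set_option linter.unusedSectionVars false
set_option backward.isDefEq.respectTransparency false
set_option backward.isDefEq.respectTransparency.types false

universe u

open CategoryTheory CategoryTheory.Limits MonoidalCategory CartesianMonoidalCategory MonObj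
  AlgebraicGeometry Opposite
open scoped Polynomial

namespace K942.GNot

open ThetaS K951.Pts EqGeom TrivMor GaTriv TorsGeom K943.QuotAtlas K943.CoverExt GaFun GaCov GaNot

attribute [local instance] K951.Pts.algΓ

/-- An additive subgroup of `G` with a function equivariant up to the polynomial `P`. -/
structure JR {S : Scheme.{u}} (G : Over S) [GrpObj G] (P : (Γ(S, ⊤) : Type u)[X]) where
  /-- the additive subgroup -/
  jf : ∀ {T : Over S}, Γ(T.left, ⊤) → (T ⟶ G)
  jf_comp : ∀ {T T' : Over S} (v : T' ⟶ T) (a : Γ(T.left, ⊤)), v ≫ jf a = jf (pb v a)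
  jf_add : ∀ {T : Over S} (a b : Γ(T.left, ⊤)), (jf (a + b) : T ⟶ G) = jf a * jf b
  /-- the function -/
  rf : ∀ {T : Over S}, (T ⟶ G) → Γ(T.left, ⊤)
  rf_comp : ∀ {T T' : Over S} (v : T' ⟶ T) (w : T ⟶ G), rf (v ≫ w) = pb v (rf w)
  rel : ∀ {T : Over S} (a : Γ(T.left, ⊤)) (w : T ⟶ G),
    rf (jf a * w) = P.eval₂ T.hom.appTop.hom a + rf w

variable {S : Scheme.{u}} {R : Type u} [CommRing R] {π : R} {h : Spec (CommRingCat.of R) ⟶ S}
  {G : Over S} [GrpObj G]

theorem jf_zero {P : (Γ(S, ⊤) : Type u)[X]} (J : JR G P) {T : Over S} : (J.jf 0 : T ⟶ G) = 1 := by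
  have h := J.jf_add (T := T) 0 0
  rw [_root_.add_zero] at h
  exact left_eq_mul.1 h

section functor

variable {P : (Γ(S, ⊤) : Type u)[X]} (J : JR G P) (aX : AlgGrp.Action G (𝟙_ (Over S)))

/-- The cocycle. -/
noncomputable def cj (h : Spec (CommRingCat.of R) ⟶ S) {a b : (STR Scheme.fppfPrecoverage R π).obj}
    (m : a ⟶ b) : (Over.map h).obj a.base ⟶ G :=
  J.jf (T := (Over.map h).obj a.base) (ev m)

theorem cj_id (a : (STR Scheme.fppfPrecoverage R π).obj) : cj J h (𝟙 a) = 1 := by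
  rw [cj, ev_id]
  exact jf_zero J

theorem cj_comp {a b c : (STR Scheme.fppfPrecoverage R π).obj} (m : a ⟶ b) (m' : b ⟶ c)
    (hc : IsUnit (sv c) ∨ IsUnit (tvv c)) :
    cj J h (m ≫ m') = cj J h m * ((Over.map h).map m.base ≫ cj J h m') := by
  have h1 : (Over.map h).map m.base ≫ cj J h m' = J.jf (T := (Over.map h).obj a.base) (pb m.base (ev m')) :=
    J.jf_comp ((Over.map h).map m.base) (ev m')
  rw [h1, cj, ev_comp m m' hc]
  exact J.jf_add (T := (Over.map h).obj a.base) _ _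

/-- The functor with trivial torsors and the cocycle. -/
noncomputable def FJ : sub (stPunc Scheme.fppfPrecoverage R π h) (Pp h) ⥤ᵇ
    AlgSt.QuotSt Scheme.fppfPrecoverage G aX where
  toFunctor :=
    { obj := fun b => tv Scheme.fppfPrecoverage aX ((Over.map h).obj b.obj.obj.base)
      map := fun {a b} m => tr ((Over.map h).map m.hom.hom.base) (cj J h m.hom.hom)
      map_id := fun a => by
        change tr ((Over.map h).map (𝟙 _)) (cj J h (𝟙 a.obj.obj)) = _
        rw [cj_id, (Over.map h).map_id, tr_id]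
      map_comp := fun {a b c} m m' => by
        change tr ((Over.map h).map (m.hom.hom.base ≫ m'.hom.hom.base))
          (cj J h (m.hom.hom ≫ m'.hom.hom)) = _
        rw [cj_comp J m.hom.hom m'.hom.hom c.property, (Over.map h).map_comp, tr_comp] }
  w := rfl

end functor

section cocycle

variable {P : (Γ(S, ⊤) : Type u)[X]}

/-- The data of an affine flat cover `Z` of the atlas and of a cocycle on the objects over it. -/
theorem exists_cocycle (J : JR G P) [IsAffineHom G.hom] [Flat G.hom] {aX : AlgGrp.Action G (𝟙_ (Over S))}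
    (hl : LiftSq.LiftsUniquely (stIncl Scheme.fppfPrecoverage R π h)
      (FibCat.toSelf (AlgSt.QuotSt Scheme.fppfPrecoverage G aX))) :
    ∃ (Z : Over (Spec (CommRingCat.of R))) (z : Z ⟶ STSch R π), IsAffine Z.left ∧ Flat z.left ∧
      Surjective z.left ∧
    ∃ Φ : ∀ (b : (sub (stPunc Scheme.fppfPrecoverage R π h) (Pp h)).obj)
      (_ : b.obj.obj ⟶ uObj Scheme.fppfPrecoverage (stAction R π) Z z),
      ((Over.map h).obj b.obj.obj.base ⟶ G),
      ∀ {a b : (sub (stPunc Scheme.fppfPrecoverage R π h) (Pp h)).obj} (m : a ⟶ b)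
        (n : b.obj.obj ⟶ uObj Scheme.fppfPrecoverage (stAction R π) Z z), Φ a (m.hom.hom ≫ n) =
          cj J h m.hom.hom * ((Over.map h).map m.hom.hom.base ≫ Φ b n) := by
  have hst := K750.QuotEff.isStack_quotSt (K := Scheme.fppfPrecoverage)
    Scheme.fppfPrecoverage_le_fpqcPrecoverage aX
  haveI := hst.1
  obtain ⟨F, ⟨e⟩⟩ := exists_ext (closedInto (h := h)) (fun b => hst.2 _ (cov_mem h b)) (FJ J aX)
  let sq : LiftSq.Sq (stIncl Scheme.fppfPrecoverage R π h)
      (FibCat.toSelf (AlgSt.QuotSt Scheme.fppfPrecoverage G aX)) :=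
    { top := F
      bot := FibCat.toSelf _
      iso := eqToIso (K943.SelfLift.functor_eq _ _) }
  obtain ⟨⟨ℓ⟩, -⟩ := hl sq
  -- the value at the atlas
  have hb : (ℓ.fn.obj (uu π)).base = (Over.map h).obj (STSch R π) := ℓ.fn.w_obj (uu π)
  haveI : IsAffine (STSch R π).left := Coord.isAffine_st π
  let ζ : (ℓ.fn.obj (uu π)).P ⟶ (Over.map h).obj (STSch R π) := (ℓ.fn.obj (uu π)).π ≫ eqToHom hb
  let Z : Over (Spec (CommRingCat.of R)) := Over.mk (ζ.left ≫ (STSch R π).hom)
  let z : Z ⟶ STSch R π := Over.homMk ζ.left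
  have hζ0 : IsIso (eqToHom hb).left := inferInstance
  haveI haf : IsAffineHom (ℓ.fn.obj (uu π)).π.left :=
    K750.QuotAff.isAffineHom_of_torsor Scheme.fppfPrecoverage_le_fpqcPrecoverage _
      (ℓ.fn.obj (uu π)).cart (ℓ.fn.obj (uu π)).loc
  haveI hfl : Flat (ℓ.fn.obj (uu π)).π.left := flat_π _ (ℓ.fn.obj (uu π)).cart (ℓ.fn.obj (uu π)).loc
  haveI hsu : Surjective (ℓ.fn.obj (uu π)).π.left := surjective_π (ℓ.fn.obj (uu π)).loc
  have hζ : ζ.left = (ℓ.fn.obj (uu π)).π.left ≫ (eqToHom hb).left := rfl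
  have hζa : IsAffineHom ζ.left := by rw [hζ]; infer_instance
  have hζf : Flat ζ.left := by rw [hζ]; infer_instance
  have hζs : Surjective ζ.left := by rw [hζ]; infer_instance
  haveI hza : IsAffineHom z.left := hζa
  haveI hZ : IsAffine Z.left := isAffine_of_affineHom z
  refine ⟨Z, z, hZ, hζf, hζs, ?_⟩
  -- the section over `Z`
  let mz : ℓ.fn.obj (uObj Scheme.fppfPrecoverage (stAction R π) Z z) ⟶ ℓ.fn.obj (uu π) :=
    ℓ.fn.map (uMap z (Category.comp_id _))
  have hz : (ℓ.fn.obj (uObj Scheme.fppfPrecoverage (stAction R π) Z z)).base = (Over.map h).obj Z :=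
    ℓ.fn.w_obj _
  let ω : (Over.map h).obj Z ⟶ (ℓ.fn.obj (uu π)).P := Over.homMk (𝟙 _) (by
    change 𝟙 _ ≫ (ℓ.fn.obj (uu π)).P.hom = (ζ.left ≫ (STSch R π).hom) ≫ h
    rw [Category.id_comp, Category.assoc]
    exact (Over.w ζ).symm)
  have hmz : mz.base = eqToHom hz ≫ (Over.map h).map z ≫ eqToHom hb.symm := by
    have := Functor.congr_hom ℓ.fn.w (X := uObj Scheme.fppfPrecoverage (stAction R π) Z z) (Y := uu π)
      (uMap z (Category.comp_id _))
    exact this
  have hω : (Over.map h).map z = ω ≫ ζ := by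
    apply Over.OverMorphism.ext
    change ζ.left = 𝟙 _ ≫ ζ.left
    rw [Category.id_comp]
  let s : (ℓ.fn.obj (uObj Scheme.fppfPrecoverage (stAction R π) Z z)).base ⟶
      (ℓ.fn.obj (uObj Scheme.fppfPrecoverage (stAction R π) Z z)).P :=
    mz.cart.lift (eqToHom hz ≫ ω) (𝟙 _) (by
      rw [Category.id_comp, hmz, hω, Category.assoc, Category.assoc]
      change _ = eqToHom hz ≫ ω ≫ ((ℓ.fn.obj (uu π)).π ≫ eqToHom hb) ≫ eqToHom hb.symm
      rw [Category.assoc, eqToHom_trans, eqToHom_refl, Category.comp_id])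
  have hs : s ≫ (ℓ.fn.obj (uObj Scheme.fppfPrecoverage (stAction R π) Z z)).π = 𝟙 _ := mz.cart.lift_snd _ _ _
  obtain ⟨N, -⟩ := exists_to_tv s hs (𝟙 _)
  let Ψ : ∀ (b : (sub (stPunc Scheme.fppfPrecoverage R π h) (Pp h)).obj)
      (_ : b.obj.obj ⟶ uObj Scheme.fppfPrecoverage (stAction R π) Z z),
      (FJ J aX).obj b ⟶ tv Scheme.fppfPrecoverage aX
        (ℓ.fn.obj (uObj Scheme.fppfPrecoverage (stAction R π) Z z)).base := fun b n =>
    e.inv.toNatTrans.app b ≫ ℓ.isoTop.inv.toNatTrans.app b.obj ≫ ℓ.fn.map n ≫ N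
  have hΨ : ∀ {a b : (sub (stPunc Scheme.fppfPrecoverage R π h) (Pp h)).obj} (m : a ⟶ b)
      (n : b.obj.obj ⟶ uObj Scheme.fppfPrecoverage (stAction R π) Z z),
      Ψ a (m.hom.hom ≫ n) = (FJ J aX).map m ≫ Ψ b n := by
    intro a b m n
    have h1 : (FJ J aX).map m ≫ e.inv.toNatTrans.app b = e.inv.toNatTrans.app a ≫ F.map m.hom :=
      e.inv.toNatTrans.naturality m
    have h2 : F.map m.hom ≫ ℓ.isoTop.inv.toNatTrans.app b.obj =
        ℓ.isoTop.inv.toNatTrans.app a.obj ≫ ℓ.fn.map m.hom.hom :=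
      ℓ.isoTop.inv.toNatTrans.naturality m.hom
    have h3 : ℓ.fn.map (m.hom.hom ≫ n) = ℓ.fn.map m.hom.hom ≫ ℓ.fn.map n := ℓ.fn.toFunctor.map_comp _ _
    change e.inv.toNatTrans.app a ≫ ℓ.isoTop.inv.toNatTrans.app a.obj ≫ ℓ.fn.map (m.hom.hom ≫ n) ≫ N =
      (FJ J aX).map m ≫ e.inv.toNatTrans.app b ≫ ℓ.isoTop.inv.toNatTrans.app b.obj ≫ ℓ.fn.map n ≫ N
    rw [h3, ← Category.assoc ((FJ J aX).map m), h1]
    simp only [Category.assoc]
    rw [← Category.assoc (F.map m.hom), h2]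
    simp only [Category.assoc]
  refine ⟨fun b n => al (Ψ b n), fun {a b} m n => ?_⟩
  have h4 : al (Ψ a (m.hom.hom ≫ n)) = al ((FJ J aX).map m ≫ Ψ b n) := by rw [hΨ]
  refine h4.trans ?_
  have h6 := al_comp (tr (K := Scheme.fppfPrecoverage) (aX := aX) ((Over.map h).map m.hom.hom.base)
    (cj J h m.hom.hom)) (show tv Scheme.fppfPrecoverage aX _ ⟶ tv Scheme.fppfPrecoverage aX _ from Ψ b n)
  rw [al_tr] at h6
  exact h6

end cocycle

end K942.GNot
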