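import Groth.Agent.ThetaS.K942.GNot

/-!
# `B G` is not S-complete when `G` has an additive subgroup with an equivariant function: the end
-/

set_option autoImplicit false
set_option linter.dupNamespace false
set_option linter.style.haveILetI false
set_option linter.unusedSectionVars false
set_option backward.isDefEq.respectTransparency false
set_option backward.isDefEq.respectTransparency.types false

universe u

open CategoryTheory CategoryTheory.Limits MonoidalCategory CartesianMonoidalCategory MonObj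
  AlgebraicGeometry Opposite
open scoped Polynomial

namespace K942.GNot2

open ThetaS K951.Pts EqGeom TrivMor GaTriv TorsGeom K943.QuotAtlas K943.CoverExt GaFun GaCov GaNot GNot
open RegPair

attribute [local instance] K951.Pts.algΓ

variable {S : Scheme.{u}} {R : Type u} [CommRing R] {π : R} {h : Spec (CommRingCat.of R) ⟶ S}
  {G : Over S} [GrpObj G] {Z : Over (Spec (CommRingCat.of R))} (z : Z ⟶ STSch R π)

/-- The function `s` on `Z`. -/
noncomputable abbrev zs : Γ(Z.left, ⊤) := pb z (ss π)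

/-- The function `t` on `Z`. -/
noncomputable abbrev zt : Γ(Z.left, ⊤) := pb z (tt π)

/-- The morphisms between basic opens. -/
noncomputable abbrev jz {f g : Γ(Z.left, ⊤)} (hfg : Z.left.basicOpen f ≤ Z.left.basicOpen g) :
    Dr Z f ⟶ Dr Z g :=
  Over.homMk (Z.left.homOfLE hfg) (by
    change Z.left.homOfLE hfg ≫ (Z.left.basicOpen g).ι ≫ _ = _
    rw [← Category.assoc, Scheme.homOfLE_ι]; rfl)

theorem jz_dr {f g : Γ(Z.left, ⊤)} (hfg : Z.left.basicOpen f ≤ Z.left.basicOpen g) :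
    jz hfg ≫ dr Z g = dr Z f := by
  apply Over.OverMorphism.ext
  exact Scheme.homOfLE_ι _ hfg

theorem jz_dr_z {f g : Γ(Z.left, ⊤)} (hfg : Z.left.basicOpen f ≤ Z.left.basicOpen g) :
    jz hfg ≫ dr Z g ≫ z = dr Z f ≫ z := by
  rw [← Category.assoc, jz_dr]

/-- The open subobjects. -/
noncomputable abbrev uz (f : Γ(Z.left, ⊤)) : (STR Scheme.fppfPrecoverage R π).obj :=
  uObj Scheme.fppfPrecoverage (stAction R π) (Dr Z f) (dr Z f ≫ z)

/-- The inclusion of the open subobjects. -/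
noncomputable abbrev uzn (f : Γ(Z.left, ⊤)) :
    uz z f ⟶ uObj Scheme.fppfPrecoverage (stAction R π) Z z :=
  uMap (dr Z f) rfl

theorem uz_s {f : Γ(Z.left, ⊤)} (hf : IsUnit (pb (dr Z f) (zs z))) : IsUnit (sv (uz z f)) := by
  apply sv_uObj
  rw [fn_comp]
  exact hf

theorem uz_t {f : Γ(Z.left, ⊤)} (hf : IsUnit (pb (dr Z f) (zt z))) : IsUnit (tvv (uz z f)) := by
  apply tv_uObj
  rw [fn_comp]
  exact hf

theorem um_uzn {f g : Γ(Z.left, ⊤)} (hfg : Z.left.basicOpen f ≤ Z.left.basicOpen g) :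
    (uMap (jz hfg) (jz_dr_z z hfg) : uz z f ⟶ uz z g) ≫ uzn z g = uzn z f := by
  refine AlgSt.QuotObj.hom_ext (jz_dr hfg) ?_
  change (Gm R ◁ jz hfg) ≫ (Gm R ◁ dr Z g) = Gm R ◁ dr Z f
  rw [← whiskerLeft_comp, jz_dr]

/-- The cocycle on the inclusions of basic opens. -/
noncomputable def evz {f g : Γ(Z.left, ⊤)} (hfg : Z.left.basicOpen f ≤ Z.left.basicOpen g) :
    Γ((Dr Z f).left, ⊤) :=
  ev (uMap (jz hfg) (jz_dr_z z hfg) : uz z f ⟶ uz z g)

section regular

variable [IsDomain R] [IsDiscreteValuationRing R] (hπ : Irreducible π) [IsAffine Z.left]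
  [hzf : Flat z.left]

include hπ in
theorem regPair_z : RegPair (zs z) (zt z) := by
  haveI : IsAffine (STSch R π).left := Coord.isAffine_st π
  exact Coord.regPair_pull z.left (GLExt.good_stFn hπ).reg

include hπ in
theorem regPair_z' : RegPair (zt z) (zs z) := by
  haveI : IsAffine (STSch R π).left := Coord.isAffine_st π
  haveI := (GLExt.good_stFn hπ).dom
  exact Coord.regPair_pull z.left (regPair_symm (GLExt.good_stFn hπ).reg (tt_ne hπ) (ss_ne hπ))

theorem map_comap [hzs : Surjective z.left] (I : Ideal Γ((STSch R π).left, ⊤)) :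
    (I.map (pb z)).comap (pb z) = I := by
  haveI : IsAffine (STSch R π).left := Coord.isAffine_st π
  have h := (Flat.flat_and_surjective_iff_faithfullyFlat_of_isAffine (f := z.left)).1 ⟨hzf, hzs⟩
  letI := (pb z).toAlgebra
  haveI : Module.FaithfullyFlat Γ((STSch R π).left, ⊤) Γ(Z.left, ⊤) := h
  exact Ideal.comap_map_eq_self_of_faithfullyFlat (B := Γ(Z.left, ⊤)) I

include hπ in
theorem not_comb_z [hzs : Surjective z.left] : ¬ ∃ x y, zs z * x + zt z * y = 1 := by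
  rintro ⟨x, y, hxy⟩
  have h1 : Ideal.span {ss π, tt π} = ⊤ := by
    rw [← map_comap z (Ideal.span {ss π, tt π}), Ideal.map_span, Set.image_pair]
    rw [Ideal.comap_eq_top_iff, Ideal.eq_top_iff_one, Ideal.mem_span_pair]
    exact ⟨x, y, by rw [← hxy]; ring⟩
  rw [Ideal.eq_top_iff_one, Ideal.mem_span_pair] at h1
  obtain ⟨a, b, hab⟩ := h1
  exact not_comb hπ ⟨a, b, by rw [← hab]; ring⟩

include hπ in
theorem not_isUnit_z [hzs : Surjective z.left] : ¬ IsUnit (pb (dr Z (zt z)) (zs z)) := by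
  intro hu
  letI := (pb (TorsBasis.jc Z (zt z))).toAlgebra
  haveI := TorsBasis.isLoc (T := Z) (zt z)
  obtain ⟨a, ha⟩ := isUnit_iff_exists_inv.1 hu
  obtain ⟨n, a₀, h0⟩ := IsLocalization.Away.surj (zt z) a
  have hinj : Function.Injective (algebraMap Γ(Z.left, ⊤) Γ((TorsBasis.Dc Z (zt z)).left, ⊤)) := by
    refine IsLocalization.injective _ (M := Submonoid.powers (zt z)) ?_
    rw [Submonoid.powers_le]
    exact mem_nonZeroDivisors_iff_left.2 (regPair_z' z hπ).nzd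
  have h1 : zs z * a₀ = zt z ^ n := by
    apply hinj
    rw [map_mul, ← h0, map_pow, ← _root_.mul_assoc]
    have : algebraMap Γ(Z.left, ⊤) Γ((TorsBasis.Dc Z (zt z)).left, ⊤) (zs z) * a = 1 := ha
    rw [this, _root_.one_mul]
  have h2 : tt π ^ n ∈ Ideal.span {ss π} := by
    rw [← map_comap z (Ideal.span {ss π}), Ideal.map_span, Set.image_singleton, Ideal.mem_comap,
      Ideal.mem_span_singleton, map_pow]
    exact ⟨a₀, h1.symm⟩
  obtain ⟨c, hc⟩ := Ideal.mem_span_singleton.1 h2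
  exact not_pow hπ ⟨c, n, hc.symm⟩

include hπ in
theorem not_sv_z [hzs : Surjective z.left] : ¬ IsUnit (sv (uz z (zt z))) := by
  intro hu
  apply not_isUnit_z z hπ
  have h1 : (uz z (zt z)).φ =
      lift (fst (Gm R) _) (snd (Gm R) _ ≫ dr Z (zt z) ≫ z) ≫ (stAction R π).act := by
    change (Gm R ◁ (dr Z (zt z) ≫ z)) ≫ (stAction R π).act = _
    congr 1
  have h2 : IsUnit (pb (lift (1 : Dr Z (zt z) ⟶ Gm R) (𝟙 _)) (sv (uz z (zt z)))) := hu.map _
  have h3 : pb (lift (1 : Dr Z (zt z) ⟶ Gm R) (𝟙 _)) (sv (uz z (zt z))) =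
      fn (B := STRing R π) (lift 1 (dr Z (zt z) ≫ z) ≫ (stAction R π).act) (sFn R π) := by
    rw [sv, h1]
    have := fn_comp (B := STRing R π) (lift (1 : Dr Z (zt z) ⟶ Gm R) (𝟙 _))
      (lift (fst (Gm R) _) (snd (Gm R) _ ≫ dr Z (zt z) ≫ z) ≫ (stAction R π).act) (sFn R π)
    refine this.symm.trans ?_
    rw [← Category.assoc, comp_lift, lift_fst, lift_snd_assoc, Category.id_comp]
  rw [h3, (Coord.fn_stAct _ _).1, fn_comp] at h2
  exact isUnit_of_mul_isUnit_right h2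

end regular

theorem hz1 : Z.left.basicOpen (zs z * zt z) ≤ Z.left.basicOpen (zs z) := by
  rw [Scheme.basicOpen_mul]; exact inf_le_left

theorem hz2 : Z.left.basicOpen (zs z * zt z) ≤ Z.left.basicOpen (zt z) := by
  rw [Scheme.basicOpen_mul]; exact inf_le_right

theorem huz : IsUnit (pb (dr Z (zs z * zt z)) (zs z)) := by
  have hu := isUnit_dr Z (zs z * zt z)
  rw [map_mul] at hu; exact isUnit_of_mul_isUnit_left hu

theorem zs_mul_zt [IsDomain R] [IsDiscreteValuationRing R] : zs z * zt z = algebraMap R Γ(Z.left, ⊤) π := by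
  rw [← map_mul, ss_mul_tt]
  exact pb_algebraMap z π

section main

variable {P : (Γ(S, ⊤) : Type u)[X]}

/-- The value of the polynomial. -/
noncomputable def pe (P : (Γ(S, ⊤) : Type u)[X]) (h : Spec (CommRingCat.of R) ⟶ S)
    (T : Over (Spec (CommRingCat.of R))) (a : Γ(T.left, ⊤)) : Γ(T.left, ⊤) :=
  P.eval₂ ((Over.map h).obj T).hom.appTop.hom a

theorem exists_phi (J : JR G P)
    (Φ : ∀ (b : (sub (stPunc Scheme.fppfPrecoverage R π h) (Pp h)).obj)
      (_ : b.obj.obj ⟶ uObj Scheme.fppfPrecoverage (stAction R π) Z z),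
      ((Over.map h).obj b.obj.obj.base ⟶ G))
    (hΦ : ∀ {a b : (sub (stPunc Scheme.fppfPrecoverage R π h) (Pp h)).obj} (m : a ⟶ b)
        (n : b.obj.obj ⟶ uObj Scheme.fppfPrecoverage (stAction R π) Z z), Φ a (m.hom.hom ≫ n) =
          cj J h m.hom.hom * ((Over.map h).map m.hom.hom.base ≫ Φ b n)) :
    ∃ φ : ∀ f : Γ(Z.left, ⊤), (IsUnit (sv (uz z f)) ∨ IsUnit (tvv (uz z f))) → Γ((Dr Z f).left, ⊤),
      ∀ (f g : Γ(Z.left, ⊤)) (hf : IsUnit (sv (uz z f)) ∨ IsUnit (tvv (uz z f)))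
        (hg : IsUnit (sv (uz z g)) ∨ IsUnit (tvv (uz z g)))
        (hfg : Z.left.basicOpen f ≤ Z.left.basicOpen g),
        φ f hf = pe P h (Dr Z f) (evz z hfg) + pb (jz hfg) (φ g hg) := by
  refine ⟨fun f hf => J.rf (Φ (ob h (uz z f) hf) (uzn z f)), fun f g hf hg hfg => ?_⟩
  let m : ob h (uz z f) hf ⟶ ob h (uz z g) hg :=
    ObjectProperty.homMk (ObjectProperty.homMk (uMap (jz hfg) (jz_dr_z z hfg)))
  have h1 := congrArg J.rf (hΦ m (uzn z g))
  have h0 : m.hom.hom ≫ uzn z g = uzn z f := um_uzn z hfg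
  rw [h0] at h1
  refine h1.trans ?_
  have h2 := J.rel (T := (Over.map h).obj (Dr Z f)) (evz z hfg)
    ((Over.map h).map (jz hfg) ≫ Φ (ob h (uz z g) hg) (uzn z g))
  rw [J.rf_comp] at h2
  exact h2

theorem eval₂_zero (J : JR G P) (T : Over S) :
    P.eval₂ T.hom.appTop.hom (0 : Γ(T.left, ⊤)) = 0 := by
  have h := J.rel (T := T) 0 1
  rw [jf_zero, _root_.one_mul] at h
  exact right_eq_add.1 h

/-- The final contradiction. -/
theorem no_ab [IsDomain R] [IsDiscreteValuationRing R] (hπ : Irreducible π) [IsAffine Z.left]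
    [Flat z.left] [Surjective z.left] {d : ℕ} (hd : P.natDegree ≤ d + 1) (hc : IsUnit (P.coeff (d + 1)))
    (a' : Γ((Dr Z (zs z)).left, ⊤)) (b' : Γ((Dr Z (zt z)).left, ⊤))
    (e : pb (jz (hz1 z)) a' = pe P h (Dr Z (zs z * zt z))
      (Ring.inverse (algebraMap R Γ((Dr Z (zs z * zt z)).left, ⊤) π)) +
      pb (jz (hz2 z)) b') : False := by
  letI a1 := (pb (TorsBasis.jc Z (zs z))).toAlgebra
  letI a2 := (pb (TorsBasis.jc Z (zt z))).toAlgebra
  letI a3 := (pb (TorsBasis.jc Z (zs z * zt z))).toAlgebra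
  haveI l1 := TorsBasis.isLoc (T := Z) (zs z)
  haveI l2 := TorsBasis.isLoc (T := Z) (zt z)
  haveI l3 := TorsBasis.isLoc (T := Z) (zs z * zt z)
  have h1 : ∀ x, pb (jz (hz1 z)) (pb (dr Z (zs z)) x) = pb (dr Z (zs z * zt z)) x := by
    intro x
    rw [← pb_comp, jz_dr]
  have h2 : ∀ x, pb (jz (hz2 z)) (pb (dr Z (zt z)) x) = pb (dr Z (zs z * zt z)) x := by
    intro x
    rw [← pb_comp, jz_dr]
  have h3 : pb (dr Z (zs z * zt z)) (zs z * zt z) *
      Ring.inverse (algebraMap R Γ((Dr Z (zs z * zt z)).left, ⊤) π) = 1 := by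
    have hu := isUnit_dr Z (zs z * zt z)
    have h4 : algebraMap R Γ((Dr Z (zs z * zt z)).left, ⊤) π =
        pb (dr Z (zs z * zt z)) (zs z * zt z) :=
      (pb_algebraMap (dr Z (zs z * zt z)) π).symm.trans
        (congrArg (pb (dr Z (zs z * zt z))) (zs_mul_zt z).symm)
    rw [h4]
    exact Ring.mul_inverse_cancel _ hu
  let φ₀ : Γ(S, ⊤) →+* Γ(Z.left, ⊤) := ((Over.map h).obj Z).hom.appTop.hom
  have h5 : ((Over.map h).obj (Dr Z (zs z * zt z))).hom.appTop.hom =
      (pb (dr Z (zs z * zt z))).comp φ₀ := by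
    ext x
    exact congr(CommRingCat.Hom.hom (Scheme.Hom.appTop $((Over.w ((Over.map h).map (dr Z (zs z * zt z)))).symm)) x).trans
      (congr(CommRingCat.Hom.hom $(Scheme.Hom.comp_appTop _ _) x))
  rw [pe, h5, ← Polynomial.eval₂_map] at e
  refine not_comb_z z hπ (GNotAlg.exists_comb_poly (A := Γ(Z.left, ⊤)) (regPair_z z hπ) (regPair_z' z hπ)
    (A₁ := Γ((Dr Z (zs z)).left, ⊤)) (A₂ := Γ((Dr Z (zt z)).left, ⊤))
    (A₃ := Γ((Dr Z (zs z * zt z)).left, ⊤)) (pb (jz (hz1 z))) h1 (pb (jz (hz2 z)))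
    h2 a' b' _ h3 (P.map φ₀) d (Polynomial.natDegree_map_le.trans hd) ?_ e)
  rw [Polynomial.coeff_map]
  exact hc.map φ₀

/-- `B G` is not S-complete. -/
theorem not_lifts [IsDomain R] [IsDiscreteValuationRing R] (hπ : Irreducible π) (J : JR G P)
    {d : ℕ} (hd : P.natDegree ≤ d + 1) (hc : IsUnit (P.coeff (d + 1)))
    [IsAffineHom G.hom] [Flat G.hom] {aX : AlgGrp.Action G (𝟙_ (Over S))} :
    ¬ LiftSq.LiftsUniquely (stIncl Scheme.fppfPrecoverage R π h)
      (FibCat.toSelf (AlgSt.QuotSt Scheme.fppfPrecoverage G aX)) := by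
  intro hl
  obtain ⟨Z, z, hZ, hzf, hzs, Φ, hΦ⟩ := exists_cocycle J hl
  obtain ⟨φ, hφ⟩ := exists_phi z J Φ hΦ
  have ps : IsUnit (sv (uz z (zs z))) := uz_s z (isUnit_dr _ _)
  have pt : IsUnit (tvv (uz z (zt z))) := uz_t z (isUnit_dr _ _)
  have pst : IsUnit (sv (uz z (zs z * zt z))) := uz_s z (huz z)
  have e1 := hφ (zs z * zt z) (zs z) (Or.inl pst) (Or.inl ps) (hz1 z)
  have e2 := hφ (zs z * zt z) (zt z) (Or.inl pst) (Or.inr pt) (hz2 z)
  have e6 : evz z (hz1 z) = 0 := if_pos ps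
  have e7 : evz z (hz2 z) = Ring.inverse (algebraMap R Γ((Dr Z (zs z * zt z)).left, ⊤) π) :=
    (if_neg (not_sv_z z hπ)).trans (if_pos pst)
  rw [e6] at e1
  have e8 : pe P h (Dr Z (zs z * zt z)) 0 = 0 := eval₂_zero J _
  rw [e8, _root_.zero_add] at e1
  rw [e7] at e2
  exact no_ab (h := h) z hπ hd hc (φ (zs z) (Or.inl ps)) (φ (zt z) (Or.inr pt)) (e1.symm.trans e2)

end main

end K942.GNot2
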