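import Groth.Agent.ThetaS.K942.GaFun

/-!
# The objects of the punctured two-branched stack are covered by those where `s` or `t` is invertible
-/

set_option autoImplicit false
set_option linter.dupNamespace false
set_option linter.style.haveILetI false
set_option backward.isDefEq.respectTransparency false
set_option backward.isDefEq.respectTransparency.types false

universe u

open CategoryTheory CategoryTheory.Limits MonoidalCategory CartesianMonoidalCategory MonObj
  AlgebraicGeometry Opposite

namespace K942.GaCov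

open ThetaS K951.Pts EqGeom TrivMor GaTriv TorsGeom K943.QuotAtlas K943.CoverExt GaFun

attribute [local instance] K951.Pts.algΓ

variable {R : Type u} [CommRing R] {π : R}

theorem sv_uObj {Y : Over (Spec (CommRingCat.of R))} (y : Y ⟶ STSch R π)
    (hy : IsUnit (fn (B := STRing R π) y (sFn R π))) :
    IsUnit (sv (uObj Scheme.fppfPrecoverage (stAction R π) Y y)) := by
  have h1 : (uObj Scheme.fppfPrecoverage (stAction R π) Y y).φ =
      lift (fst (Gm R) Y) (snd (Gm R) Y ≫ y) ≫ (stAction R π).act := by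
    change (Gm R ◁ y) ≫ (stAction R π).act = _
    congr 1
  rw [sv, h1, (Coord.fn_stAct _ _).1, fn_comp]
  exact (Coord.isUnit_z _ _).mul (hy.map _)

theorem tv_uObj {Y : Over (Spec (CommRingCat.of R))} (y : Y ⟶ STSch R π)
    (hy : IsUnit (fn (B := STRing R π) y (tFn R π))) :
    IsUnit (tvv (uObj Scheme.fppfPrecoverage (stAction R π) Y y)) := by
  have h1 : (uObj Scheme.fppfPrecoverage (stAction R π) Y y).φ =
      lift (fst (Gm R) Y) (snd (Gm R) Y ≫ y) ≫ (stAction R π).act := by
    change (Gm R ◁ y) ≫ (stAction R π).act = _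
    congr 1
  rw [tvv, h1, (Coord.fn_stAct _ _).2, fn_comp]
  exact (Coord.isUnit_z _ _).mul (hy.map _)

/-- An open subscheme `D(f)` of an object over `Spec R`. -/
noncomputable abbrev Dr (Y : Over (Spec (CommRingCat.of R))) (f : Γ(Y.left, ⊤)) :
    Over (Spec (CommRingCat.of R)) := Over.mk ((Y.left.basicOpen f).ι ≫ Y.hom)

/-- Its inclusion. -/
noncomputable abbrev dr (Y : Over (Spec (CommRingCat.of R))) (f : Γ(Y.left, ⊤)) : Dr Y f ⟶ Y :=
  Over.homMk (Y.left.basicOpen f).ι

theorem isUnit_dr (Y : Over (Spec (CommRingCat.of R))) (f : Γ(Y.left, ⊤)) : IsUnit (pb (dr Y f) f) := by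
  apply GLExt.isUnit_pb
  exact Scheme.Opens.ι_preimage_self _

/-- The object over `D(f)`. -/
noncomputable abbrev bo (B : (STR Scheme.fppfPrecoverage R π).obj) (f : Γ(B.P.left, ⊤)) :
    (STR Scheme.fppfPrecoverage R π).obj :=
  uObj Scheme.fppfPrecoverage (stAction R π) (Dr B.P f) (dr B.P f ≫ B.φ)

/-- Its map to `B`. -/
noncomputable abbrev bm (B : (STR Scheme.fppfPrecoverage R π).obj) (f : Γ(B.P.left, ⊤)) : bo B f ⟶ B :=
  uMap (dr B.P f) rfl ≫ qb B

theorem missesNode_closed {a b : (STR Scheme.fppfPrecoverage R π).obj} (m : a ⟶ b) (hb : MissesNode b) :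
    MissesNode a := by
  rw [Coord.missesNode_eq] at hb ⊢
  have hb' : b.φ.left ⁻¹ᵁ Coord.Ust π = ⊤ := hb
  change a.φ.left ⁻¹ᵁ Coord.Ust π = ⊤
  rw [← m.wφ, Over.comp_left, Scheme.Hom.comp_preimage, hb']
  rfl

variable {S : Scheme.{u}} (h : Spec (CommRingCat.of R) ⟶ S)

instance isFibGrpd_stPunc : FibCat.IsFibGrpd (stPunc Scheme.fppfPrecoverage R π h).p := by
  haveI : FibCat.IsFibGrpd (ST Scheme.fppfPrecoverage R π h).p :=
    K943.QuotCover.isFibGrpd_overS_quot h
  exact isFibGrpd_sub (ℬ := ST Scheme.fppfPrecoverage R π h) (P := MissesNode)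
    (fun _ _ m hb => missesNode_closed m hb)

theorem cov_mem (b : (stPunc Scheme.fppfPrecoverage R π h).obj) :
    cov (ℬ := stPunc Scheme.fppfPrecoverage R π h) (closedInto (h := h)) b ∈
      QuotSh.J Scheme.fppfPrecoverage S ((stPunc Scheme.fppfPrecoverage R π h).p.obj b) := by
  obtain ⟨B, hB⟩ := b
  have h1 := K745.QuotDesc.mem_J_of_locallyTrivial (K := Scheme.fppfPrecoverage)
    ((Over.map h).map B.π) B.loc
  refine GrothendieckTopology.transitive _ h1 _ ?_
  rintro V f ⟨Z, g, r, hr, rfl⟩
  cases hr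
  rw [Sieve.pullback_comp]
  apply GrothendieckTopology.pullback_stable
  -- the two opens
  let V₂ : Bool → Over S := fun i => (Over.map h).obj (Dr B.P (cond i (sv B) (tvv B)))
  let f₂ : ∀ i, V₂ i ⟶ (Over.map h).obj B.P := fun i => (Over.map h).map (dr B.P (cond i (sv B) (tvv B)))
  have h2 : Sieve.ofArrows V₂ f₂ ∈ AlgSp.J S ((Over.map h).obj B.P) := by
    refine K863.Pair.ofArrows_mem_open f₂ (fun i => ?_) (fun x => ?_)
    · change IsOpenImmersion (B.P.left.basicOpen _).ι
      infer_instance
    · have hB' : B.φ.left ⁻¹ᵁ Coord.Ust π = ⊤ := by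
        have := hB
        rw [Coord.missesNode_eq] at this
        exact this
      rw [Coord.preimage_Ust] at hB'
      have hx : x ∈ B.P.left.basicOpen (sv B) ⊔ B.P.left.basicOpen (tvv B) := by
        have : x ∈ (⊤ : B.P.left.Opens) := trivial
        rw [← hB'] at this
        exact this
      rcases hx with hx | hx
      · refine ⟨true, ?_⟩
        change x ∈ Set.range (B.P.left.basicOpen (sv B)).ι
        rw [Scheme.Opens.range_ι]
        exact hx
      · refine ⟨false, ?_⟩
        change x ∈ Set.range (B.P.left.basicOpen (tvv B)).ι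
        rw [Scheme.Opens.range_ι]
        exact hx
  refine GrothendieckTopology.superset_covering _ ?_ h2
  rw [Sieve.ofArrows, Sieve.generate_le_iff]
  rintro W g ⟨i⟩
  refine ⟨⟨bo B (cond i (sv B) (tvv B)), missesNode_closed (bm B _) hB⟩,
    ObjectProperty.homMk (bm B _), ?_, ?_⟩
  · cases i
    · right
      apply tv_uObj
      rw [fn_comp]
      exact isUnit_dr B.P (tvv B)
    · left
      apply sv_uObj
      rw [fn_comp]
      exact isUnit_dr B.P (sv B)
  · exact IsHomLift.map (stPunc Scheme.fppfPrecoverage R π h).p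
      (ObjectProperty.homMk (bm B (cond i (sv B) (tvv B))) :
        (⟨bo B (cond i (sv B) (tvv B)), missesNode_closed (bm B _) hB⟩ :
          (stPunc Scheme.fppfPrecoverage R π h).obj) ⟶ ⟨B, hB⟩)

end K942.GaCov
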