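import Groth.Agent.ThetaS.K942.TorsGeom
import Groth.Agent.ThetaS.K942.EqGeom
import Groth.Agent.Sga3B.GaPts

/-!
# `G_a`-torsors over affine schemes have sections
-/

set_option autoImplicit false
set_option linter.dupNamespace false
set_option linter.style.haveILetI false
set_option backward.isDefEq.respectTransparency false
set_option backward.isDefEq.respectTransparency.types false

universe u

open CategoryTheory CategoryTheory.Limits MonoidalCategory CartesianMonoidalCategory MonObj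
  AlgebraicGeometry Opposite
open scoped TensorProduct

namespace K942.GaTriv

open EqAlg EqGeom TorsGeom

variable {S : Scheme.{u}}

/-- A group scheme whose points are the functions. -/
structure GaStr (G : Over S) [GrpObj G] where
  /-- the function of a point -/
  fn : ∀ {T : Over S}, (T ⟶ G) → Γ(T.left, ⊤)
  comp : ∀ {T T' : Over S} (h : T' ⟶ T) (x : T ⟶ G), fn (h ≫ x) = pb h (fn x)
  mul : ∀ {T : Over S} (x y : T ⟶ G), fn (x * y) = fn x + fn y
  one : ∀ {T : Over S}, fn (1 : T ⟶ G) = 0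
  inj : ∀ {T : Over S} {x y : T ⟶ G}, fn x = fn y → x = y
  surj : ∀ {T : Over S} (c : Γ(T.left, ⊤)), ∃ x : T ⟶ G, fn x = c

open Groth.Agent.Sga3B.GaPts in
/-- The additive group. -/
noncomputable def gaStr (S : Scheme.{u}) : GaStr (Red.Ga S) where
  fn := Red.gaFn
  comp := gaFn_comp
  mul := gaFn_mul
  one := gaFn_one
  inj h := gaFn_injective _ h
  surj c := ⟨gaPt _ c, gaFn_gaPt _ c⟩

variable {G : Over S} [GrpObj G] (γ : GaStr G)

theorem map_two {A B : Type*} [CommRing A] [CommRing B] (f : A →+* B) (x : A) :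
    (!![1, x; 0, 1] : Matrix (Fin 2) (Fin 2) A).map f = !![1, f x; 0, 1] := by
  ext i j
  fin_cases i <;> fin_cases j <;> simp

/-- The two dimensional representation `g ↦ [1 g; 0 1]`. -/
noncomputable def rep2 : MatRep G 2 where
  mat g := !![1, γ.fn g; 0, 1]
  comp v w := by rw [γ.comp, map_two]
  mul w w' := by
    rw [γ.mul, Matrix.mul_fin_two]
    simp [add_comm]
  one := by
    intro W
    ext i j
    fin_cases i <;> fin_cases j <;> simp [γ.one]

/-- The trivial one dimensional representation. -/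
noncomputable def rep1 (G : Over S) [GrpObj G] : MatRep G 1 where
  mat _ := 1
  comp v w := by ext i j; fin_cases i; fin_cases j; simp
  mul w w' := by rw [_root_.one_mul]
  one := rfl

theorem surjective_of_baseChange {A B M M₁ N N₁ : Type u} [CommRing A] [CommRing B] [Algebra A B]
    [Module.FaithfullyFlat A B] [AddCommGroup M] [Module A M] [AddCommGroup M₁] [Module A M₁]
    [AddCommGroup N] [Module A N] [Module B N] [IsScalarTower A B N] [AddCommGroup N₁] [Module A N₁]
    [Module B N₁] [IsScalarTower A B N₁] {f : M →ₗ[A] N} (hf : IsBaseChange B f) {f₁ : M₁ →ₗ[A] N₁}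
    (hf₁ : IsBaseChange B f₁) (j : M →ₗ[A] M₁) (J : N →ₗ[B] N₁) (h : ∀ m, J (f m) = f₁ (j m))
    (hJ : Function.Surjective J) : Function.Surjective j := by
  have key := equiv_baseChange hf hf₁ j J h
  have h1 : Function.Surjective (LinearMap.lTensor B j) := by
    intro y
    obtain ⟨w, hw⟩ := hJ (hf₁.equiv y)
    obtain ⟨z, rfl⟩ := hf.equiv.surjective w
    refine ⟨z, hf₁.equiv.injective ?_⟩
    rw [key, hw]
  exact (Module.FaithfullyFlat.lTensor_surjective_iff_surjective A B j).1 h1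

include γ in
/-- An equivariant function. -/
theorem exists_fn [IsAffineHom G.hom] [Flat G.hom] {P T : Over S} (a : AlgGrp.Action G P) {π : P ⟶ T}
    (hc : IsPullback a.act (snd _ P) π π)
    (hl : NonAbH1.IsLocallyTrivialFor Scheme.fppfPrecoverage (Over.mk π.left : Over T.left))
    [IsAffine T.left] :
    ∃ b : Γ(P.left, ⊤), pb a.act b = pb (snd G P) b + γ.fn (fst G P) := by
  haveI haf : IsAffineHom π.left :=
    K750.QuotAff.isAffineHom_of_torsor Scheme.fppfPrecoverage_le_fpqcPrecoverage a hc hl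
  haveI hfl : Flat π.left := flat_π a hc hl
  haveI hsu : Surjective π.left := surjective_π hl
  haveI : IsAffine P.left := isAffine_of_affineHom π
  haveI hsn : IsAffineHom (snd G P).left := K750.QuotAff.isAffineHom_snd G P
  haveI : IsAffine (G ⊗ P).left := isAffine_of_affineHom (snd G P)
  letI aP : Algebra Γ(T.left, ⊤) Γ(P.left, ⊤) := (pb (π ≫ 𝟙 T)).toAlgebra
  letI aGP : Algebra Γ(T.left, ⊤) Γ((G ⊗ P).left, ⊤) := (pb (snd G P ≫ π ≫ 𝟙 T)).toAlgebra
  haveI : Module.FaithfullyFlat Γ(T.left, ⊤) Γ(P.left, ⊤) := by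
    have h := (Flat.flat_and_surjective_iff_faithfullyFlat_of_isAffine (f := π.left)).1 ⟨hfl, hsu⟩
    have e : (pb (π ≫ 𝟙 T)) = π.left.appTop.hom := by rw [Category.comp_id]
    have h' : (pb (π ≫ 𝟙 T)).FaithfullyFlat := by rw [e]; exact h
    exact h'
  let act : Γ(P.left, ⊤) →ₐ[Γ(T.left, ⊤)] Γ((G ⊗ P).left, ⊤) :=
    { pb a.act with
      commutes' := fun r => by
        change pb a.act (pb (π ≫ 𝟙 T) r) = pb (snd G P ≫ π ≫ 𝟙 T) r
        rw [← pb_comp, ← Category.assoc, hc.w, Category.assoc] }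
  let pr : Γ(P.left, ⊤) →ₐ[Γ(T.left, ⊤)] Γ((G ⊗ P).left, ⊤) :=
    { pb (snd G P) with
      commutes' := fun r => by
        change pb (snd G P) (pb (π ≫ 𝟙 T) r) = pb (snd G P ≫ π ≫ 𝟙 T) r
        rw [← pb_comp] }
  haveI : Flat (𝟙 P ≫ π ≫ 𝟙 T).left := by rw [Category.id_comp, Category.comp_id]; exact hfl
  let f₂ : eqv act pr ((rep2 γ).mat (fst G P)) →ₗ[Γ(T.left, ⊤)] (Fin 2 → Γ(P.left, ⊤)) :=
    Submodule.subtype _
  let f₁ : eqv act pr ((rep1 G).mat (fst G P)) →ₗ[Γ(T.left, ⊤)] (Fin 1 → Γ(P.left, ⊤)) :=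
    Submodule.subtype _
  have h₂ : IsBaseChange Γ(P.left, ⊤) f₂ :=
    isBaseChange_pt (rep2 γ) a hc (𝟙 T) (𝟙 P) rfl rfl (by rw [Category.id_comp]; rfl)
      (fun _ => rfl) (fun _ => rfl) (fun v j => (pb_id _).symm)
  have h₁ : IsBaseChange Γ(P.left, ⊤) f₁ :=
    isBaseChange_pt (rep1 G) a hc (𝟙 T) (𝟙 P) rfl rfl (by rw [Category.id_comp]; rfl)
      (fun _ => rfl) (fun _ => rfl) (fun v j => (pb_id _).symm)
  have hm2 : ∀ v : eqv act pr ((rep2 γ).mat (fst G P)),
      act (v.1 0) = pr (v.1 0) + γ.fn (fst G P) * pr (v.1 1) ∧ act (v.1 1) = pr (v.1 1) := by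
    intro v
    have h := mem_eqv.1 v.2
    have e0 := congrFun h 0
    have e1 := congrFun h 1
    simp only [rep2, Matrix.mulVec, dotProduct, Fin.sum_univ_two, Matrix.of_apply, Matrix.cons_val_zero,
      Matrix.cons_val_one, Matrix.cons_val', _root_.one_mul, zero_mul, zero_add, Matrix.cons_val_fin_one] at e0 e1
    exact ⟨e0, e1⟩
  let j : eqv act pr ((rep2 γ).mat (fst G P)) →ₗ[Γ(T.left, ⊤)] eqv act pr ((rep1 G).mat (fst G P)) :=
    { toFun := fun v => ⟨fun _ => v.1 1, by
        rw [mem_eqv]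
        funext i
        simp only [rep1, Matrix.one_mulVec]
        exact (hm2 v).2⟩
      map_add' := fun v w => rfl
      map_smul' := fun r v => rfl }
  let J : (Fin 2 → Γ(P.left, ⊤)) →ₗ[Γ(P.left, ⊤)] (Fin 1 → Γ(P.left, ⊤)) :=
    LinearMap.pi fun _ => LinearMap.proj 1
  have hj : Function.Surjective j := surjective_of_baseChange h₂ h₁ j J (fun m => rfl) (fun y => by
    refine ⟨fun _ => y 0, ?_⟩
    funext i
    fin_cases i
    rfl)
  obtain ⟨v, hv⟩ := hj ⟨fun _ => 1, by
    rw [mem_eqv]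
    funext i
    simp only [rep1, Matrix.one_mulVec, map_one]⟩
  have hv1 : v.1 1 = 1 := congrFun (congrArg Subtype.val hv) 0
  refine ⟨v.1 0, ?_⟩
  have h3 := (hm2 v).1
  rw [hv1, map_one, _root_.mul_one] at h3
  exact h3

include γ in
/-- Torsors under `G_a` over affine schemes have sections. -/
theorem exists_section [IsAffineHom G.hom] [Flat G.hom] {P T : Over S} (a : AlgGrp.Action G P)
    {π : P ⟶ T} (hc : IsPullback a.act (snd _ P) π π)
    (hl : NonAbH1.IsLocallyTrivialFor Scheme.fppfPrecoverage (Over.mk π.left : Over T.left))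
    [IsAffine T.left] : ∃ s : T ⟶ P, s ≫ π = 𝟙 T := by
  obtain ⟨b, hb⟩ := exists_fn γ a hc hl
  obtain ⟨ε, hε⟩ := γ.surj b
  have h1 : a.act ≫ ε = fst G P * (snd G P ≫ ε) := by
    apply γ.inj
    rw [γ.comp, hε, hb, γ.mul, γ.comp, hε, add_comm]
  have heqv : a.act ≫ lift ε π = (G ◁ lift ε π) ≫ (AlgSt.leftMul G T).act := by
    apply K943.QuotAtlas.eqv_of_sm
    intro Z g p
    rw [K943.QuotAtlas.sm_leftMul, comp_lift, comp_lift, lift_fst, lift_snd]
    have e1 : K943.QuotAtlas.sm a g p ≫ ε = g * (p ≫ ε) := by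
      rw [K943.QuotAtlas.sm, Category.assoc, h1, MonObj.comp_mul, lift_fst, lift_snd_assoc]
    have e2 : K943.QuotAtlas.sm a g p ≫ π = p ≫ π := by
      rw [K943.QuotAtlas.sm, Category.assoc, hc.w, lift_snd_assoc]
    rw [e1, e2]
  have hcart : IsPullback (lift ε π) π (snd G T) (𝟙 T) :=
    K824.BalProd.cart_of_eqv (K := Scheme.fppfPrecoverage) hc (AlgSt.isPullback_leftMul (G := G) T) hl heqv
      (by rw [lift_snd, Category.comp_id])
  exact ⟨hcart.lift (lift 1 (𝟙 T)) (𝟙 T) (by rw [lift_snd, Category.comp_id]), hcart.lift_snd _ _ _⟩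

end K942.GaTriv
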