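import Groth.Agent.ThetaS.K942.TrivMor
import Groth.Agent.ThetaS.K942.GaTriv
import Groth.Agent.ThetaS.K942.GLExt
import Groth.Agent.ThetaS.K943.CoverExt
import Groth.Agent.ThetaS.K943.QuotCover
import Groth.Agent.AlgSt.K745.QuotDesc

/-!
# A functor from the punctured two-branched stack to `B G_a`: the cocycle `1 / π`
-/

set_option autoImplicit false
set_option linter.dupNamespace false
set_option linter.style.haveILetI false
set_option backward.isDefEq.respectTransparency false
set_option backward.isDefEq.respectTransparency.types false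

universe u

open CategoryTheory CategoryTheory.Limits MonoidalCategory CartesianMonoidalCategory MonObj
  AlgebraicGeometry Opposite

namespace K942.GaFun

open ThetaS K951.Pts EqGeom TrivMor GaTriv TorsGeom K943.QuotAtlas K943.CoverExt

attribute [local instance] K951.Pts.algΓ

section fns

variable {R : Type u} [CommRing R] {π : R} {K : Precoverage Scheme.{u}}

/-- The function `s` on the torsor. -/
noncomputable def sv (A : (STR K R π).obj) : Γ(A.P.left, ⊤) := fn (B := STRing R π) A.φ (sFn R π)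

/-- The function `t` on the torsor. -/
noncomputable def tvv (A : (STR K R π).obj) : Γ(A.P.left, ⊤) := fn (B := STRing R π) A.φ (tFn R π)

theorem sv_mor {a b : (STR K R π).obj} (m : a ⟶ b) : sv a = pb m.top (sv b) := by
  rw [sv, ← m.wφ, fn_comp]; rfl

theorem tv_mor {a b : (STR K R π).obj} (m : a ⟶ b) : tvv a = pb m.top (tvv b) := by
  rw [tvv, ← m.wφ, fn_comp]; rfl

theorem isUnit_sv {a b : (STR K R π).obj} (m : a ⟶ b) (h : IsUnit (sv b)) : IsUnit (sv a) := by
  rw [sv_mor m]; exact h.map _

theorem isUnit_tv {a b : (STR K R π).obj} (m : a ⟶ b) (h : IsUnit (tvv b)) : IsUnit (tvv a) := by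
  rw [tv_mor m]; exact h.map _

theorem pb_algebraMap {T W : Over (Spec (CommRingCat.of R))} (f : W ⟶ T) (r : R) :
    pb f (algebraMap R Γ(T.left, ⊤) r) = algebraMap R Γ(W.left, ⊤) r := by
  rw [algebraMap_algΓ, algebraMap_algΓ, ← Over.w f, fnS_comp_apply]

theorem sv_mul_tv (a : (STR K R π).obj) : sv a * tvv a = algebraMap R Γ(a.P.left, ⊤) π := by
  rw [sv, tvv, ← map_mul, sFn_mul_tFn, AlgHom.commutes]

theorem isUnit_of_surj {X Y : Scheme.{u}} (f : X ⟶ Y) [Surjective f] (r : Γ(Y, ⊤))
    (h : IsUnit (f.appTop r)) : IsUnit r := by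
  have h1 := Coord.preimage_basicOpen_top f r
  rw [X.basicOpen_of_isUnit h] at h1
  have h2 : Y.basicOpen r = ⊤ := by
    rw [eq_top_iff]
    intro y _
    obtain ⟨x, rfl⟩ := f.surjective y
    have : x ∈ f ⁻¹ᵁ Y.basicOpen r := by rw [h1]; trivial
    exact this
  have h3 := Hartogs.isUnit_res (X := Y) r (le_refl ⊤) h2.ge
  have h4 : (homOfLE (le_refl (⊤ : Y.Opens))) = 𝟙 _ := rfl
  rw [h4, op_id, Y.presheaf.map_id, CommRingCat.id_apply] at h3
  exact h3

theorem isUnit_π (a : (STR Scheme.fppfPrecoverage R π).obj) (hs : IsUnit (sv a)) (ht : IsUnit (tvv a)) :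
    IsUnit (algebraMap R Γ(a.base.left, ⊤) π) := by
  haveI : Surjective a.π.left := surjective_π a.loc
  apply isUnit_of_surj a.π.left
  have h := pb_algebraMap a.π π
  change IsUnit (pb a.π (algebraMap R Γ(a.base.left, ⊤) π))
  rw [h, ← sv_mul_tv]
  exact hs.mul ht

open Classical in
/-- The cocycle. -/
noncomputable def ev {a b : (STR K R π).obj} (_ : a ⟶ b) : Γ(a.base.left, ⊤) :=
  if IsUnit (sv b) then 0 else
    if IsUnit (sv a) then Ring.inverse (algebraMap R Γ(a.base.left, ⊤) π) else 0

theorem ev_id (a : (STR K R π).obj) : ev (𝟙 a) = 0 := by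
  by_cases h : IsUnit (sv a) <;> simp [ev, h]

theorem map_inverse {A B : Type*} [CommRing A] [CommRing B] (f : A →+* B) {x : A} (hx : IsUnit x) :
    f (Ring.inverse x) = Ring.inverse (f x) := by
  obtain ⟨v, rfl⟩ := hx
  rw [Ring.inverse_unit]
  have : f v = ((Units.map (f : A →* B) v : Bˣ) : B) := rfl
  rw [this, Ring.inverse_unit, ← map_inv]
  rfl

theorem ev_comp {a b c : (STR Scheme.fppfPrecoverage R π).obj} (m : a ⟶ b) (m' : b ⟶ c)
    (hc : IsUnit (sv c) ∨ IsUnit (tvv c)) : ev (m ≫ m') = ev m + pb m.base (ev m') := by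
  by_cases h : IsUnit (sv c)
  · have h1 := isUnit_sv m' h
    simp [ev, h, h1]
  · have htc := hc.resolve_left h
    by_cases hb : IsUnit (sv b)
    · have ha := isUnit_sv m hb
      have hπ := isUnit_π b hb (isUnit_tv m' htc)
      simp only [ev, h, hb, ha, if_true, if_false, _root_.zero_add]
      rw [map_inverse _ hπ, pb_algebraMap]
    · simp only [ev, h, hb, if_false, map_zero, _root_.add_zero]

end fns

section functor

variable {S : Scheme.{u}} {R : Type u} [CommRing R] {π : R} {h : Spec (CommRingCat.of R) ⟶ S}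
  {G : Over S} [GrpObj G] (γ : GaStr G) (aX : AlgGrp.Action G (𝟙_ (Over S)))

/-- The cocycle as a point. -/
noncomputable def cc (h : Spec (CommRingCat.of R) ⟶ S) {a b : (STR Scheme.fppfPrecoverage R π).obj}
    (m : a ⟶ b) : (Over.map h).obj a.base ⟶ G :=
  (γ.surj (T := (Over.map h).obj a.base) (ev m)).choose

theorem fn_cc {a b : (STR Scheme.fppfPrecoverage R π).obj} (m : a ⟶ b) : γ.fn (cc γ h m) = ev m :=
  (γ.surj (T := (Over.map h).obj a.base) (ev m)).choose_spec

theorem cc_id (a : (STR Scheme.fppfPrecoverage R π).obj) : cc γ h (𝟙 a) = 1 := by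
  apply γ.inj
  rw [fn_cc, γ.one, ev_id]

theorem cc_comp {a b c : (STR Scheme.fppfPrecoverage R π).obj} (m : a ⟶ b) (m' : b ⟶ c)
    (hc : IsUnit (sv c) ∨ IsUnit (tvv c)) :
    cc γ h (m ≫ m') = cc γ h m * ((Over.map h).map m.base ≫ cc γ h m') := by
  apply γ.inj
  rw [γ.mul, γ.comp, fn_cc, fn_cc, fn_cc, ev_comp m m' hc]
  rfl

/-- The objects where `s` or `t` is invertible. -/
def Pp (h : Spec (CommRingCat.of R) ⟶ S) : (stPunc Scheme.fppfPrecoverage R π h).obj → Prop :=
  fun b => IsUnit (sv b.obj) ∨ IsUnit (tvv b.obj)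

theorem closedInto : ClosedInto (ℬ := stPunc Scheme.fppfPrecoverage R π h) (Pp h) := by
  rintro a b m (hb | hb)
  · exact Or.inl (isUnit_sv m.hom hb)
  · exact Or.inr (isUnit_tv m.hom hb)

/-- The functor with trivial torsors and cocycle `1 / π`. -/
noncomputable def F0 : sub (stPunc Scheme.fppfPrecoverage R π h) (Pp h) ⥤ᵇ
    AlgSt.QuotSt Scheme.fppfPrecoverage G aX where
  toFunctor :=
    { obj := fun b => tv Scheme.fppfPrecoverage aX ((Over.map h).obj b.obj.obj.base)
      map := fun {a b} m => tr ((Over.map h).map m.hom.hom.base) (cc γ h m.hom.hom)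
      map_id := fun a => by
        change tr ((Over.map h).map (𝟙 _)) (cc γ h (𝟙 a.obj.obj)) = _
        rw [cc_id, (Over.map h).map_id, tr_id]
      map_comp := fun {a b c} m m' => by
        change tr ((Over.map h).map (m.hom.hom.base ≫ m'.hom.hom.base))
          (cc γ h (m.hom.hom ≫ m'.hom.hom)) = _
        rw [cc_comp γ m.hom.hom m'.hom.hom c.property, (Over.map h).map_comp, tr_comp] }
  w := rfl

end functor

end K942.GaFun
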