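import Mathlib.RingTheory.Regular.Flat
import Mathlib.AlgebraicGeometry.Morphisms.Flat
import Mathlib.AlgebraicGeometry.Morphisms.Affine
import Mathlib.Algebra.MvPolynomial.Division
import Groth.Prelude.Def_GmAct

/-!
# Regular pairs and functions on the complement of `V(a, b)`

`RegPair a b`: `a` is a non zero divisor and `b` is a non zero divisor modulo `a`. Stable under flat
extensions (`RegPair.flat`); for `T` affine and `(a, b)` a regular pair of functions,
`Γ(T, ⊤) ⟶ Γ(T, D(a) ∪ D(b))` is bijective (`bijective_res`).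
-/

set_option autoImplicit false
set_option linter.dupNamespace false

universe u

open CategoryTheory AlgebraicGeometry TopologicalSpace Opposite
open scoped Pointwise

namespace K942.RegPair

/-- `a` is a non zero divisor, `b` is a non zero divisor modulo `a`. -/
structure RegPair {A : Type*} [CommRing A] (a b : A) : Prop where
  nzd : ∀ x, a * x = 0 → x = 0
  reg : ∀ x y, b * x = a * y → ∃ z, x = a * z

variable {A B : Type*} [CommRing A] [CommRing B]

namespace RegPair

theorem iff_isWeaklyRegular (a b : A) :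
    RegPair a b ↔ RingTheory.Sequence.IsWeaklyRegular A [a, b] := by
  have hm : ∀ (c x : A), x ∈ (c • ⊤ : Submodule A A) ↔ ∃ z, x = c * z := by
    intro c x
    rw [Submodule.mem_smul_pointwise_iff_exists]
    constructor
    · rintro ⟨z, -, rfl⟩; exact ⟨z, rfl⟩
    · rintro ⟨z, rfl⟩; exact ⟨z, trivial, rfl⟩
  rw [RingTheory.Sequence.isWeaklyRegular_cons_iff, RingTheory.Sequence.isWeaklyRegular_cons_iff,
    isSMulRegular_quotient_iff_mem_of_smul_mem]
  constructor
  · intro h
    refine ⟨?_, ?_, RingTheory.Sequence.IsWeaklyRegular.nil _ _⟩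
    · intro x y (hxy : a * x = a * y)
      exact sub_eq_zero.1 (h.nzd _ (by rw [mul_sub, hxy, sub_self]))
    · intro x hx
      rw [hm] at hx ⊢
      obtain ⟨z, hz⟩ := hx
      exact h.reg x z hz
  · rintro ⟨h1, h2, -⟩
    refine ⟨fun x hx => h1 (by simpa using hx), fun x y hxy => ?_⟩
    rw [← hm]
    exact h2 x ((hm _ _).2 ⟨y, hxy⟩)

theorem pow_left {a b : A} (h : RegPair a b) (n : ℕ) : ∀ x, a ^ n * x = 0 → x = 0 := by
  induction n with
  | zero => intro x hx; simpa using hx
  | succ n ih =>
    intro x hx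
    exact h.nzd x (ih _ (by rw [← mul_assoc, ← pow_succ, hx]))

theorem pow_right {a b : A} (h : RegPair a b) (m : ℕ) : ∀ x y, b ^ m * x = a * y → ∃ z, x = a * z := by
  induction m with
  | zero => intro x y hx; exact ⟨y, by simpa using hx⟩
  | succ m ih =>
    intro x y hx
    obtain ⟨z, hz⟩ := h.reg (b ^ m * x) y (by rw [← hx, pow_succ]; ring)
    exact ih x z hz

theorem pow_pow {a b : A} (h : RegPair a b) (n m : ℕ) :
    ∀ x y, b ^ m * x = a ^ n * y → ∃ z, x = a ^ n * z := by
  induction n with
  | zero => intro x y _; exact ⟨x, by simp⟩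
  | succ n ih =>
    intro x y hx
    obtain ⟨x', rfl⟩ := h.pow_right m x (a ^ n * y) (by rw [hx, pow_succ]; ring)
    obtain ⟨z, rfl⟩ := ih x' y (by
      have : a * (b ^ m * x' - a ^ n * y) = 0 := by
        rw [mul_sub, ← mul_assoc, mul_comm a (b ^ m), mul_assoc, hx, pow_succ]; ring
      exact sub_eq_zero.1 (h.nzd _ this))
    exact ⟨z, by rw [pow_succ]; ring⟩

theorem map_flat [Algebra A B] [Module.Flat A B] {a b : A} (h : RegPair a b) :
    RegPair (algebraMap A B a) (algebraMap A B b) := by
  rw [iff_isWeaklyRegular] at h ⊢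
  exact RingTheory.Sequence.IsWeaklyRegular.of_flat h

/-- The pair `(x, ϖ)` of `R[x]`. -/
theorem X_C {R : Type*} [CommRing R] [IsDomain R] {ϖ : R} (h : ϖ ≠ 0) :
    RegPair (Polynomial.X : Polynomial R) (Polynomial.C ϖ) := by
  refine ⟨fun x hx => ?_, fun x y hxy => ?_⟩
  · exact (mul_eq_zero.1 hx).resolve_left Polynomial.X_ne_zero
  · have h1 := congrArg (Polynomial.eval 0) hxy
    simp only [Polynomial.eval_mul, Polynomial.eval_C, Polynomial.eval_X, zero_mul, mul_eq_zero, h,
      false_or] at h1
    exact Polynomial.X_dvd_iff.2 (by rwa [Polynomial.coeff_zero_eq_eval_zero])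

open ThetaS in
/-- The pair `(s, t)` of `R[s, t]/(st − π)`. -/
theorem s_t {R : Type u} [CommRing R] [IsDomain R] {π : R} (h : π ≠ 0) :
    RegPair (sFn R π) (tFn R π) := by
  set I : Ideal (MvPolynomial (Fin 2) R) :=
    Ideal.span {(MvPolynomial.X 0 * MvPolynomial.X 1 - MvPolynomial.C π : MvPolynomial (Fin 2) R)} with hI
  have hrel : (Ideal.Quotient.mk I (MvPolynomial.C π)) = sFn R π * tFn R π := by
    rw [sFn, tFn, ← map_mul, eq_comm, Ideal.Quotient.mk_eq_mk_iff_sub_mem]
    exact Ideal.subset_span rfl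
  refine ⟨fun x hx => ?_, fun x y hxy => ?_⟩
  · obtain ⟨f, rfl⟩ := Ideal.Quotient.mk_surjective x
    rw [sFn, ← map_mul, Ideal.Quotient.eq_zero_iff_mem, Ideal.mem_span_singleton'] at hx
    obtain ⟨g, hg⟩ := hx
    have hp : Prime (MvPolynomial.X 0 : MvPolynomial (Fin 2) R) := MvPolynomial.X_prime
    have h1 : (MvPolynomial.X 0 : MvPolynomial (Fin 2) R) ∣ g * MvPolynomial.C π :=
      ⟨g * MvPolynomial.X 1 - f, by linear_combination -hg⟩
    have h2 : ¬ (MvPolynomial.X 0 : MvPolynomial (Fin 2) R) ∣ MvPolynomial.C π := by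
      rintro ⟨c, hc⟩
      have := congrArg (MvPolynomial.eval (0 : Fin 2 → R)) hc
      simp at this
      exact h this
    obtain ⟨g', rfl⟩ := (hp.dvd_or_dvd h1).resolve_right h2
    rw [Ideal.Quotient.eq_zero_iff_mem, Ideal.mem_span_singleton']
    refine ⟨g', mul_left_cancel₀ hp.ne_zero ?_⟩
    linear_combination hg
  · obtain ⟨f, rfl⟩ := Ideal.Quotient.mk_surjective x
    obtain ⟨y, rfl⟩ := Ideal.Quotient.mk_surjective y
    rw [sFn, tFn, ← map_mul, ← map_mul, Ideal.Quotient.mk_eq_mk_iff_sub_mem,
      Ideal.mem_span_singleton'] at hxy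
    obtain ⟨g, hg⟩ := hxy
    let ev : MvPolynomial (Fin 2) R →ₐ[R] Polynomial R := MvPolynomial.aeval ![0, Polynomial.X]
    let ι : Polynomial R →ₐ[R] MvPolynomial (Fin 2) R := Polynomial.aeval (MvPolynomial.X 1)
    have hker : ∀ f : MvPolynomial (Fin 2) R, (MvPolynomial.X 0 : MvPolynomial (Fin 2) R) ∣ f - ι (ev f) := by
      intro f
      rw [← Ideal.mem_span_singleton, ← Ideal.Quotient.mk_eq_mk_iff_sub_mem]
      have : (Ideal.Quotient.mkₐ R (Ideal.span {(MvPolynomial.X 0 : MvPolynomial (Fin 2) R)})) =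
          ((Ideal.Quotient.mkₐ R (Ideal.span {(MvPolynomial.X 0 : MvPolynomial (Fin 2) R)})).comp ι).comp ev := by
        apply MvPolynomial.algHom_ext
        intro i
        fin_cases i
        · simp only [ev, ι, AlgHom.comp_apply, MvPolynomial.aeval_X, Fin.zero_eta, Matrix.cons_val_zero, map_zero]
          rw [Ideal.Quotient.mkₐ_eq_mk, Ideal.Quotient.eq_zero_iff_mem]
          exact Ideal.mem_span_singleton_self _
        · simp [ev, ι]
      exact congrArg (fun k => k f) this
    have h0 : Polynomial.X * ev f + Polynomial.C π * ev g = 0 := by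
      have := congrArg ev hg
      simp only [map_mul, map_sub, ev, MvPolynomial.aeval_X, MvPolynomial.algHom_C] at this
      simp only [Matrix.cons_val_zero, Matrix.cons_val_one, zero_mul, zero_sub, sub_zero,
        Polynomial.algebraMap_eq] at this
      linear_combination -this
    obtain ⟨g1, hg1⟩ : Polynomial.X ∣ ev g := by
      have h3 : (Polynomial.X : Polynomial R) ∣ Polynomial.C π * ev g :=
        ⟨- ev f, by linear_combination h0⟩
      refine (Polynomial.prime_X.dvd_or_dvd h3).resolve_left ?_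
      rw [Polynomial.X_dvd_iff]
      simpa using h
    have hf1 : ev f = - Polynomial.C π * g1 := by
      rw [hg1] at h0
      refine mul_left_cancel₀ Polynomial.X_ne_zero ?_
      linear_combination h0
    obtain ⟨z, hz⟩ := hker f
    refine ⟨Ideal.Quotient.mk I (z - MvPolynomial.X 1 * ι g1), ?_⟩
    have hιC : ι (Polynomial.C π) = MvPolynomial.C π := by simp [ι]
    have hf : f = MvPolynomial.X 0 * z - MvPolynomial.C π * ι g1 := by
      rw [hf1, map_mul, map_neg, hιC] at hz
      linear_combination hz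
    rw [hf, map_sub, map_sub, map_mul, map_mul, hrel, map_mul, sFn, tFn]
    ring

end RegPair

end K942.RegPair
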