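import Groth.Agent.ThetaS.K942.TorsGeom
import Groth.Agent.ThetaS.K942.EqGeom
import Groth.Agent.ThetaS.K942.SchReg
import Groth.Agent.ThetaS.K942.Frame

/-!
# Bases of equivariant vectors near the closed point

`exists_basis`: a torsor over the complement `D(a) ∪ D(b)` of a regular closed point of an affine
surface, with a matrix representation of the group, has a basis of equivariant vectors of functions
over the intersection with `D(h)`, `h ≡ 1 mod a`.
-/

set_option autoImplicit false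
set_option linter.dupNamespace false
set_option linter.style.haveILetI false
set_option backward.isDefEq.respectTransparency false
set_option backward.isDefEq.respectTransparency.types false

universe u

open CategoryTheory CategoryTheory.Limits MonoidalCategory CartesianMonoidalCategory MonObj
  AlgebraicGeometry Opposite

namespace K942.TorsBasis

open EqAlg EqGeom RegPair TorsGeom

variable {S : Scheme.{u}}

section Loc

variable {P T : Over S} (p : P ⟶ T) (c : Γ(T.left, ⊤))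

/-- The basic open `D(c)`. -/
noncomputable abbrev Dc (T : Over S) (c : Γ(T.left, ⊤)) : Over S :=
  Over.mk ((T.left.basicOpen c).ι ≫ T.hom)

/-- Its inclusion. -/
noncomputable abbrev jc (T : Over S) (c : Γ(T.left, ⊤)) : Dc T c ⟶ T :=
  Over.homMk (T.left.basicOpen c).ι

/-- The preimage of `D(c)`. -/
noncomputable abbrev Qc : Over S := Over.mk ((p.left ⁻¹ᵁ T.left.basicOpen c).ι ≫ P.hom)

/-- Its inclusion. -/
noncomputable abbrev sc : Qc p c ⟶ P := Over.homMk (p.left ⁻¹ᵁ T.left.basicOpen c).ι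

/-- The projection. -/
noncomputable abbrev qc : Qc p c ⟶ Dc T c := Over.homMk (p.left ∣_ T.left.basicOpen c) (by
  change (p.left ∣_ T.left.basicOpen c) ≫ (T.left.basicOpen c).ι ≫ T.hom = _
  rw [← Category.assoc, morphismRestrict_ι, Category.assoc, Over.w p]; rfl)

theorem qc_jc : qc p c ≫ jc T c = sc p c ≫ p := by
  apply Over.OverMorphism.ext
  exact morphismRestrict_ι p.left (T.left.basicOpen c)

theorem isLoc [IsAffine T.left] :
    letI := (pb (jc T c)).toAlgebra
    IsLocalization.Away c Γ((Dc T c).left, ⊤) := by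
  have h := (isAffineOpen_top T.left).isLocalization_of_eq_basicOpen c
    (V := (T.left.basicOpen c).ι ''ᵁ ⊤) (homOfLE le_top) (Scheme.Opens.ι_image_top _)
  have e : pb (jc T c) = (T.left.presheaf.map (homOfLE le_top :
      (T.left.basicOpen c).ι ''ᵁ ⊤ ⟶ ⊤).op).hom := by
    change (T.left.basicOpen c).ι.appTop.hom = _
    rw [Scheme.Opens.ι_appTop]
  rw [e]
  exact h

instance isAffine_Dc [IsAffine T.left] : IsAffine (Dc T c).left :=
  (isAffineOpen_top T.left).basicOpen c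

theorem ff_qc [IsAffine T.left] [IsAffine (Qc p c).left] [Flat p.left]
    (hs : ∀ t ∈ T.left.basicOpen c, t ∈ Set.range p.left) : (pb (qc p c)).FaithfullyFlat := by
  refine (Flat.flat_and_surjective_iff_faithfullyFlat_of_isAffine (f := (qc p c).left)).1 ⟨?_, ⟨?_⟩⟩
  · change Flat (p.left ∣_ T.left.basicOpen c)
    infer_instance
  · rintro ⟨t, ht⟩
    obtain ⟨z, hz⟩ := hs t ht
    refine ⟨⟨z, ?_⟩, ?_⟩
    · change p.left z ∈ T.left.basicOpen c
      rw [hz]; exact ht
    · apply Subtype.ext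
      change ((p.left ∣_ T.left.basicOpen c) _).1 = t
      rw [morphismRestrict_base_coe]
      exact hz

theorem mem_range_sc {z : P.left} (hz : p.left z ∈ T.left.basicOpen c) : z ∈ Set.range (sc p c).left := by
  change z ∈ Set.range (p.left ⁻¹ᵁ T.left.basicOpen c).ι
  rw [Scheme.Opens.range_ι]
  exact hz

theorem mem_det {n : ℕ} {h : Γ(T.left, ⊤)} {E : Matrix (Fin n) (Fin n) Γ(P.left, ⊤)}
    (hd : (E.map (pb (sc p c))).det ∣ (pb (sc p c ≫ p) h) ^ n) {z : P.left}
    (hz : p.left z ∈ T.left.basicOpen c) (hz' : p.left z ∈ T.left.basicOpen h) :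
    z ∈ P.left.basicOpen E.det := by
  obtain ⟨w, rfl⟩ := mem_range_sc p c hz
  have h1 : w ∈ (Qc p c).left.basicOpen (pb (sc p c ≫ p) h) := by
    have := Coord.preimage_basicOpen_top (sc p c ≫ p).left h
    change w ∈ (Qc p c).left.basicOpen ((sc p c ≫ p).left.appTop h)
    rw [← this]
    exact hz'
  have h2 : w ∈ (Qc p c).left.basicOpen ((E.map (pb (sc p c))).det) := by
    rw [Scheme.mem_basicOpen_top] at h1 ⊢
    refine isUnit_of_dvd_unit (map_dvd _ hd) ?_
    rw [map_pow]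
    exact h1.pow n
  have h3 : (E.map (pb (sc p c))).det = pb (sc p c) E.det := by
    rw [RingHom.map_det]; rfl
  rw [h3] at h2
  have h4 := Coord.preimage_basicOpen_top (sc p c).left E.det
  change w ∈ (Qc p c).left.basicOpen ((sc p c).left.appTop E.det) at h2
  rw [← h4] at h2
  exact h2

end Loc

variable {G : Over S} [GrpObj G] {n : ℕ} (ρ : MatRep G n) {X : Over S} {aX : AlgGrp.Action G X}

theorem compact_qs {A B : Over S} (f : A ⟶ B) [IsAffineHom f.left] [CompactSpace B.left]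
    [QuasiSeparatedSpace B.left] : CompactSpace A.left ∧ QuasiSeparatedSpace A.left :=
  ⟨QuasiCompact.compactSpace_of_compactSpace f.left, quasiSeparatedSpace_of_quasiSeparated f.left⟩

theorem exists_basis [IsAffineHom G.hom] [Flat G.hom] (x : AlgSt.QuotObj Scheme.fppfPrecoverage G aX)
    {T : Over S} (i : x.base ⟶ T) [IsOpenImmersion i.left] [IsAffine T.left] {a b : Γ(T.left, ⊤)}
    (hi : i.left.opensRange = T.left.basicOpen a ⊔ T.left.basicOpen b) (hab : RegPair a b)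
    [IsDomain Γ(T.left, ⊤)] [IsNoetherianRing Γ(T.left, ⊤)] [IsDomain (Γ(T.left, ⊤) ⧸ Ideal.span {a})]
    [IsPrincipalIdealRing (Γ(T.left, ⊤) ⧸ Ideal.span {a})] :
    ∃ (E : Matrix (Fin n) (Fin n) Γ(x.P.left, ⊤)) (h : Γ(T.left, ⊤)), h - 1 ∈ Ideal.span {a} ∧
      E.map (pb x.act.act) = ρ.mat (fst G x.P) * E.map (pb (snd G x.P)) ∧
      (x.π ≫ i).left ⁻¹ᵁ T.left.basicOpen h ≤ x.P.left.basicOpen E.det := by
  -- generalities on `P`
  haveI haf : IsAffineHom x.π.left :=
    K750.QuotAff.isAffineHom_quotObj Scheme.fppfPrecoverage_le_fpqcPrecoverage x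
  haveI hfl : Flat x.π.left := flat_π x.act x.cart x.loc
  haveI hsu : Surjective x.π.left := surjective_π x.loc
  haveI hpf : Flat (x.π ≫ i).left := by rw [Over.comp_left]; infer_instance
  haveI hsn : IsAffineHom (snd G x.P).left := K750.QuotAff.isAffineHom_snd G x.P
  haveI hsf : Flat (snd G x.P).left := by
    have h := (AlgSt.isPullback_fst_snd G x.P).map (Over.forget S)
    have h' : IsPullback (fst G x.P).left (snd G x.P).left (toUnit G).left (toUnit x.P).left := h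
    have h'' : Flat (toUnit G).left := by
      have : (toUnit G).left = G.hom := by simp
      rw [this]; infer_instance
    exact MorphismProperty.of_isPullback h' h''
  haveI hpf2 : Flat (snd G x.P ≫ x.π ≫ i).left := by rw [Over.comp_left]; infer_instance
  haveI : Mono i.left := inferInstance
  haveI hmono : Mono i := Over.mono_of_mono_left i
  haveI : CompactSpace x.base.left := by
    have h1 : IsCompact (Set.range i.left) := by
      have h2 : (i.left.opensRange : Set T.left) = Set.range i.left := rfl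
      rw [← h2, hi]
      exact ((isAffineOpen_top T.left).basicOpen a).isCompact.union
        ((isAffineOpen_top T.left).basicOpen b).isCompact
    rw [← Set.image_univ] at h1
    exact isCompact_univ_iff.1 (i.left.isOpenEmbedding.isInducing.isCompact_iff.2 h1)
  haveI : QuasiSeparatedSpace x.base.left := quasiSeparatedSpace_of_quasiSeparated i.left
  obtain ⟨hc1, hc2⟩ := compact_qs x.π
  obtain ⟨hc3, hc4⟩ := compact_qs (snd G x.P)
  -- the algebras
  letI aP : Algebra Γ(T.left, ⊤) Γ(x.P.left, ⊤) := (pb (x.π ≫ i)).toAlgebra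
  letI aGP : Algebra Γ(T.left, ⊤) Γ((G ⊗ x.P).left, ⊤) := (pb (snd G x.P ≫ x.π ≫ i)).toAlgebra
  let act : Γ(x.P.left, ⊤) →ₐ[Γ(T.left, ⊤)] Γ((G ⊗ x.P).left, ⊤) :=
    { pb x.act.act with
      commutes' := fun r => by
        change pb x.act.act (pb (x.π ≫ i) r) = pb (snd G x.P ≫ x.π ≫ i) r
        rw [← pb_comp, ← Category.assoc, x.cart.w, Category.assoc] }
  let pr : Γ(x.P.left, ⊤) →ₐ[Γ(T.left, ⊤)] Γ((G ⊗ x.P).left, ⊤) :=
    { pb (snd G x.P) with
      commutes' := fun r => by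
        change pb (snd G x.P) (pb (x.π ≫ i) r) = pb (snd G x.P ≫ x.π ≫ i) r
        rw [← pb_comp] }
  -- regularity
  have r1 : RegPair (pb (x.π ≫ i) a) (pb (x.π ≫ i) b) := SchReg.regPair_flat (x.π ≫ i).left hab
  have r2 : RegPair (pb (snd G x.P ≫ x.π ≫ i) a) (pb (snd G x.P ≫ x.π ≫ i) b) :=
    SchReg.regPair_flat (snd G x.P ≫ x.π ≫ i).left hab
  have s1 : ∀ (r : Γ(T.left, ⊤)) (c : Γ(x.P.left, ⊤)), r • c = pb (x.π ≫ i) r * c := fun _ _ => rfl
  have s2 : ∀ (r : Γ(T.left, ⊤)) (c : Γ((G ⊗ x.P).left, ⊤)), r • c = pb (snd G x.P ≫ x.π ≫ i) r * c :=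
    fun _ _ => rfl
  have h1 : ∀ u : eqv act pr (ρ.mat (fst G x.P)), a • u = 0 → u = 0 := by
    intro u hu
    apply Subtype.ext
    funext j
    apply r1.nzd
    rw [← s1]
    exact congrFun (congrArg Subtype.val hu) j
  have h2 : ∀ u w : eqv act pr (ρ.mat (fst G x.P)), b • u = a • w → ∃ v, u = a • v := by
    intro u w huw
    have e1 : ∀ j, ∃ v, u.1 j = pb (x.π ≫ i) a * v := fun j => by
      apply r1.reg (u.1 j) (w.1 j)
      rw [← s1, ← s1]
      exact congrFun (congrArg Subtype.val huw) j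
    choose v hv using e1
    have e3 : u.1 = a • v := funext fun j => hv j
    have e2 : v ∈ eqv act pr (ρ.mat (fst G x.P)) := by
      refine mem_eqv_of_smul (fun c hc => r2.nzd c (by rw [← s2]; exact hc)) (a := a) ?_
      rw [← e3]
      exact u.2
    exact ⟨⟨v, e2⟩, Subtype.ext (funext fun j => hv j)⟩
  -- the two charts
  have hle : ∀ c : Γ(T.left, ⊤), T.left.basicOpen c ≤ i.left.opensRange →
      IsAffine (Qc (x.π ≫ i) c).left := by
    intro c hc
    have e1 : IsAffineOpen (i.left ⁻¹ᵁ T.left.basicOpen c) :=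
      ((isAffineOpen_top T.left).basicOpen c).preimage_of_isOpenImmersion i.left hc
    exact e1.preimage x.π.left
  have hra : T.left.basicOpen a ≤ i.left.opensRange := hi ▸ le_sup_left
  have hrb : T.left.basicOpen b ≤ i.left.opensRange := hi ▸ le_sup_right
  have hsurj : ∀ t ∈ i.left.opensRange, t ∈ Set.range (x.π ≫ i).left := by
    rintro _ ⟨v, rfl⟩
    obtain ⟨z, hz⟩ := x.π.left.surjective v
    exact ⟨z, by rw [← hz]; rfl⟩
  haveI ia := hle a hra
  haveI ib := hle b hrb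
  letI a1 : Algebra Γ(T.left, ⊤) Γ((Dc T a).left, ⊤) := (pb (jc T a)).toAlgebra
  letI a2 : Algebra Γ(T.left, ⊤) Γ((Qc (x.π ≫ i) a).left, ⊤) := (pb (sc (x.π ≫ i) a ≫ x.π ≫ i)).toAlgebra
  letI a3 : Algebra Γ((Dc T a).left, ⊤) Γ((Qc (x.π ≫ i) a).left, ⊤) := (pb (qc (x.π ≫ i) a)).toAlgebra
  letI b1 : Algebra Γ(T.left, ⊤) Γ((Dc T b).left, ⊤) := (pb (jc T b)).toAlgebra
  letI b2 : Algebra Γ(T.left, ⊤) Γ((Qc (x.π ≫ i) b).left, ⊤) := (pb (sc (x.π ≫ i) b ≫ x.π ≫ i)).toAlgebra
  letI b3 : Algebra Γ((Dc T b).left, ⊤) Γ((Qc (x.π ≫ i) b).left, ⊤) := (pb (qc (x.π ≫ i) b)).toAlgebra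
  haveI a4 : IsScalarTower Γ(T.left, ⊤) Γ((Dc T a).left, ⊤) Γ((Qc (x.π ≫ i) a).left, ⊤) :=
    .of_algebraMap_eq (fun r => by
      change pb (sc (x.π ≫ i) a ≫ x.π ≫ i) r = pb (qc (x.π ≫ i) a) (pb (jc T a) r)
      rw [← pb_comp, qc_jc])
  haveI b4 : IsScalarTower Γ(T.left, ⊤) Γ((Dc T b).left, ⊤) Γ((Qc (x.π ≫ i) b).left, ⊤) :=
    .of_algebraMap_eq (fun r => by
      change pb (sc (x.π ≫ i) b ≫ x.π ≫ i) r = pb (qc (x.π ≫ i) b) (pb (jc T b) r)
      rw [← pb_comp, qc_jc])
  haveI a5 : Module.FaithfullyFlat Γ((Dc T a).left, ⊤) Γ((Qc (x.π ≫ i) a).left, ⊤) :=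
    ff_qc (x.π ≫ i) a (fun t ht => hsurj t (hra ht))
  haveI b5 : Module.FaithfullyFlat Γ((Dc T b).left, ⊤) Γ((Qc (x.π ≫ i) b).left, ⊤) :=
    ff_qc (x.π ≫ i) b (fun t ht => hsurj t (hrb ht))
  haveI a6 : IsLocalization.Away a Γ((Dc T a).left, ⊤) := isLoc a
  haveI b6 : IsLocalization.Away b Γ((Dc T b).left, ⊤) := isLoc b
  haveI a7 : Flat (sc (x.π ≫ i) a ≫ x.π ≫ i).left := by
    rw [Over.comp_left]
    change Flat (((x.π ≫ i).left ⁻¹ᵁ T.left.basicOpen a).ι ≫ (x.π ≫ i).left)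
    infer_instance
  haveI b7 : Flat (sc (x.π ≫ i) b ≫ x.π ≫ i).left := by
    rw [Over.comp_left]
    change Flat (((x.π ≫ i).left ⁻¹ᵁ T.left.basicOpen b).ι ≫ (x.π ≫ i).left)
    infer_instance
  let fa : eqv act pr (ρ.mat (fst G x.P)) →ₗ[Γ(T.left, ⊤)] (Fin n → Γ((Qc (x.π ≫ i) a).left, ⊤)) :=
    { toFun := fun v j => pb (sc (x.π ≫ i) a) (v.1 j)
      map_add' := fun v w => funext fun j => map_add _ _ _
      map_smul' := fun r v => funext fun j => by
        change pb (sc (x.π ≫ i) a) (pb (x.π ≫ i) r * v.1 j) =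
          pb (sc (x.π ≫ i) a ≫ x.π ≫ i) r * pb (sc (x.π ≫ i) a) (v.1 j)
        rw [map_mul, ← pb_comp] }
  let fb : eqv act pr (ρ.mat (fst G x.P)) →ₗ[Γ(T.left, ⊤)] (Fin n → Γ((Qc (x.π ≫ i) b).left, ⊤)) :=
    { toFun := fun v j => pb (sc (x.π ≫ i) b) (v.1 j)
      map_add' := fun v w => funext fun j => map_add _ _ _
      map_smul' := fun r v => funext fun j => by
        change pb (sc (x.π ≫ i) b) (pb (x.π ≫ i) r * v.1 j) =
          pb (sc (x.π ≫ i) b ≫ x.π ≫ i) r * pb (sc (x.π ≫ i) b) (v.1 j)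
        rw [map_mul, ← pb_comp] }
  have hfa : IsBaseChange Γ((Qc (x.π ≫ i) a).left, ⊤) fa :=
    isBaseChange_pt ρ x.act x.cart i (sc (x.π ≫ i) a) rfl rfl rfl (fun _ => rfl) (fun _ => rfl)
      (fun _ _ => rfl)
  have hfb : IsBaseChange Γ((Qc (x.π ≫ i) b).left, ⊤) fb :=
    isBaseChange_pt ρ x.act x.cart i (sc (x.π ≫ i) b) rfl rfl rfl (fun _ => rfl) (fun _ => rfl)
      (fun _ _ => rfl)
  obtain ⟨e, h, hh, hda, hdb⟩ := Frame.exists_frame hab h1 h2 Γ((Dc T a).left, ⊤)
    Γ((Qc (x.π ≫ i) a).left, ⊤) Γ((Dc T b).left, ⊤) Γ((Qc (x.π ≫ i) b).left, ⊤) hfa hfb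
  refine ⟨Matrix.of fun j k => (e k).1 j, h, hh, ?_, ?_⟩
  · ext j k
    exact congrFun (mem_eqv.1 (e k).2) j
  · intro z hz
    have h3 : (x.π ≫ i).left z ∈ i.left.opensRange := ⟨x.π.left z, rfl⟩
    rw [hi] at h3
    rcases h3 with h3 | h3
    · exact mem_det (x.π ≫ i) a hda h3 hz
    · exact mem_det (x.π ≫ i) b hdb h3 hz

end K942.TorsBasis
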