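import Groth.Agent.ThetaS.K943.QuotAtlas
import Groth.Agent.ThetaS.K942.TorsGeom

/-!
# Morphisms between trivial torsors in a quotient stack `[pt/G]`
-/

set_option autoImplicit false
set_option linter.dupNamespace false
set_option linter.style.haveILetI false
set_option backward.isDefEq.respectTransparency false
set_option backward.isDefEq.respectTransparency.types false

universe u

open CategoryTheory CategoryTheory.Limits MonoidalCategory CartesianMonoidalCategory MonObj
  AlgebraicGeometry Opposite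

namespace K942.TrivMor

open K943.QuotAtlas

variable {S : Scheme.{u}} {G : Over S} [GrpObj G] {K : Precoverage Scheme.{u}} [K.HasIsos]
  {aX : AlgGrp.Action G (𝟙_ (Over S))}

/-- The trivial torsor. -/
noncomputable abbrev tv (K : Precoverage Scheme.{u}) [K.HasIsos] (aX : AlgGrp.Action G (𝟙_ (Over S)))
    (T : Over S) : AlgSt.QuotObj K G aX := uObj K aX T (toUnit T)

/-- The translation `(g, t) ↦ (g · c(t), f(t))`. -/
noncomputable def trTop {T T' : Over S} (f : T ⟶ T') (c : T ⟶ G) : G ⊗ T ⟶ G ⊗ T' :=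
  lift (fst G T * (snd G T ≫ c)) (snd G T ≫ f)

theorem trTop_eqv {T T' : Over S} (f : T ⟶ T') (c : T ⟶ G) :
    (AlgSt.leftMul G T).act ≫ trTop f c = (G ◁ trTop f c) ≫ (AlgSt.leftMul G T').act := by
  apply eqv_of_sm
  intro Z g x
  rw [sm_leftMul, sm_leftMul, trTop]
  simp only [comp_lift, comp_mul, lift_fst, lift_snd, lift_snd_assoc, Category.assoc]
  rw [_root_.mul_assoc]

theorem trTop_cart {T T' : Over S} (f : T ⟶ T') (c : T ⟶ G) :
    IsPullback (trTop f c) (snd G T) (snd G T') f := by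
  refine ⟨⟨lift_snd _ _⟩, ⟨PullbackCone.IsLimit.mk _ (fun s => lift ((s.fst ≫ fst G T') * (s.snd ≫ c)⁻¹) s.snd)
    (fun s => ?_) (fun s => ?_) (fun s m h1 h2 => ?_)⟩⟩
  · rw [trTop]
    apply CartesianMonoidalCategory.hom_ext
    · simp only [comp_lift, comp_mul, lift_fst, lift_snd_assoc]
      rw [inv_mul_cancel_right]
    · simp only [comp_lift, lift_snd, lift_snd_assoc]
      exact s.condition.symm
  · exact lift_snd _ _
  · apply CartesianMonoidalCategory.hom_ext
    · rw [lift_fst, ← h1, ← h2, trTop]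
      simp only [comp_lift, comp_mul, lift_fst, Category.assoc]
      rw [mul_inv_cancel_right]
    · rw [lift_snd]; exact h2

/-- The morphism of trivial torsors. -/
noncomputable def tr {T T' : Over S} (f : T ⟶ T') (c : T ⟶ G) : tv K aX T ⟶ tv K aX T' where
  base := f
  top := trTop f c
  eqv := trTop_eqv f c
  cart := trTop_cart f c
  wφ := Subsingleton.elim _ _

theorem tr_base {T T' : Over S} (f : T ⟶ T') (c : T ⟶ G) : (tr (K := K) (aX := aX) f c).base = f := rfl

theorem tr_comp {T T' T'' : Over S} (f : T ⟶ T') (c : T ⟶ G) (f' : T' ⟶ T'') (c' : T' ⟶ G) :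
    tr (K := K) (aX := aX) f c ≫ tr f' c' = tr (f ≫ f') (c * (f ≫ c')) := by
  refine AlgSt.QuotObj.hom_ext rfl ?_
  change trTop f c ≫ trTop f' c' = trTop (f ≫ f') (c * (f ≫ c'))
  simp only [trTop, comp_lift, comp_mul, lift_fst, lift_snd_assoc, Category.assoc, _root_.mul_assoc]

theorem tr_id (T : Over S) : tr (K := K) (aX := aX) (𝟙 T) 1 = 𝟙 _ := by
  refine AlgSt.QuotObj.hom_ext rfl ?_
  change trTop (𝟙 T) 1 = 𝟙 (G ⊗ T)
  simp only [trTop, comp_one, _root_.mul_one, Category.comp_id, lift_fst_snd]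

/-- The cocycle of a morphism of trivial torsors. -/
noncomputable def al {T T' : Over S} (n : tv K aX T ⟶ tv K aX T') : T ⟶ G :=
  lift (1 : T ⟶ G) (𝟙 T) ≫ toG n

theorem al_tr {T T' : Over S} (f : T ⟶ T') (c : T ⟶ G) : al (tr (K := K) (aX := aX) f c) = c := by
  change lift (1 : T ⟶ G) (𝟙 T) ≫ trTop f c ≫ fst G T' = c
  simp only [trTop, lift_fst, comp_mul, lift_snd_assoc, Category.id_comp, _root_.one_mul]

theorem toG_eq {T T' : Over S} (n : tv K aX T ⟶ tv K aX T') :
    toG n = fst G T * (snd G T ≫ al n) := by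
  have h := toG_sm n (fst G T) (snd G T ≫ lift (1 : T ⟶ G) (𝟙 T))
  have e1 : sm (tv K aX T).act (fst G T) (snd G T ≫ lift (1 : T ⟶ G) (𝟙 T)) = 𝟙 _ := by
    change sm (AlgSt.leftMul G T) (fst G T) (snd G T ≫ lift (1 : T ⟶ G) (𝟙 T)) = 𝟙 _
    rw [sm_leftMul]
    simp only [Category.assoc, lift_fst, lift_snd, comp_one, _root_.mul_one, Category.comp_id, lift_fst_snd]
  rw [e1, Category.id_comp, Category.assoc] at h
  exact h

theorem eq_tr {T T' : Over S} (n : tv K aX T ⟶ tv K aX T') : n = tr n.base (al n) := by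
  refine AlgSt.QuotObj.hom_ext rfl ?_
  change ntop n = lift (fst G T * (snd G T ≫ al n)) (snd G T ≫ n.base)
  rw [top_eq, toG_eq]
  rfl

/-- The base of a morphism of trivial torsors. -/
def bs {T T' : Over S} (n : tv K aX T ⟶ tv K aX T') : T ⟶ T' := n.base

theorem al_comp {T T' T'' : Over S} (n : tv K aX T ⟶ tv K aX T') (n' : tv K aX T' ⟶ tv K aX T'') :
    al (n ≫ n') = al n * (bs n ≫ al n') := by
  have h : n ≫ n' = tr (bs n ≫ bs n') (al n * (bs n ≫ al n')) := by
    rw [← tr_comp]
    exact congrArg₂ (fun a b => a ≫ b) (eq_tr n) (eq_tr n')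
  rw [h, al_tr]

/-- A torsor with a section is trivial. -/
theorem exists_tv {x : AlgSt.QuotObj K G aX} (s : x.base ⟶ x.P) (hs : s ≫ x.π = 𝟙 _) :
    ∃ n : tv K aX x.base ⟶ x, n.base = 𝟙 _ := by
  have hc : IsPullback (sm x.act (fst G x.base) (snd G x.base ≫ s)) (snd G x.base) x.π (𝟙 x.base) := by
    have e1 : sm x.act (fst G x.base) (snd G x.base ≫ s) = (G ◁ s) ≫ x.act.act := by
      rw [sm]
      congr 1
    have h1 : IsPullback (G ◁ s) (snd G x.base) (snd G x.P) s := AlgSt.isPullback_whiskerLeft s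
    have h2 := h1.paste_horiz x.cart
    rw [← e1, hs] at h2
    exact h2
  exact ⟨{ base := 𝟙 _
           top := sm x.act (fst G x.base) (snd G x.base ≫ s)
           eqv := by
            apply eqv_of_sm (a := AlgSt.leftMul G x.base) (a' := x.act)
            intro T g p
            rw [sm_leftMul, comp_sm, comp_sm, lift_fst, lift_snd_assoc, sm_mul]
            simp only [Category.assoc]
           cart := hc
           wφ := Subsingleton.elim _ _ }, rfl⟩

end K942.TrivMor
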