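import Groth.Agent.IsoNat.K862.FRep

/-!
# `RepByAlgSpWith (RepWith P) f` as existence of universal objects

`URep P f`: for every object `y` of `𝒴` there is a universal object `l` of `𝒳` with an arrow
`c : f l ⟶ y`, whose base has `P`: every `d : f x ⟶ y` is `f m ≫ c` for exactly one `m : x ⟶ l`.
-/

set_option autoImplicit false
set_option linter.unusedSectionVars false
set_option linter.dupNamespace false
set_option backward.isDefEq.respectTransparency false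
set_option backward.isDefEq.respectTransparency.types false

universe v₂ u₂ v₁ u₁ u

open CategoryTheory CategoryTheory.Limits AlgebraicGeometry Opposite

namespace K942.URep

section

variable {C : Type*} [Category* C] {𝒳 𝒴 : BasedCategory C}

/-- Elementary form of "representable with property `P`". -/
def URep (P : MorphismProperty C) (f : 𝒳 ⥤ᵇ 𝒴) : Prop :=
  ∀ y : 𝒴.obj, ∃ (l : 𝒳.obj) (g : 𝒳.p.obj l ⟶ 𝒴.p.obj y) (c : f.obj l ⟶ y),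
    𝒴.p.IsHomLift g c ∧ P g ∧ ∀ (x : 𝒳.obj) (d : f.obj x ⟶ y), ∃! m : x ⟶ l, f.map m ≫ c = d

end

variable {S : Scheme.{u}} {𝒳 𝒴 : AlgSt.Cat S}

open K862 K862.Fib

theorem exists_rep (P : MorphismProperty Scheme.{u}) {F : AlgSp.Sp S} {T : Over S}
    (π : F ⟶ (AlgSp.yon S).obj T) (h : AlgSp.RepWith P π) :
    ∃ (V : Over S) (g : V ⟶ T) (e : (AlgSp.yon S).obj V ≅ F),
      P g.left ∧ e.hom ≫ π = (AlgSp.yon S).map g := by
  obtain ⟨V, g, fst, hsq⟩ := h.rep (𝟙 ((AlgSp.yon S).obj T))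
  have hP : P g.left := h.2 (𝟙 ((AlgSp.yon S).obj T)) fst g hsq
  have : IsIso fst := by
    have h3 : IsIso (𝟙 ((AlgSp.yon S).obj T)) := inferInstance
    exact hsq.isIso_fst_of_isIso
  refine ⟨V, g, asIso fst, hP, ?_⟩
  simpa using hsq.w

theorem uRep_of_repByAlgSpWith {P : MorphismProperty Scheme.{u}} {f : 𝒳 ⥤ᵇ 𝒴}
    [FibCat.IsFibGrpd 𝒳.p] [FibCat.IsFibGrpd 𝒴.p]
    (h : AlgSt.RepByAlgSpWith (AlgSp.RepWith P) f) :
    URep (P.inverseImage (Over.forget S)) f := by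
  intro y
  obtain ⟨F, R, hP⟩ := exists_fRep h (⟨y, rfl⟩ : 𝒴.p.Fiber (𝒴.p.obj y))
  obtain ⟨V, g, e, hPg, he⟩ := exists_rep P R.π hP
  -- the universal section
  obtain ⟨v, l, c, hc, hs⟩ := R.sec_surj (e.hom.hom.app (op V) ⟨𝟙 V⟩)
  have hπ : ∀ (T' : Over S) (m : T' ⟶ V), R.π.hom.app (op T') (e.hom.hom.app (op T') ⟨m⟩) = ⟨m ≫ g⟩ := by
    intro T' m
    have := congrArg (fun (k : (AlgSp.yon S).obj V ⟶ (AlgSp.yon S).obj (𝒴.p.obj y)) => k.hom.app (op T') ⟨m⟩) he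
    exact this
  have hv : v = g := by
    have h1 := R.sec_π v l c hc
    rw [hs, hπ] at h1
    have h2 := congrArg ULift.down h1
    simpa using h2.symm
  subst hv
  have hnat : ∀ (T' : Over S) (m : T' ⟶ V),
      e.hom.hom.app (op T') ⟨m⟩ = F.obj.obj.map m.op (e.hom.hom.app (op V) ⟨𝟙 V⟩) := by
    intro T' m
    have := congrArg (fun k => k ⟨𝟙 V⟩) (e.hom.hom.naturality m.op)
    refine Eq.trans ?_ this
    change _ = e.hom.hom.app (op T') ⟨m ≫ 𝟙 V⟩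
    rw [Category.comp_id]
  have hinj : ∀ (T' : Over S) (m m' : T' ⟶ V),
      F.obj.obj.map m.op (e.hom.hom.app (op V) ⟨𝟙 V⟩) =
        F.obj.obj.map m'.op (e.hom.hom.app (op V) ⟨𝟙 V⟩) → m = m' := by
    intro T' m m' hmm
    rw [← hnat, ← hnat] at hmm
    have h1 : ∀ z, e.inv.hom.app (op T') (e.hom.hom.app (op T') z) = z := by
      intro z
      exact congrArg (fun (k : (AlgSp.yon S).obj V ⟶ (AlgSp.yon S).obj V) => k.hom.app (op T') z)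
        e.hom_inv_id
    have h2 := congrArg (e.inv.hom.app (op T')) hmm
    rw [h1, h1] at h2
    exact congrArg ULift.down h2
  have hsurj : ∀ (T' : Over S) (s : F.obj.obj.obj (op T')), ∃ m : T' ⟶ V,
      F.obj.obj.map m.op (e.hom.hom.app (op V) ⟨𝟙 V⟩) = s := by
    intro T' s
    refine ⟨(e.inv.hom.app (op T') s).down, ?_⟩
    rw [← hnat]
    exact congrArg (fun (k : F.obj ⟶ F.obj) => k.hom.app (op T') s) e.inv_hom_id
  rw [← hs] at hsurj hinj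
  obtain ⟨l, rfl⟩ := l
  refine ⟨l, v, c, hc, hPg, ?_⟩
  intro x d
  obtain ⟨g', hg'⟩ : ∃ g' : 𝒳.p.obj x ⟶ 𝒴.p.obj y, 𝒴.p.IsHomLift g' d := by
    have h1 : 𝒴.p.obj (f.obj x) = 𝒳.p.obj x := f.w_obj x
    exact ⟨eqToHom h1.symm ≫ 𝒴.p.map d, inferInstance⟩
  -- existence
  have hex : ∃ m : x ⟶ l, f.map m ≫ c = d := by
    obtain ⟨m₀, hm₀⟩ := hsurj (𝒳.p.obj x) (R.sec g' ⟨x, rfl⟩ d hg')
    obtain ⟨x'', c'', hc''⟩ := exists_pull m₀ (⟨l, rfl⟩ : 𝒳.p.Fiber (𝒳.p.obj l))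
    have h1 : 𝒴.p.IsHomLift m₀ (f.map c'') := BasedFunctor.preserves_isHomLift f m₀ c''
    have h2 : 𝒴.p.IsHomLift (m₀ ≫ v) (f.map c'' ≫ c) := inferInstance
    rw [R.sec_map m₀ v x'' ⟨l, rfl⟩ c'' c hc'' hc h2, eq_comm, R.sec_eq_iff] at hm₀
    obtain ⟨θ, hθ⟩ := hm₀
    refine ⟨θ.1 ≫ c'', ?_⟩
    rw [f.toFunctor.map_comp, Category.assoc]
    exact hθ
  obtain ⟨m, hm⟩ := hex
  refine ⟨m, hm, ?_⟩
  intro m' hm'
  -- bases
  have key : ∀ (n : x ⟶ l) (n₀ : 𝒳.p.obj x ⟶ 𝒳.p.obj l) (_ : 𝒳.p.IsHomLift n₀ n) (_ : f.map n ≫ c = d),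
      F.obj.obj.map n₀.op (R.sec v ⟨l, rfl⟩ c hc) = R.sec g' ⟨x, rfl⟩ d hg' := by
    intro n n₀ hn hnd
    have h1 : 𝒴.p.IsHomLift n₀ (f.map n) := BasedFunctor.preserves_isHomLift f n₀ n
    have h2 : 𝒴.p.IsHomLift (n₀ ≫ v) (f.map n ≫ c) := inferInstance
    rw [R.sec_map n₀ v ⟨x, rfl⟩ ⟨l, rfl⟩ n c hn hc h2]
    exact R.sec_congr _ _ hnd
  have hb : ∀ n : x ⟶ l, ∃ n₀ : 𝒳.p.obj x ⟶ 𝒳.p.obj l, 𝒳.p.IsHomLift n₀ n := by
    intro n
    exact ⟨𝒳.p.map n, inferInstance⟩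
  obtain ⟨m₀, hm₀⟩ := hb m
  obtain ⟨m₀', hm₀'⟩ := hb m'
  have hmm : m₀' = m₀ := hinj _ _ _ ((key m' m₀' hm₀' hm').trans (key m m₀ hm₀ hm).symm)
  subst hmm
  -- compare
  have hfl := exists_fill (p := 𝒳.p) m₀' (𝟙 _) (Category.id_comp m₀').symm m m'
  obtain ⟨θ, ⟨hθ1, hθ2⟩, -⟩ := hfl
  let ξ : 𝒳.p.Fiber (𝒳.p.obj x) := ⟨x, rfl⟩
  have hθ3 : (⟨θ, hθ1⟩ : ξ ⟶ ξ) = 𝟙 ξ := by
    refine R.uniq g' ξ ξ _ _ d hg' ?_
    change f.map θ ≫ d = f.map (𝟙 x) ≫ d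
    rw [f.toFunctor.map_id, Category.id_comp]
    nth_rewrite 1 [← hm]
    rw [← Category.assoc, ← f.toFunctor.map_comp, hθ2, hm']
  have hθ4 : θ = 𝟙 x := congrArg Subtype.val hθ3
  rw [← hθ2, hθ4, Category.id_comp]

end K942.URep
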