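import Groth.Agent.Sga3B.RG.FaithRep
import Groth.Agent.Sga3B.RG.Kolchin
import Groth.Agent.BddFin.K844.GaDesc

/-!
# A function equivariant for an additive subgroup of the unipotent radical

`B` a reduced Hopf algebra of finite type over an algebraically closed field `K`, `N ≠ 1` a closed
connected normal unipotent subgroup of the group of points: there are an additive map `q : B → K[X]`
(a homomorphism `j : 𝔾_a → Spec B`), a function `r ∈ B` and a non constant polynomial `P` with
`r (j(c) g) = P(c) + r(g)`.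
-/

set_option autoImplicit false

universe u

open TensorProduct WithConv HopfRep Polynomial Module
open Groth.Agent.Sga3B.RG Groth.Agent.Books
open Groth.Agent.Sga7.H740.GaHom

namespace K942.UnipFn

variable {K : Type u} [Field K] [IsAlgClosed K] {B : Type u} [CommRing B] [HopfAlgebra K B]

/-- The points of an additive map. -/
noncomputable def jp (q : B →ₐ[K] K[X]) (c : K) : Pt K B := toConv ((Polynomial.aeval (R := K) c).comp q)

omit [IsAlgClosed K] in
theorem jp_add {q : B →ₐ[K] K[X]} (hq : IsAdd q) (c d : K) : jp q (c + d) = jp q c * jp q d :=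
  hq K c d

omit [IsAlgClosed K] in
theorem jp_zero {q : B →ₐ[K] K[X]} (hq : IsAdd q) : jp q 0 = 1 := by
  have h := jp_add hq 0 0
  rw [add_zero] at h
  exact left_eq_mul.1 h

omit [IsAlgClosed K] in
theorem jp_apply (q : B →ₐ[K] K[X]) (c : K) (b : B) : (jp q c) b = (q b).eval c := by
  change Polynomial.aeval c (q b) = _
  rw [Polynomial.coe_aeval_eq_eval]

variable [Algebra.FiniteType K B]

/-- A nontrivial connected unipotent group contains an additive subgroup. -/
theorem exists_q {C : Type u} [CommRing C] [HopfAlgebra K C] [Algebra.FiniteType K C] [IsDomain C]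
    (hu : ∀ g : Pt K C, IsUnip g) (hne : ∃ g : Pt K C, g ≠ 1) :
    ∃ q : C →ₐ[K] K[X], Function.Surjective q ∧ IsAdd q := by
  let lid := (Bialgebra.TensorProduct.lid K C).toBialgHom
  let lid' := (Bialgebra.TensorProduct.lid K C).symm.toBialgHom
  have hl : Function.Surjective lid := (Bialgebra.TensorProduct.lid K C).surjective
  have hl' : Function.Surjective lid' := (Bialgebra.TensorProduct.lid K C).symm.surjective
  have hdom' : IsDomain (K ⊗[K] C) :=
    (Algebra.TensorProduct.lid K C).injective.isDomain (Algebra.TensorProduct.lid K C).toAlgHom.toRingHom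
  have hft : Algebra.FiniteType K (K ⊗[K] C) := inferInstance
  refine K844.GaDesc.exists_surj_of_stable (k := K) (K := K)
    (B := C) (fun c _ => ⟨c, rfl⟩) (N := (⊤ : Subgroup (Pt K (K ⊗[K] C)))) (fun g _ => trivial)
    ?_ (fun g _ => ?_) (fun _ _ _ => trivial) ?_
  · have h0 : vanIdeal ((⊤ : Subgroup (Pt K (K ⊗[K] C))) : Set (Pt K (K ⊗[K] C))) = ⊥ := by
      rw [eq_bot_iff]
      intro a ha
      rw [Ideal.mem_bot]
      apply PointsAC.eq_zero_of_forall_point K
      intro p
      exact ha (toConv p) trivial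
    change (vanIdeal _).IsPrime
    rw [h0]
    exact Ideal.isPrime_bot
  · exact isUnip_of_map hl' (hu _)
  · intro htop
    obtain ⟨r, hr⟩ := hne
    apply hr
    have h1 : Pt.map lid r = 1 := by
      rw [← Subgroup.mem_bot, ← htop]; trivial
    exact Pt.map_injective hl (by rw [h1, map_one])

/-- The additive map of a nontrivial closed connected unipotent subgroup. -/
theorem exists_jp {N : Subgroup (Pt K B)} (hcl : IsCl (N : Set (Pt K B)))
    (hconn : IsConn (N : Set (Pt K B))) (hu : ∀ g ∈ N, IsUnip g) (hne : N ≠ ⊥) :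
    ∃ q : B →ₐ[K] K[X], Function.Surjective q ∧ IsAdd q ∧ ∀ c, jp q c ∈ N := by
  have hdom : IsDomain (B ⧸ vanIdeal (N : Set (Pt K B))) :=
    (Ideal.Quotient.isDomain_iff_prime _).2 hconn
  obtain ⟨q', hq', hadd⟩ := exists_q (K := K) (C := B ⧸ vanIdeal (N : Set (Pt K B)))
    (fun g => Groth.Agent.Agf.H624.GaCore.isUnip_quot hcl hu _) (by
      by_contra hcon
      push Not at hcon
      apply hne
      rw [eq_bot_iff]
      intro g hg
      obtain ⟨r, rfl⟩ := Groth.Agent.Agf.H624.GaCore.exists_map_qm N hcl hg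
      rw [hcon r, map_one]
      exact one_mem _)
  refine ⟨q'.comp (Ideal.Quotient.mkₐ K (vanIdeal (N : Set (Pt K B)))),
    hq'.comp (Ideal.Quotient.mkₐ_surjective K (vanIdeal (N : Set (Pt K B)))), ?_, fun c => ?_⟩
  · intro C _ _ x y
    have h3 := AlgHom.convMul_comp_bialgHom_distrib
      (toConv ((Polynomial.aeval (R := K) x).comp q'))
      (toConv ((Polynomial.aeval (R := K) y).comp q')) (Groth.Agent.Agf.H624.GaCore.qm K N)
    rw [← hadd C x y] at h3
    exact congrArg toConv h3
  · exact Groth.Agent.Agf.H624.GaCore.map_qm_mem N hcl (toConv ((Polynomial.aeval (R := K) c).comp q'))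

variable [IsReduced B]

theorem exists_fn {N : Subgroup (Pt K B)} (hn : N.Normal) (hu : ∀ g ∈ N, IsUnip g)
    {q : B →ₐ[K] K[X]} (hq : IsAdd q) (hN : ∀ c, jp q c ∈ N) (hne : ∃ c, jp q c ≠ 1) :
    ∃ (r : B) (P : K[X]), P.eval 0 = 0 ∧ P ≠ 0 ∧
      ∀ (c : K) (g : Pt K B), (jp q c * g) r = P.eval c + g r := by
  classical
  obtain ⟨W, hWf, hW, hgen⟩ := exists_generating_stable K B
  let ρ := subRTr W hW
  have hinj : Function.Injective ρ := subRTr_injective hW hgen
  have halg : IsAlg ρ := isAlg_subRTr hW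
  obtain ⟨r, hr⟩ := exists_uflag_eq_top ρ N (fun n hn => isNilpotent_subRTr hW (hu n hn))
  -- the first step of the flag on which the additive subgroup acts non trivially
  have hex : ∃ i, ∃ c, ∃ v ∈ uflag ρ N i, ρ (jp q c) v ≠ v := by
    obtain ⟨c, hc⟩ := hne
    refine ⟨r, c, ?_⟩
    by_contra hcon
    push Not at hcon
    apply hc
    apply hinj
    rw [map_one]
    ext v
    rw [hcon v (by rw [hr]; trivial)]
    rfl
  let i := Nat.find hex
  obtain ⟨c₀, v₀, hv₀, hcv⟩ := Nat.find_spec hex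
  have hi0 : Nat.find hex ≠ 0 := by
    intro h
    rw [h, uflag_zero, Submodule.mem_bot] at hv₀
    apply hcv
    rw [hv₀, map_zero]
  obtain ⟨i', hi'⟩ := Nat.exists_eq_succ_of_ne_zero hi0
  have hmin : ∀ c, ∀ v ∈ uflag ρ N i', ρ (jp q c) v = v := by
    intro c v hv
    have := Nat.find_min hex (m := i') (by omega)
    push Not at this
    exact this c v hv
  rw [hi'] at hv₀
  let C := uflag ρ N i'
  have hC : ∀ g, ∀ v ∈ C, ρ g v ∈ C := fun g v hv => uflag_stable ρ N hn i' g hv
  have hV : ∀ g, ρ g v₀ ∈ uflag ρ N (i' + 1) := fun g => uflag_stable ρ N hn (i' + 1) g hv₀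
  have hVC : ∀ v ∈ uflag ρ N (i' + 1), ∀ n ∈ N, ρ n v - v ∈ C := fun v hv n hn => mem_uflag_succ.1 hv n hn
  -- a projection along `C`
  obtain ⟨D, hD⟩ := Submodule.exists_isCompl C
  let t : W →ₗ[K] W := D.subtype ∘ₗ D.projectionOnto C hD.symm
  have htC : ∀ v ∈ C, t v = 0 := by
    intro v hv
    change ((D.projectionOnto C hD.symm v : D) : W) = 0
    rw [(Submodule.projectionOnto_apply_eq_zero_iff hD.symm).2 hv]
    rfl
  have ht : ∀ v, t v - v ∈ C := by
    intro v
    rw [← Submodule.ker_projectionOnto hD.symm, LinearMap.mem_ker, map_sub, sub_eq_zero]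
    exact Submodule.projectionOnto_apply_left hD.symm _
  -- the function
  obtain ⟨lam, hlam⟩ : ∃ lam : Module.Dual K W, lam (ρ (jp q c₀) v₀ - v₀) ≠ 0 := by
    by_contra hcon
    push Not at hcon
    exact hcv (sub_eq_zero.1 ((Module.forall_dual_apply_eq_zero_iff K _).1 hcon))
  let b := Module.finBasis K W
  choose a ha using fun k => halg lam (b k)
  choose d hd using fun k => halg (b.coord k ∘ₗ t) v₀
  obtain ⟨a₀, ha₀⟩ := halg lam v₀
  let R : B := ∑ k, HopfAlgebra.antipode K (d k) * a k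
  have hR : ∀ g : Pt K B, g R = lam (ρ g (t (ρ g⁻¹ v₀))) := by
    intro g
    have h1 : t (ρ g⁻¹ v₀) = ∑ k, (g⁻¹ (d k)) • b k := by
      conv_lhs => rw [← b.sum_repr (t (ρ g⁻¹ v₀))]
      refine Finset.sum_congr rfl fun k _ => ?_
      rw [← hd k g⁻¹]
      rfl
    have h2 : g.ofConv R = ∑ k, g.ofConv (HopfAlgebra.antipode K (d k) * a k) := map_sum _ _ _
    have h3 : lam (ρ g (∑ k, (g⁻¹ (d k)) • b k)) = ∑ k, lam (ρ g ((g⁻¹ (d k)) • b k)) := by
      rw [map_sum, map_sum]
    rw [h1, h3]
    refine h2.trans (Finset.sum_congr rfl fun k _ => ?_)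
    rw [map_mul, map_smul, map_smul, smul_eq_mul, ha k g]
    rfl
  refine ⟨R, q a₀ - Polynomial.C (lam v₀), ?_, ?_, ?_⟩
  · rw [Polynomial.eval_sub, Polynomial.eval_C, ← jp_apply, ← ha₀, jp_zero hq, map_one,
      Module.End.one_apply, sub_self]
  · intro h0
    apply hlam
    have h1 := congrArg (Polynomial.eval c₀) h0
    rw [Polynomial.eval_sub, Polynomial.eval_C, ← jp_apply, ← ha₀, Polynomial.eval_zero] at h1
    rw [map_sub, h1]
  · intro c g
    rw [hR, hR, Polynomial.eval_sub, Polynomial.eval_C, ← jp_apply, ← ha₀]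
    -- the lift of `v₀` is unchanged
    have h1 : t (ρ (jp q c * g)⁻¹ v₀) = t (ρ g⁻¹ v₀) := by
      have h2 : ρ (jp q c * g)⁻¹ v₀ - ρ g⁻¹ v₀ ∈ C := by
        rw [mul_inv_rev, map_mul, Module.End.mul_apply, ← map_sub]
        exact hC _ _ (hVC v₀ hv₀ _ (inv_mem (hN c)))
      rw [← sub_eq_zero, ← map_sub]
      exact htC _ h2
    rw [h1, map_mul, Module.End.mul_apply]
    -- it is congruent to `v₀` modulo `C`
    have h3 : ρ g (t (ρ g⁻¹ v₀)) - v₀ ∈ C := by
      have h4 : v₀ = ρ g (ρ g⁻¹ v₀) := by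
        rw [← Module.End.mul_apply, ← map_mul, mul_inv_cancel, map_one, Module.End.one_apply]
      have h6 := hC g _ (ht (ρ g⁻¹ v₀))
      rw [map_sub, ← h4] at h6
      exact h6
    have h5 := hmin c _ h3
    rw [map_sub, sub_eq_iff_eq_add] at h5
    rw [h5, map_add, map_sub]
    ring

end K942.UnipFn
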