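import Groth.Agent.ThetaS.K942.GNot2
import Groth.Agent.ThetaS.K942.UnipFn

/-!
# Non reductive groups: `B G` is not S-complete
-/

set_option autoImplicit false
set_option linter.dupNamespace false
set_option linter.style.haveILetI false
set_option backward.isDefEq.respectTransparency false
set_option backward.isDefEq.respectTransparency.types false

universe u

open CategoryTheory MonoidalCategory CartesianMonoidalCategory MonObj AlgebraicGeometry Opposite
open TensorProduct WithConv HopfRep Polynomial
open Groth.Agent.Sga3B.RG Groth.Agent.Books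
open Groth.Agent.Sga7.H740.GaHom

namespace K942.UnipJR

open UnipFn K951.Pts EqGeom GNot

attribute [local instance] K951.Pts.algΓ

variable {K : Type u} [Field K] {B : Type u} [CommRing B] [HopfAlgebra K B]

section univ

variable [IsAlgClosed K] [Algebra.FiniteType K B] [IsReduced B]

theorem eq_of_forall_pt {A D : Type u} [CommRing A] [Algebra K A] [Algebra.FiniteType K A]
    [CommRing D] [Algebra K D] [Algebra.FiniteType K D]
    [IsReduced A] [IsReduced D] (s t : A ⊗[K] D)
    (h : ∀ (f : A →ₐ[K] K) (g : D →ₐ[K] K),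
      Algebra.TensorProduct.lift f g (fun _ _ => .all _ _) s =
        Algebra.TensorProduct.lift f g (fun _ _ => .all _ _) t) : s = t := by
  have h1 : IsReduced (A ⊗[K] D) := PointsAC.isReduced_tensorProduct K A D
  have h3 : Algebra.FiniteType K (A ⊗[K] D) :=
    Algebra.FiniteType.trans (S := A) inferInstance inferInstance
  rw [← sub_eq_zero]
  apply PointsAC.eq_zero_of_forall_point K
  intro p
  have h2 : p = Algebra.TensorProduct.lift (p.comp Algebra.TensorProduct.includeLeft)
      (p.comp Algebra.TensorProduct.includeRight) (fun _ _ => .all _ _) := by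
    ext <;> simp
  rw [h2, map_sub, h, sub_self]

theorem comul_eq {q : B →ₐ[K] K[X]} {r : B} {P : K[X]}
    (h : ∀ (c : K) (g : Pt K B), (jp q c * g) r = P.eval c + g r) :
    Algebra.TensorProduct.map q (AlgHom.id K B) (CoalgebraStruct.comul (R := K) r) =
      P ⊗ₜ[K] (1 : B) + (1 : K[X]) ⊗ₜ[K] r := by
  apply eq_of_forall_pt
  intro f g
  have h1 : f = Polynomial.aeval (f X) := by ext; simp
  have h2 := h (f X) (toConv g)
  rw [Pt.mul_apply] at h2
  have h3 : Algebra.TensorProduct.lift f g (fun _ _ => .all _ _)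
      (Algebra.TensorProduct.map q (AlgHom.id K B) (CoalgebraStruct.comul (R := K) r)) =
      Algebra.TensorProduct.lift (f.comp q) g (fun _ _ => .all _ _) (CoalgebraStruct.comul (R := K) r) := by
    have : (Algebra.TensorProduct.lift f g (fun _ _ => .all _ _)).comp
        (Algebra.TensorProduct.map q (AlgHom.id K B)) =
        Algebra.TensorProduct.lift (f.comp q) g (fun _ _ => .all _ _) := by
      ext <;> simp
    exact congrArg (fun φ => φ (CoalgebraStruct.comul (R := K) r)) this
  rw [h3, map_add, Algebra.TensorProduct.lift_tmul, Algebra.TensorProduct.lift_tmul, map_one, map_one,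
    _root_.mul_one, _root_.one_mul]
  have h4 : Algebra.TensorProduct.lift (f.comp q) g (fun _ _ => .all _ _) (CoalgebraStruct.comul (R := K) r) =
      Algebra.TensorProduct.lift (jp q (f X)).ofConv (toConv g).ofConv (fun _ _ ↦ .all ..)
        (CoalgebraStruct.comul (R := K) r) := by
    conv_lhs => rw [h1]
    rfl
  rw [h4, h2]
  conv_rhs => rw [h1]
  rw [Polynomial.coe_aeval_eq_eval]

theorem lift_eq {q : B →ₐ[K] K[X]} {r : B} {P : K[X]}
    (h : ∀ (c : K) (g : Pt K B), (jp q c * g) r = P.eval c + g r)
    {C : Type u} [CommRing C] [Algebra K C] (x : C) (w : B →ₐ[K] C) :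
    Algebra.TensorProduct.lift ((Polynomial.aeval x).comp q) w (fun _ _ => .all _ _)
      (CoalgebraStruct.comul (R := K) r) = Polynomial.aeval x P + w r := by
  have h1 := congrArg (Algebra.TensorProduct.lift (Polynomial.aeval (R := K) x) w (fun _ _ => .all _ _))
    (comul_eq h)
  rw [map_add, Algebra.TensorProduct.lift_tmul, Algebra.TensorProduct.lift_tmul, map_one, map_one,
    _root_.mul_one, _root_.one_mul] at h1
  rw [← h1]
  have : (Algebra.TensorProduct.lift (Polynomial.aeval (R := K) x) w (fun _ _ => .all _ _)).comp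
      (Algebra.TensorProduct.map q (AlgHom.id K B)) =
      Algebra.TensorProduct.lift ((Polynomial.aeval x).comp q) w (fun _ _ => .all _ _) := by
    ext <;> simp
  exact (congrArg (fun φ => φ (CoalgebraStruct.comul (R := K) r)) this).symm

end univ

section scheme

variable [IsAlgClosed K] [Algebra.FiniteType K B] [IsReduced B]

theorem pb_aeval {T T' : Over (Spec (CommRingCat.of K))} (v : T' ⟶ T) (a : Γ(T.left, ⊤)) (P : K[X]) :
    pb v (Polynomial.aeval a P) = Polynomial.aeval (pb v a) P := by
  let φ : Γ(T.left, ⊤) →ₐ[K] Γ(T'.left, ⊤) := { pb v with commutes' := GaFun.pb_algebraMap v }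
  exact (Polynomial.aeval_algHom_apply φ a P).symm

theorem comp_ofFn {T T' : Over (Spec (CommRingCat.of K))} (v : T' ⟶ T) (q : B →ₐ[K] K[X])
    (a : Γ(T.left, ⊤)) : v ≫ ofFn ((Polynomial.aeval a).comp q) =
      ofFn ((Polynomial.aeval (pb v a)).comp q) := by
  apply fn_injective
  rw [fn_ofFn]
  ext b
  rw [fn_comp, fn_ofFn]
  exact pb_aeval v a (q b)

theorem ofFn_add {T : Over (Spec (CommRingCat.of K))} {q : B →ₐ[K] K[X]} (hq : IsAdd q)
    (a b : Γ(T.left, ⊤)) : (ofFn ((Polynomial.aeval (a + b)).comp q) : T ⟶ CoactBr.sp K B) =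
      ofFn ((Polynomial.aeval a).comp q) * ofFn ((Polynomial.aeval b).comp q) := by
  apply fn_injective
  rw [fn_mul, fn_ofFn, fn_ofFn, fn_ofFn]
  apply AlgHom.ext
  intro c
  have h1 := congrArg (fun φ => φ.ofConv c) (hq Γ(T.left, ⊤) a b)
  exact h1.trans (AlgHom.convMul_apply _ _ _)

/-- The polynomial over the functions on the base. -/
noncomputable abbrev PS (P : K[X]) : (Γ(Spec (CommRingCat.of K), ⊤) : Type u)[X] :=
  P.map (Scheme.ΓSpecIso (CommRingCat.of K)).inv.hom

/-- The additive subgroup and the function. -/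
noncomputable def toJR {G : Over (Spec (CommRingCat.of K))} [GrpObj G] (e : G ≅ CoactBr.sp K B)
    [IsMonHom e.hom] {q : B →ₐ[K] K[X]} (hq : IsAdd q) {r : B} {P : K[X]}
    (h : ∀ (c : K) (g : Pt K B), (jp q c * g) r = P.eval c + g r) : JR G (PS P) where
  jf a := ofFn ((Polynomial.aeval a).comp q) ≫ e.inv
  jf_comp v a := by
    rw [← Category.assoc]
    exact congrArg (fun x => x ≫ e.inv) (comp_ofFn v q a)
  jf_add {T} a b := by
    rw [← MonObj.mul_comp]
    exact congrArg (fun x => x ≫ e.inv) (ofFn_add hq a b)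
  rf w := fn (w ≫ e.hom) r
  rf_comp v w := by
    rw [Category.assoc, fn_comp]
  rel {T} a w := by
    rw [MonObj.mul_comp, Category.assoc, Iso.inv_hom_id, Category.comp_id, fn_mul, fn_ofFn]
    have h1 := lift_eq h a (fn (w ≫ e.hom))
    refine h1.trans ?_
    rw [Polynomial.eval₂_map]
    rfl

end scheme

end K942.UnipJR
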